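import Mathlib
import Groth.Prelude.Def_GLin4
import Groth.Prelude.Def_FrameBundle

/-!
# The general linear group is flat of finite presentation
-/

set_option autoImplicit false
set_option linter.all false
set_option backward.isDefEq.respectTransparency false
set_option backward.isDefEq.respectTransparency.types false

universe u

open CategoryTheory CategoryTheory.Limits AlgebraicGeometry CoordGrp

noncomputable section

namespace ThetaBG

variable (n : ℕ) (k : Type u) [CommRing k]

/-- The generic determinant. -/
abbrev detP : MvPolynomial (Fin n × Fin n) k := (Matrix.of fun i j => MvPolynomial.X (i, j)).det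

theorem nonempty_gln_equiv : Nonempty (GLn n k ≃ₐ[k] Localization.Away (detP n k)) := by
  let L := Localization.Away (detP n k)
  let ι : MvPolynomial (Fin n × Fin n) k →ₐ[k] L := IsScalarTower.toAlgHom k _ L
  have hdet : IsUnit (ι.mapMatrix (Matrix.of fun i j => MvPolynomial.X (i, j))).det := by
    rw [← AlgHom.map_det]
    exact IsLocalization.Away.algebraMap_isUnit (S := L) (detP n k)
  let f : GLn n k →ₐ[k] L := GLn.pt n k _ _ hdet.mul_val_inv
  let e : MvPolynomial (Fin n × Fin n) k →ₐ[k] GLn n k := MvPolynomial.aeval fun p => GLn.X p.1 p.2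
  have he : IsUnit (e (detP n k)) := by
    have h : e (detP n k) = GLn.det := by
      rw [GLn.det_eq, detP, AlgHom.map_det]
      congr 1
      ext i j
      simp [e, GLn.genMat]
    rw [h]
    exact IsUnit.of_mul_eq_one _ GLn.det_mul_Dinv
  let g : L →ₐ[k] GLn n k := IsLocalization.Away.liftAlgHom (S := L) (detP n k) (f := e) he
  have hgι : ∀ x, g (ι x) = e x := fun x =>
    IsLocalization.Away.lift_eq (S := L) (detP n k) (g := e.toRingHom) he x
  have hfX : ∀ i j, f (GLn.X i j) = ι (MvPolynomial.X (i, j)) := fun i j => GLn.pt_X _ _ _ i j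
  have hgf : g.comp f = AlgHom.id k _ := by
    have hX : ∀ i j, g.comp f (GLn.X i j) = GLn.X i j := fun i j => by
      rw [AlgHom.comp_apply, hfX, hgι]; simp [e]
    refine GLn.algHom_ext hX ?_
    have hd : g.comp f GLn.det = GLn.det := by
      rw [GLn.det_eq, AlgHom.map_det]
      congr 1
      ext i j
      exact hX i j
    refine (IsUnit.of_mul_eq_one _ (GLn.det_mul_Dinv (n := n) (k := k))).mul_left_cancel ?_
    calc GLn.det * g.comp f GLn.Dinv = g.comp f GLn.det * g.comp f GLn.Dinv := by rw [hd]
      _ = GLn.det * GLn.Dinv := by rw [← map_mul, GLn.det_mul_Dinv, map_one]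
  have hfg : f.comp g = AlgHom.id k _ := by
    refine AlgHom.coe_ringHom_injective (IsLocalization.ringHom_ext (Submonoid.powers (detP n k)) ?_)
    refine RingHom.ext fun x => ?_
    show f (g (ι x)) = ι x
    rw [hgι]
    exact AlgHom.congr_fun (MvPolynomial.algHom_ext (f := f.comp e) (g := ι) fun p => by
      simp only [AlgHom.comp_apply, e, MvPolynomial.aeval_X]; exact hfX p.1 p.2) x
  exact ⟨AlgEquiv.ofAlgHom f g hfg hgf⟩

theorem flat_gln : Module.Flat k (GLn n k) := by
  obtain ⟨e⟩ := nonempty_gln_equiv n k
  haveI : Module.Flat (MvPolynomial (Fin n × Fin n) k) (Localization.Away (detP n k)) :=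
    IsLocalization.flat _ (Submonoid.powers (detP n k))
  haveI : Module.Flat k (Localization.Away (detP n k)) :=
    Module.Flat.trans k (MvPolynomial (Fin n × Fin n) k) _
  exact Module.Flat.of_linearEquiv e.toLinearEquiv

theorem fp_gln : Algebra.FinitePresentation k (GLn n k) := by
  obtain ⟨e⟩ := nonempty_gln_equiv n k
  haveI : Algebra.FinitePresentation (MvPolynomial (Fin n × Fin n) k) (Localization.Away (detP n k)) :=
    IsLocalization.Away.finitePresentation (detP n k)
  haveI : Algebra.FinitePresentation k (Localization.Away (detP n k)) :=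
    Algebra.FinitePresentation.trans k (MvPolynomial (Fin n × Fin n) k) _
  exact Algebra.FinitePresentation.equiv e.symm

variable (S : Scheme.{u})

theorem flat_hom_GLn : Flat (FrB.GLn n S).hom := by
  haveI : Flat (FrB.GLZ.{u} n).hom :=
    (HasRingHomProperty.Spec_iff (P := @Flat)
      (φ := CommRingCat.ofHom (algebraMap (ULift.{u} ℤ) (GLn n (ULift.{u} ℤ))))).2
      (RingHom.flat_algebraMap_iff.2 (flat_gln n _))
  exact inferInstanceAs (Flat (pullback.snd (FrB.GLZ.{u} n).hom (IsTerminal.from specULiftZIsTerminal S)))

theorem lfp_hom_GLn : LocallyOfFinitePresentation (FrB.GLn n S).hom := by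
  haveI : LocallyOfFinitePresentation (FrB.GLZ.{u} n).hom :=
    (HasRingHomProperty.Spec_iff (P := @LocallyOfFinitePresentation)
      (φ := CommRingCat.ofHom (algebraMap (ULift.{u} ℤ) (GLn n (ULift.{u} ℤ))))).2
      (RingHom.finitePresentation_algebraMap.2 (fp_gln n _))
  exact inferInstanceAs
    (LocallyOfFinitePresentation (pullback.snd (FrB.GLZ.{u} n).hom (IsTerminal.from specULiftZIsTerminal S)))

end ThetaBG
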