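import Groth.Agent.ThetaBGLib.Glue
import Groth.Agent.ThetaBGaLib.Twist

/-!
# Morphisms of trivial objects by pairs of points
-/

set_option autoImplicit false
set_option linter.all false
set_option backward.isDefEq.respectTransparency false
set_option backward.isDefEq.respectTransparency.types false
set_option maxHeartbeats 800000

universe u

open CategoryTheory CategoryTheory.Limits MonoidalCategory CartesianMonoidalCategory MonObj AlgebraicGeometry
open Opposite FibCat LiftAffLib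

noncomputable section

attribute [-instance] CategoryTheory.Hom.commGroup

namespace ThetaBG

theorem isUnit_of_basicOpen {Z : Scheme.{u}} (f : Γ(Z, ⊤)) (h : Z.basicOpen f = ⊤) : IsUnit f := by
  have key : ∀ W : Z.Opens, W = ⊤ → IsUnit (ThetaBGa.rsc W f) → IsUnit f := by
    rintro W rfl hW
    have e : ThetaBGa.rsc (⊤ : Z.Opens) = 𝟙 _ := Z.presheaf.map_id _
    rw [e] at hW
    exact hW
  exact key _ h (ThetaBGa.isUnit_rsc f)

local notation "𝕜" => Scheme.fppfPrecoverage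

variable {S' S : Scheme.{u}} {h : S' ⟶ S} {H X : Over S'} [GrpObj H] {aX : AlgGrp.Action H X}
  {a b : Γ(X.left, ⊤)} {T T' T'' : Over S'} {x : T ⟶ X} {x' : T' ⟶ X} {x'' : T'' ⟶ X}
  {hx : Punct a b (tr aX x)} {hx' : Punct a b (tr aX x')} {hx'' : Punct a b (tr aX x'')}

theorem lift_φ_tr (g : T ⟶ H) (t : T ⟶ T') : lift g t ≫ (tr aX x').φ = lift g (t ≫ x') ≫ aX.act := by
  change lift g t ≫ (H ◁ x') ≫ aX.act = _
  rw [← Category.assoc, QuotStLib.lift_whisker]

/-- The morphism of a group element and a map of bases. -/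
abbrev mk (g : T ⟶ H) (t : T ⟶ T') (e : lift g (t ≫ x') ≫ aX.act = x) :
    ptr (h := h) x hx ⟶ ptr x' hx' :=
  ObjectProperty.homMk (LiftAffLib.hom (tr aX x') (lift g t) x ((lift_φ_tr g t).trans e))

theorem pt_mk (g : T ⟶ H) (t : T ⟶ T') (e : lift g (t ≫ x') ≫ aX.act = x) :
    pt (mk (h := h) (hx := hx) (hx' := hx') g t e).hom = lift g t :=
  pt_hom (tr aX x') (lift g t) x ((lift_φ_tr g t).trans e)

theorem base_mk (g : T ⟶ H) (t : T ⟶ T') (e : lift g (t ≫ x') ≫ aX.act = x) :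
    (mk (h := h) (hx := hx) (hx' := hx') g t e).hom.base = t :=
  lift_snd g t

theorem map_base_mk (g : T ⟶ H) (t : T ⟶ T') (e : lift g (t ≫ x') ≫ aX.act = x) :
    (Pn h aX a b).p.map (mk (h := h) (hx := hx) (hx' := hx') g t e) = (Over.map h).map t :=
  congrArg (Over.map h).map (base_mk (h := h) (hx := hx) (hx' := hx') g t e)

theorem exists_pt_eq (n : ptr (h := h) x hx ⟶ ptr x' hx') :
    ∃ (g : T ⟶ H) (t : T ⟶ T'), pt n.hom = lift g t ∧ lift g (t ≫ x') ≫ aX.act = x := by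
  let p : T ⟶ H ⊗ T' := pt n.hom
  have e : p = lift (p ≫ fst H T') (p ≫ snd H T') := (lift_comp_fst_snd p).symm
  refine ⟨p ≫ fst H T', p ≫ snd H T', e, ?_⟩
  · rw [← lift_φ_tr, ← e]
    show (lift (1 : T ⟶ H) (𝟙 T) ≫ n.hom.top) ≫ (tr aX x').φ = x
    rw [Category.assoc, n.hom.wφ, lift_one_φ, Category.id_comp]

theorem ptr_hom_ext {n n' : ptr (h := h) x hx ⟶ ptr x' hx'} (e : pt n.hom = pt n'.hom) : n = n' :=
  ObjectProperty.hom_ext _ (pt_inj e)

theorem pt_comp_ptr (m : ptr (h := h) x hx ⟶ ptr x' hx') (k : ptr (h := h) x' hx' ⟶ ptr x'' hx'')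
    {g : T ⟶ H} {t : T ⟶ T'} (hm : pt m.hom = lift g t) {g' : T' ⟶ H} {t' : T' ⟶ T''}
    (hk : pt k.hom = lift g' t') : pt (m ≫ k).hom = lift (g * (t ≫ g')) (t ≫ t') := by
  obtain ⟨g₀, t₀, h₀, e₀⟩ := exists_pt_eq k
  have ek : k.hom = LiftAffLib.hom (tr aX x'') (pt k.hom) x' (by
      rw [h₀, lift_φ_tr]; exact e₀) :=
    pt_inj (pt_hom _ _ _ _).symm
  show pt (m.hom ≫ k.hom) = _
  rw [ek, pt_comp_hom g t _ hm, hk, comp_lift]
  show lift g (lift (t ≫ g') (t ≫ t')) ≫ (AlgSt.leftMul H T'').act = _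
  simp [AlgSt.leftMul, comp_lift, comp_mul]

theorem map_base_of_pt (m : ptr (h := h) x hx ⟶ ptr x' hx') {g : T ⟶ H} {t : T ⟶ T'} (hm : pt m.hom = lift g t) :
    (Pn h aX a b).p.map m = (Over.map h).map t := by
  obtain ⟨g₀, t₀, h₀, e₀⟩ := exists_pt_eq m
  have e : m = mk g₀ t₀ e₀ := ptr_hom_ext (h₀.trans (pt_mk _ _ _).symm)
  have ht : t₀ = t := by
    have := congrArg (· ≫ snd H T') (h₀.symm.trans hm)
    simpa using this
  rw [e, map_base_mk, ht]

/-- Morphisms into a point with trivial stabiliser are unique. -/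
theorem unique_to_point (ht : ∀ (Z : Over S') (s s' : Z ⟶ T'), s = s')
    (hg : ∀ (Z : Over S') (g g' : Z ⟶ H) (s : Z ⟶ T'),
      lift g (s ≫ x') ≫ aX.act = lift g' (s ≫ x') ≫ aX.act → g = g')
    (n n' : ptr (h := h) x hx ⟶ ptr x' hx') : n = n' := by
  obtain ⟨g, t, hn, e⟩ := exists_pt_eq n
  obtain ⟨g', t', hn', e'⟩ := exists_pt_eq n'
  obtain rfl := ht _ t t'
  obtain rfl := hg _ g g' t (e.trans e'.symm)
  exact ptr_hom_ext (hn.trans hn'.symm)

end ThetaBG
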