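import Groth.Agent.ThetaBGLib.Setup
import Groth.Agent.ThetaBGLib.Hom

/-!
# The classifying stack of the general linear group is S-complete
-/

set_option autoImplicit false
set_option linter.all false
set_option backward.isDefEq.respectTransparency false
set_option backward.isDefEq.respectTransparency.types false
set_option maxHeartbeats 1200000

universe u

open CategoryTheory CategoryTheory.Limits MonoidalCategory CartesianMonoidalCategory MonObj AlgebraicGeometry
open Opposite FibCat LiftAffLib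
open scoped TensorProduct

noncomputable section

attribute [-instance] CategoryTheory.Hom.commGroup

namespace ThetaBG

variable {R : Type u} [CommRing R] {π : R} {T T' : Over (Spec (CommRingCat.of R))}

/-- The point `T ⟶ Spec R`. -/
theorem pt_base_unique (s s' : T ⟶ CoactBr.sp R R) : s = s' := by
  refine crd_injective (RingHom.ext fun r => ?_)
  have h := crd_algebraMap (B := R) s r
  have h' := crd_algebraMap (B := R) s' r
  rw [Algebra.algebraMap_self, RingHom.id_apply] at h h'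
  exact h.trans h'.symm

theorem nonempty_pt_base : Nonempty (T ⟶ CoactBr.sp R R) := by
  obtain ⟨f, -⟩ := exists_crd (B := R) (T := T) (cst T) (fun r => by simp)
  exact ⟨f⟩

theorem crd_comp_pt' {A B : Type u} [CommRing A] [CommRing B] [Algebra R A] [Algebra R B] (f : T ⟶ CoactBr.sp R A)
    (φ : B →ₐ[R] A) (q : B) : crd (f ≫ CoactBr.pt φ) q = crd f (φ q) :=
  RingHom.congr_fun (crd_pt f φ) q

theorem crd_st_act [IsDomain R] (g : T ⟶ ThetaS.Gm R) (x : T ⟶ ThetaS.STSch R π) :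
    crd (lift g x ≫ (ThetaS.stAction R π).act) (ThetaS.sFn R π) = zu g 1 * crd x (ThetaS.sFn R π) ∧
      crd (lift g x ≫ (ThetaS.stAction R π).act) (ThetaS.tFn R π) = zu g (-1) * crd x (ThetaS.tFn R π) := by
  obtain ⟨α, hα, hs, ht⟩ := exists_act_pt (R := R) (π := π) (K := ThetaS.Lau R ⊗[R] ThetaS.STRing R π)
    (Algebra.TensorProduct.includeLeft : ThetaS.Lau R →ₐ[R] ThetaS.Lau R ⊗[R] ThetaS.STRing R π)
    Algebra.TensorProduct.includeRight
  obtain ⟨θ, h1, h2⟩ := exists_crd_act (A := ThetaS.Lau R) (B := ThetaS.STRing R π)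
    (act := (ThetaS.stAction R π).act) hα g x
  constructor
  · rw [h2, hs]
    show θ ((ThetaS.zPow R 1 ⊗ₜ[R] (1 : ThetaS.STRing R π)) * ((1 : ThetaS.Lau R) ⊗ₜ[R] ThetaS.sFn R π)) = _
    rw [Algebra.TensorProduct.tmul_mul_tmul, _root_.mul_one, _root_.one_mul, h1]
  · rw [h2, ht]
    show θ ((ThetaS.zPow R (-1) ⊗ₜ[R] (1 : ThetaS.STRing R π)) * ((1 : ThetaS.Lau R) ⊗ₜ[R] ThetaS.tFn R π)) = _
    rw [Algebra.TensorProduct.tmul_mul_tmul, _root_.mul_one, _root_.one_mul, h1]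

theorem st_ext {x x' : T ⟶ ThetaS.STSch R π} (hs : crd x (ThetaS.sFn R π) = crd x' (ThetaS.sFn R π))
    (ht : crd x (ThetaS.tFn R π) = crd x' (ThetaS.tFn R π)) : x = x' := by
  refine crd_injective (Ideal.Quotient.ringHom_ext (MvPolynomial.ringHom_ext (fun r => ?_) fun i => ?_))
  · exact (crd_algebraMap x r).trans (crd_algebraMap x' r).symm
  · fin_cases i
    · exact hs
    · exact ht

theorem crd_s_mul_t (x : T ⟶ ThetaS.STSch R π) :
    crd x (ThetaS.sFn R π) * crd x (ThetaS.tFn R π) = cst T π := by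
  rw [← map_mul, ThetaS.sFn_mul_tFn, crd_algebraMap]

theorem preimage_stFn (x : T ⟶ ThetaS.STSch R π) (q : ThetaS.STRing R π) :
    x.left ⁻¹ᵁ (ThetaS.STSch R π).left.basicOpen (ThetaS.stFn q) = T.left.basicOpen (crd x q) :=
  preimage_bo _ _

variable (π) in
/-- The point `(1, π)`. -/
abbrev xS : CoactBr.sp R R ⟶ ThetaS.STSch R π :=
  CoactBr.pt (ThetaS.stPt (1 : R) π (by simp))

variable (π) in
/-- The point `(π, 1)`. -/
abbrev xT : CoactBr.sp R R ⟶ ThetaS.STSch R π :=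
  CoactBr.pt (ThetaS.stPt π (1 : R) (by simp))

theorem crd_base (s : T ⟶ CoactBr.sp R R) (r : R) : crd s r = cst T r := by
  have h := crd_algebraMap (B := R) s r
  rwa [Algebra.algebraMap_self, RingHom.id_apply] at h

theorem crd_xS (s : T ⟶ CoactBr.sp R R) :
    crd (s ≫ xS π) (ThetaS.sFn R π) = 1 ∧ crd (s ≫ xS π) (ThetaS.tFn R π) = cst T π := by
  constructor
  · rw [crd_comp_pt', ThetaS.stPt_sFn, map_one]
  · rw [crd_comp_pt', ThetaS.stPt_tFn, crd_base]

theorem crd_xT (s : T ⟶ CoactBr.sp R R) :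
    crd (s ≫ xT π) (ThetaS.sFn R π) = cst T π ∧ crd (s ≫ xT π) (ThetaS.tFn R π) = 1 := by
  constructor
  · rw [crd_comp_pt', ThetaS.stPt_sFn, crd_base]
  · rw [crd_comp_pt', ThetaS.stPt_tFn, map_one]

section Main

variable [IsDomain R] [IsDiscreteValuationRing R] {S : Scheme.{u}} (h : Spec (CommRingCat.of R) ⟶ S) {n : ℕ}

/-- The two functions. -/
abbrev fs (π : R) : Γ((ThetaS.STSch R π).left, ⊤) := ThetaS.stFn (ThetaS.sFn R π)

/-- The two functions. -/
abbrev ft (π : R) : Γ((ThetaS.STSch R π).left, ⊤) := ThetaS.stFn (ThetaS.tFn R π)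

theorem punct_xS (hπ : Prime π) : Punct (fs π) (ft π) (tr (ThetaS.stAction R π) (xS π)) := by
  refine punct_tr (semiReg_st hπ) _ ?_
  rw [preimage_stFn, ← Category.id_comp (xS π), (crd_xS (π := π) (𝟙 _)).1, Scheme.basicOpen_of_isUnit _ isUnit_one]
  exact top_sup_eq _

theorem punct_xT (hπ : Prime π) : Punct (fs π) (ft π) (tr (ThetaS.stAction R π) (xT π)) := by
  refine punct_tr (semiReg_st hπ) _ ?_
  rw [preimage_stFn, preimage_stFn, ← Category.id_comp (xT π), (crd_xT (π := π) (𝟙 _)).2,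
    Scheme.basicOpen_of_isUnit _ isUnit_one]
  exact sup_top_eq _

/-- The inclusion of the generic point. -/
abbrev iK (R K : Type u) [CommRing R] [CommRing K] [Algebra R K] : CoactBr.sp R K ⟶ CoactBr.sp R R :=
  CoactBr.pt (Algebra.ofId R K)

theorem punct_xK (hπ : Prime π) (K : Type u) [CommRing K] [Algebra R K] :
    Punct (fs π) (ft π) (tr (ThetaS.stAction R π) (iK R K ≫ xS π)) :=
  punct_of_hom (tmap (aX := ThetaS.stAction R π) (iK R K) (xS π) _ rfl) (punct_xS hπ)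

theorem eqn_xS_s {g : T ⟶ ThetaS.Gm R} {s : T ⟶ CoactBr.sp R R} {x : T ⟶ ThetaS.STSch R π}
    (e : lift g (s ≫ xS π) ≫ (ThetaS.stAction R π).act = x) :
    crd x (ThetaS.sFn R π) = zu g 1 := by
  rw [← e, (crd_st_act g _).1, (crd_xS s).1, _root_.mul_one]

theorem eqn_xT_t {g : T ⟶ ThetaS.Gm R} {s : T ⟶ CoactBr.sp R R} {x : T ⟶ ThetaS.STSch R π}
    (e : lift g (s ≫ xT π) ≫ (ThetaS.stAction R π).act = x) :
    crd x (ThetaS.tFn R π) = zu g (-1) := by
  rw [← e, (crd_st_act g _).2, (crd_xT s).2, _root_.mul_one]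

theorem gm_ext_neg {g g' : T ⟶ ThetaS.Gm R} (e : zu g (-1) = zu g' (-1)) : g = g' := by
  refine gm_ext ?_
  refine (isUnit_zu g (-1)).mul_left_cancel ?_
  rw [← zu_add, e, ← zu_add]
  simp [zu_zero]

theorem unique_xS (hπ : Prime π) (x : T ⟶ ThetaS.STSch R π) (hx : Punct (fs π) (ft π) (tr (ThetaS.stAction R π) x))
    (k k' : ptr (h := h) x hx ⟶ ptr (xS π) (punct_xS hπ)) : k = k' :=
  unique_to_point (fun Z s s' => pt_base_unique s s')
    (fun Z g g' s e => gm_ext ((eqn_xS_s rfl).symm.trans ((congrArg (fun q => crd q (ThetaS.sFn R π)) e).trans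
      (eqn_xS_s rfl)))) k k'

theorem unique_xT (hπ : Prime π) (x : T ⟶ ThetaS.STSch R π) (hx : Punct (fs π) (ft π) (tr (ThetaS.stAction R π) x))
    (k k' : ptr (h := h) x hx ⟶ ptr (xT π) (punct_xT hπ)) : k = k' :=
  unique_to_point (fun Z s s' => pt_base_unique s s')
    (fun Z g g' s e => gm_ext_neg ((eqn_xT_t rfl).symm.trans ((congrArg (fun q => crd q (ThetaS.tFn R π)) e).trans
      (eqn_xT_t rfl)))) k k'

theorem nonempty_to_xS (hπ : Prime π) (x : T ⟶ ThetaS.STSch R π)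
    (hx : Punct (fs π) (ft π) (tr (ThetaS.stAction R π) x)) (hu : IsUnit (crd x (ThetaS.sFn R π))) :
    Nonempty (ptr (h := h) x hx ⟶ ptr (xS π) (punct_xS hπ)) := by
  obtain ⟨s⟩ := nonempty_pt_base (T := T)
  obtain ⟨g, hg⟩ := exists_gm (T := T) hu.unit
  rw [IsUnit.unit_spec] at hg
  refine ⟨mk g s (st_ext ?_ ?_)⟩
  · rw [(crd_st_act g _).1, (crd_xS s).1, _root_.mul_one, hg]
  · rw [(crd_st_act g _).2, (crd_xS s).2, ← crd_s_mul_t x, ← hg, ← _root_.mul_assoc, ← zu_add, neg_add_cancel, zu_zero,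
      _root_.one_mul]

theorem nonempty_to_xT (hπ : Prime π) (x : T ⟶ ThetaS.STSch R π)
    (hx : Punct (fs π) (ft π) (tr (ThetaS.stAction R π) x)) (hu : IsUnit (crd x (ThetaS.tFn R π))) :
    Nonempty (ptr (h := h) x hx ⟶ ptr (xT π) (punct_xT hπ)) := by
  obtain ⟨s⟩ := nonempty_pt_base (T := T)
  obtain ⟨g, hg⟩ := exists_gm (T := T) hu.unit⁻¹
  have hg' : zu g 1 * crd x (ThetaS.tFn R π) = 1 := by rw [hg]; exact hu.val_inv_mul
  have hg1 : crd x (ThetaS.tFn R π) = zu g (-1) := by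
    calc crd x (ThetaS.tFn R π) = zu g (-1) * (zu g 1 * crd x (ThetaS.tFn R π)) := by
          rw [← _root_.mul_assoc, ← zu_add, neg_add_cancel, zu_zero, _root_.one_mul]
      _ = _ := by rw [hg', _root_.mul_one]
  refine ⟨mk g s (st_ext ?_ ?_)⟩
  · rw [(crd_st_act g _).1, (crd_xT s).1, ← crd_s_mul_t x, mul_left_comm, hg', _root_.mul_one]
  · rw [(crd_st_act g _).2, (crd_xT s).2, _root_.mul_one, hg1]

variable (K : Type u) [Field K] [Algebra R K] [IsFractionRing R K]

theorem nonempty_to_xK (hπ : Irreducible π) (x : T ⟶ ThetaS.STSch R π)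
    (hx : Punct (fs π) (ft π) (tr (ThetaS.stAction R π) x))
    (k : ptr (h := h) x hx ⟶ ptr (xS π) (punct_xS hπ.prime))
    (k' : ptr (h := h) x hx ⟶ ptr (xT π) (punct_xT hπ.prime)) :
    Nonempty (ptr (h := h) x hx ⟶ ptr (iK R K ≫ xS π) (punct_xK hπ.prime K)) := by
  obtain ⟨g, s, -, e⟩ := exists_pt_eq k
  obtain ⟨g', s', -, e'⟩ := exists_pt_eq k'
  have hπu : IsUnit (cst T π) := by
    rw [← crd_s_mul_t x]
    exact (eqn_xS_s e ▸ isUnit_zu g 1).mul (eqn_xT_t e' ▸ isUnit_zu g' (-1))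
  have hu : ∀ r : nonZeroDivisors R, IsUnit (cst T r) := fun r => by
    obtain ⟨m, w, hw⟩ := exists_mul_isUnit R hπ (nonZeroDivisors.ne_zero r.2)
    rw [hw, map_mul, map_pow]
    exact (w.isUnit.map _).mul (hπu.pow m)
  obtain ⟨f, hf⟩ := exists_crd (B := K) (T := T) (IsLocalization.lift hu) fun r => IsLocalization.lift_eq hu r
  refine ⟨mk g f ?_⟩
  rw [← Category.assoc, pt_base_unique (f ≫ iK R K) s, e]

variable [IsAffineHom (FrB.GLn n S).hom]

/-- Extensions exist. -/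
theorem exists_extension_st (hπ : Irreducible π)
    (c : Pn h (ThetaS.stAction R π) (fs π) (ft π) ⥤ᵇ W (FrB.GLn n S)) :
    ∃ τ : ThetaS.overS h (AlgSt.QuotSt Scheme.fppfPrecoverage (ThetaS.Gm R) (ThetaS.stAction R π)) ⥤ᵇ W (FrB.GLn n S),
      Nonempty (BasedFunctor.comp (incl (a := fs π) (b := ft π)) τ ≅ c) := by
  haveI := affine_gm R
  haveI := flat_gm R
  haveI := lfp_gm R
  haveI := flat_hom_GLn n S
  haveI := lfp_hom_GLn n S
  haveI : IsAffine (ThetaS.STSch R π).left := inferInstanceAs (IsAffine (Spec _))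
  have hsr := semiReg_st (R := R) hπ.prime
  let K := FractionRing R
  let Ps : (Pn h (ThetaS.stAction R π) (fs π) (ft π)).obj := ptr (xS π) (punct_xS hπ.prime)
  let Pt : (Pn h (ThetaS.stAction R π) (fs π) (ft π)).obj := ptr (xT π) (punct_xT hπ.prime)
  let PK : (Pn h (ThetaS.stAction R π) (fs π) (ft π)).obj := ptr (iK R K ≫ xS π) (punct_xK hπ.prime K)
  obtain ⟨qs⟩ := exists_fr c Ps R rfl
  obtain ⟨qt⟩ := exists_fr c Pt R rfl
  have hπ0 : algebraMap R K π ≠ 0 :=
    IsFractionRing.to_map_ne_zero_of_mem_nonZeroDivisors (mem_nonZeroDivisors_of_ne_zero hπ.ne_zero)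
  obtain ⟨gK, hgK⟩ := exists_gm_of_unit (R := R) (C := K) (Units.mk0 _ hπ0)⁻¹
  have hgK' : zu gK 1 * cst (CoactBr.sp R K) π = 1 := by
    refine (Scheme.ΓSpecIso (CommRingCat.of K)).commRingCatIsoToRingEquiv.injective ?_
    show (Scheme.ΓSpecIso (CommRingCat.of K)).hom _ = (Scheme.ΓSpecIso (CommRingCat.of K)).hom _
    rw [map_mul, map_one, hgK, zpow_one, cst_sp, ← CommRingCat.comp_apply, Iso.inv_hom_id]
    simp [hπ0]
  let ns : PK ⟶ Ps := mk 1 (iK R K) (QuotStLib.act_one _ _)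
  let nt : PK ⟶ Pt := mk gK (iK R K) (by
    refine st_ext ?_ ?_
    · rw [(crd_st_act gK _).1, (crd_xT _).1, (crd_xS _).1, hgK']
    · rw [(crd_st_act gK _).2, (crd_xT _).2, (crd_xS _).2, _root_.mul_one]
      calc zu gK (-1) = zu gK (-1) * (zu gK 1 * cst (CoactBr.sp R K) π) := by rw [hgK', _root_.mul_one]
        _ = _ := by rw [← _root_.mul_assoc, ← zu_add, neg_add_cancel, zu_zero, _root_.one_mul])
  obtain ⟨qK, hqK⟩ := exists_pullFr ns qs
  obtain ⟨dK, hdK⟩ := exists_tr nt qK qt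
  obtain ⟨U, V, m, hU, hV, he⟩ := exists_cartan R hπ (mS h K dK) (isUnit_mS dK)
  obtain ⟨zs, hzs⟩ := exists_mS_eq (h := h) (C := R) U hU
  obtain ⟨zt, hzt⟩ := exists_mS_eq (h := h) (C := R) V⁻¹ (Matrix.isUnit_nonsing_inv_det V hV)
  let Λ := diagCoch (S := S) h (fun i => - m i)
  let c' : Pn h (ThetaS.stAction R π) (fs π) (ft π) ⥤ᵇ W (FrB.GLn n S) := twP Λ _
  let rs : Fr c' Ps := frTw Λ (xS π) (punct_xS hπ.prime)
  let rt : Fr c' Pt := frTw Λ (xT π) (punct_xT hπ.prime)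
  let rK : Fr c' PK := frTw Λ (iK R K ≫ xS π) (punct_xK hπ.prime K)
  have hrs : Tr ns rK rs (Λ.app 1) := tr_frTw Λ ns 1 (iK R K) (pt_mk _ _ _)
  have hrt : Tr nt rK rt (Λ.app gK) := tr_frTw Λ nt gK (iK R K) (pt_mk _ _ _)
  obtain ⟨θs, hθs⟩ := exists_vert qs rs zs
  obtain ⟨θt, hθt⟩ := exists_vert qt rt zt
  have hbs : (Pn h (ThetaS.stAction R π) (fs π) (ft π)).p.map ns = (Over.map h).map (iK R K) := map_base_mk _ _ _
  have hbt : (Pn h (ThetaS.stAction R π) (fs π) (ft π)).p.map nt = (Over.map h).map (iK R K) := map_base_mk _ _ _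
  have hA : Coincide θs θs := coincide_of_unique (fun T x hx k k' => unique_xS h hπ.prime x hx k k') θs
  have hB : Coincide θt θt := coincide_of_unique (fun T x hx k k' => unique_xT h hπ.prime x hx k k') θt
  have hAB : Coincide θs θt := by
    refine coincide_of_overlap ns nt (fun T x hx k k' => nonempty_to_xK h K hπ x hx k k') hA hB fun σ σ' k k' => ?_
    refine eq_of_cmp hθs hθt hqK hrs hdK hrt ?_ k k'
    rw [hbs, hbt, Λ.app_one, inv_one, _root_.mul_one, _root_.one_mul]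
    refine mS_injective (h := h) (C := K) ?_
    rw [mS_mul, mS_mul, mS_inv, mS_comp, mS_comp, hzs, hzt, mS_diagCoch]
    have hD : Matrix.diagonal (fun i => (Scheme.ΓSpecIso (CommRingCat.of K)).hom (zu gK (-m i))) =
        Matrix.diagonal fun i => algebraMap R K π ^ m i := by
      congr 1
      funext i
      rw [hgK, Units.val_zpow_eq_zpow_val, Units.val_inv_eq_inv_val, Units.val_mk0, inv_zpow, zpow_neg, inv_inv]
    rw [hD, he]
    have hVi : V.map (algebraMap R K) * (V⁻¹).map (algebraMap R K) = 1 := by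
      rw [← Matrix.map_mul, Matrix.mul_nonsing_inv _ hV, Matrix.map_one _ (map_zero _) (map_one _)]
    have hDu : IsUnit (Matrix.diagonal fun i => algebraMap R K π ^ m i).det := by
      rw [Matrix.det_diagonal]
      exact isUnit_iff_ne_zero.2 (Finset.prod_ne_zero_iff.2 fun i _ => zpow_ne_zero _ hπ0)
    show U.map (algebraMap R K) = U.map (algebraMap R K) * _ * V.map (algebraMap R K) * (V⁻¹).map (algebraMap R K) * _
    rw [Matrix.mul_assoc _ (V.map (algebraMap R K)), hVi, Matrix.mul_one, Matrix.mul_assoc,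
      Matrix.mul_nonsing_inv _ hDu, Matrix.mul_one]
  obtain ⟨ea⟩ := nonempty_to_xS h hπ.prime (oi ((ThetaS.STSch R π).left.basicOpen (fs π))) (punctA hsr)
    (isUnit_of_basicOpen _ (by rw [← preimage_stFn]; exact preimage_oi _))
  obtain ⟨eb⟩ := nonempty_to_xT h hπ.prime (oi ((ThetaS.STSch R π).left.basicOpen (ft π))) (punctB hsr)
    (isUnit_of_basicOpen _ (by rw [← preimage_stFn]; exact preimage_oi _))
  obtain ⟨e⟩ := nonempty_iso_of_points hsr ea eb hA hB hAB
  exact ⟨tw (ThetaS.stAction R π) Λ, ⟨e.symm⟩⟩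

/-- The classifying stack is S-complete. -/
theorem isSCompleteOver_BGLn (S : Scheme.{u}) (n : ℕ) [IsAffineHom (FrB.GLn n S).hom] :
    ThetaS.IsSCompleteOver Scheme.fppfPrecoverage (AlgSt.BG Scheme.fppfPrecoverage (FrB.GLn n S)) := by
  intro R _ _ _ π hπ h
  haveI := affine_gm R
  haveI := flat_gm R
  haveI := lfp_gm R
  haveI := flat_hom_GLn n S
  haveI := lfp_hom_GLn n S
  haveI : IsAffine (ThetaS.STSch R π).left := inferInstanceAs (IsAffine (Spec _))
  exact liftsUniquely_of_exists (semiReg_st hπ.prime) fun c => exists_extension_st h hπ c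

end Main

end ThetaBG
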