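import Groth.Agent.ThetaBGLib.Graded

/-!
# The substitutions as maps of algebras
-/

set_option autoImplicit false
set_option backward.isDefEq.respectTransparency false
set_option linter.all false

universe u

open LaurentPolynomial
open scoped Polynomial

noncomputable section

namespace ThetaBG

variable {R : Type u} [CommRing R] {K : Type u} [Field K] [Algebra R K]

theorem algebraMap_LA (r : R) : algebraMap R (LA K) r = C (Polynomial.C (algebraMap R K r)) := rfl

theorem algebraMap_LB (r : R) : algebraMap R (LB K) r = C (C (Polynomial.C (algebraMap R K r))) := rfl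

variable (R K) in
/-- The scaling. -/
def aZX : K[X] →ₐ[R] LA K where
  toRingHom := zX
  commutes' r := by
    show zX (Polynomial.C (algebraMap R K r)) = C (Polynomial.C (algebraMap R K r))
    subst_simp

variable (R K) in
/-- The constants. -/
def aC : K[X] →ₐ[R] LA K where
  toRingHom := C
  commutes' r := rfl

variable (R K) in
/-- The product. -/
def aA : LA K →ₐ[R] LB K where
  toRingHom := sA
  commutes' r := by
    show sA (C (Polynomial.C (algebraMap R K r))) = C (C (Polynomial.C (algebraMap R K r)))
    subst_simp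

variable (R K) in
/-- The first. -/
def aB : LA K →ₐ[R] LB K where
  toRingHom := sB
  commutes' r := by
    show sB (C (Polynomial.C (algebraMap R K r))) = C (C (Polynomial.C (algebraMap R K r)))
    subst_simp

variable (R K) in
/-- The second. -/
def aC' : LA K →ₐ[R] LB K where
  toRingHom := sC
  commutes' r := by
    show sC (C (Polynomial.C (algebraMap R K r))) = C (C (Polynomial.C (algebraMap R K r)))
    subst_simp

theorem coe_aZX : ⇑(aZX R K) = ⇑(zX (K := K)) := rfl
theorem coe_aC : ⇑(aC R K) = ⇑(C : K[X] →+* LA K) := rfl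
theorem coe_aA : ⇑(aA R K) = ⇑(sA (K := K)) := rfl
theorem coe_aB : ⇑(aB R K) = ⇑(sB (K := K)) := rfl
theorem coe_aC' : ⇑(aC' R K) = ⇑(sC (K := K)) := rfl

theorem aZX_X : aZX R K Polynomial.X = T 1 * C Polynomial.X := by
  show zX Polynomial.X = _
  subst_simp

theorem aC_X : aC R K Polynomial.X = C Polynomial.X := rfl

theorem sA_zX : (sA (K := K)).comp zX = sB.comp zX := by
  refine Polynomial.ringHom_ext (fun c => ?_) ?_
  · subst_simp
  · subst_simp
    ring

theorem sB_C : (sB (K := K)).comp C = sC.comp zX := by
  refine Polynomial.ringHom_ext (fun c => ?_) ?_ <;> subst_simp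

theorem sA_C : (sA (K := K)).comp C = sC.comp C := by
  refine Polynomial.ringHom_ext (fun c => ?_) ?_ <;> subst_simp

theorem aA_T : aA R K (T 1) = aB R K (T 1) * aC' R K (T 1) := by
  show sA (T 1 : LA K) = sB (T 1) * sC (T 1)
  subst_simp

theorem aA_aZX : aA R K (aZX R K Polynomial.X) = aB R K (aZX R K Polynomial.X) :=
  RingHom.congr_fun sA_zX _

theorem aB_aC : aB R K (aC R K Polynomial.X) = aC' R K (aZX R K Polynomial.X) :=
  RingHom.congr_fun sB_C _

theorem aA_aC : aA R K (aC R K Polynomial.X) = aC' R K (aC R K Polynomial.X) :=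
  RingHom.congr_fun sA_C _

variable (R K) in
/-- Evaluation at one. -/
def aEv : K[X] →ₐ[R] K := (Polynomial.aeval (1 : K)).restrictScalars R

theorem aEv_apply (p : K[X]) : aEv R K p = p.eval 1 := Polynomial.aeval_def 1 p

theorem aEv_X : aEv R K (Polynomial.X : K[X]) = 1 := Polynomial.aeval_X _

theorem zX_X_pow (c : K) (k : ℕ) :
    zX (Polynomial.C c * Polynomial.X ^ k) = T (k : ℤ) * C (Polynomial.C c * Polynomial.X ^ k) := by
  have h1 : zX (Polynomial.C c) = (C (Polynomial.C c) : LA K) := by subst_simp
  have h2 : zX (Polynomial.X : K[X]) = T 1 * C Polynomial.X := by subst_simp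
  rw [map_mul, map_pow, map_mul, map_pow, h1, h2, mul_pow, T_pow, mul_one, mul_left_comm]

/-- An equivariant automorphism with given value at one. -/
theorem exists_graded_aut {n : ℕ} {d : Fin n → ℤ} (hd : Antitone d) (B : Matrix (Fin n) (Fin n) K)
    (hB : B.BlockTriangular id) (hu : IsUnit B.det) :
    ∃ H : Matrix (Fin n) (Fin n) K[X], IsUnit H.det ∧ H.map (fun p => p.eval 1) = B ∧
      H.map zX * Matrix.diagonal (fun i => T (d i)) = Matrix.diagonal (fun i => T (d i)) * H.map C := by
  let H : Matrix (Fin n) (Fin n) K[X] :=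
    Matrix.of fun i j => Polynomial.C (B i j) * Polynomial.X ^ (d i - d j).toNat
  have hH : H.BlockTriangular id := fun i j hij => by simp [H, hB hij]
  refine ⟨H, ?_, ?_, ?_⟩
  · rw [Matrix.det_of_upperTriangular hH]
    have e : ∀ i, H i i = Polynomial.C (B i i) := fun i => by simp [H]
    simp only [e, ← map_prod, ← Matrix.det_of_upperTriangular hB]
    exact hu.map Polynomial.C
  · ext i j
    simp [H]
  · ext i j : 1
    rw [Matrix.mul_diagonal, Matrix.diagonal_mul]
    by_cases h : B i j = 0
    · simp [H, h]
    · have hij : i ≤ j := not_lt.1 fun hlt => h (hB hlt)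
      have hk : (((d i - d j).toNat : ℕ) : ℤ) = d i - d j := Int.toNat_of_nonneg (sub_nonneg.2 (hd hij))
      show zX (Polynomial.C (B i j) * Polynomial.X ^ (d i - d j).toNat) * T (d j) =
        T (d i) * C (Polynomial.C (B i j) * Polynomial.X ^ (d i - d j).toNat)
      rw [zX_X_pow, hk, mul_right_comm, ← T_add, sub_add_cancel]

end ThetaBG
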