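import Groth.Agent.ThetaBGLib.LinePts
import Groth.Agent.ThetaBGLib.LaurentSub

/-!
# The classifying stack of the general linear group is Theta-complete
-/

set_option autoImplicit false
set_option linter.all false
set_option backward.isDefEq.respectTransparency false
set_option backward.isDefEq.respectTransparency.types false
set_option maxHeartbeats 1600000

universe u

open CategoryTheory CategoryTheory.Limits MonoidalCategory CartesianMonoidalCategory MonObj AlgebraicGeometry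
open Opposite FibCat LiftAffLib
open scoped TensorProduct Polynomial

noncomputable section

attribute [-instance] CategoryTheory.Hom.commGroup

namespace ThetaBG

variable {R : Type u} [CommRing R] {T T' : Over (Spec (CommRingCat.of R))}

section Affine

variable {A : Type u} [CommRing A] [Algebra R A]

theorem sp_gamma_ext {a b : Γ((CoactBr.sp R A).left, ⊤)}
    (h : (Scheme.ΓSpecIso (CommRingCat.of A)).hom a = (Scheme.ΓSpecIso (CommRingCat.of A)).hom b) : a = b :=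
  (Scheme.ΓSpecIso (CommRingCat.of A)).commRingCatIsoToRingEquiv.injective h

theorem gamma_hom_inv (a : A) :
    (Scheme.ΓSpecIso (CommRingCat.of A)).hom ((Scheme.ΓSpecIso (CommRingCat.of A)).inv a) = a := by
  rw [← CommRingCat.comp_apply, Iso.inv_hom_id]
  rfl

theorem val_pt {B : Type u} [CommRing B] [Algebra R B] (φ : B →ₐ[R] A) (q : B) :
    (Scheme.ΓSpecIso (CommRingCat.of A)).hom (crd (CoactBr.pt φ) q) = φ q := by
  rw [crd_pt', gamma_hom_inv]

theorem val_pt_comp {B C : Type u} [CommRing B] [Algebra R B] [CommRing C] [Algebra R C] (φ : B →ₐ[R] A)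
    (ψ : C →ₐ[R] B) (q : C) :
    (Scheme.ΓSpecIso (CommRingCat.of A)).hom (crd (CoactBr.pt φ ≫ CoactBr.pt ψ) q) = φ (ψ q) := by
  rw [crd_comp_pt, val_pt]

theorem val_zu_comp {B : Type u} [CommRing B] [Algebra R B] (φ : B →ₐ[R] A) (g : CoactBr.sp R B ⟶ ThetaS.Gm R)
    (m : ℤ) :
    (Scheme.ΓSpecIso (CommRingCat.of A)).hom (zu (CoactBr.pt φ ≫ g) m) =
      φ ((Scheme.ΓSpecIso (CommRingCat.of B)).hom (zu g m)) := by
  rw [zu_comp]
  have hn := Scheme.ΓSpecIso_naturality (CommRingCat.ofHom φ.toRingHom)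
  have := congrArg (fun ψ => (ConcreteCategory.hom ψ) (zu g m)) hn
  rw [CoactBr.pt_left]
  exact this

end Affine

variable [IsDomain R] {ϖ : R} {S : Scheme.{u}} (h : Spec (CommRingCat.of R) ⟶ S) {n : ℕ}
  {K : Type u} [Field K] [Algebra R K] [IsFractionRing R K]

variable (R K) in
/-- The tautological point of the line over the field. -/
abbrev xb : CoactBr.sp R K[X] ⟶ ThetaS.Line R := CoactBr.pt (ThetaS.linePt (Polynomial.X : K[X]))

variable (R K) in
/-- The scaled tautological point. -/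
abbrev xV : CoactBr.sp R (LA K) ⟶ ThetaS.Line R := CoactBr.pt (ThetaS.linePt (aZX R K Polynomial.X))

variable (R K) in
/-- The twice scaled tautological point. -/
abbrev xW : CoactBr.sp R (LB K) ⟶ ThetaS.Line R := CoactBr.pt (ThetaS.linePt (aA R K (aZX R K Polynomial.X)))

variable (R K) in
/-- The generic point of the open orbit. -/
abbrev xK : CoactBr.sp R K ⟶ ThetaS.Line R := CoactBr.pt (Algebra.ofId R K) ≫ x1 R

theorem crd_pt_linePt {A : Type u} [CommRing A] [Algebra R A] (f : T ⟶ CoactBr.sp R A) (a : A) :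
    crd (f ≫ CoactBr.pt (ThetaS.linePt a)) Polynomial.X = crd f a := by
  rw [crd_comp_pt, Polynomial.aeval_X]

theorem isUnit_cst_of_pt (hϖ : ϖ ≠ 0) {A : Type u} [CommRing A] [Algebra R A] [Algebra K A] [IsScalarTower R K A]
    (f : T ⟶ CoactBr.sp R A) : IsUnit (cst T ϖ) := by
  rw [← crd_algebraMap f ϖ, IsScalarTower.algebraMap_apply R K A]
  exact ((isUnit_iff_ne_zero.2 (IsFractionRing.to_map_ne_zero_of_mem_nonZeroDivisors
    (mem_nonZeroDivisors_of_ne_zero hϖ))).map (algebraMap K A)).map (crd f)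

theorem punct_xb (hϖ : ϖ ≠ 0) : Punct (fX R) (fC ϖ) (tr (ThetaS.lineAction R) (xb R K)) :=
  punct_line_C hϖ _ (isUnit_cst_of_pt (K := K) hϖ (𝟙 _))

theorem punct_xV (hϖ : ϖ ≠ 0) : Punct (fX R) (fC ϖ) (tr (ThetaS.lineAction R) (xV R K)) :=
  punct_line_C hϖ _ (isUnit_cst_of_pt (K := K) hϖ (𝟙 _))

theorem punct_xW (hϖ : ϖ ≠ 0) : Punct (fX R) (fC ϖ) (tr (ThetaS.lineAction R) (xW R K)) :=
  punct_line_C hϖ _ (isUnit_cst_of_pt (K := K) hϖ (𝟙 _))

theorem punct_xK' (hϖ : ϖ ≠ 0) : Punct (fX R) (fC ϖ) (tr (ThetaS.lineAction R) (xK R K)) :=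
  punct_line_C hϖ _ (isUnit_cst_of_pt (K := K) hϖ (𝟙 _))

theorem punct_x1 (hϖ : ϖ ≠ 0) : Punct (fX R) (fC ϖ) (tr (ThetaS.lineAction R) (x1 R)) :=
  punct_line_X hϖ _ (by rw [← Category.id_comp (x1 R), crd_x1]; exact isUnit_one)

theorem unique_x1 (hϖ : ϖ ≠ 0) (x : T ⟶ ThetaS.Line R) (hx : Punct (fX R) (fC ϖ) (tr (ThetaS.lineAction R) x))
    (k k' : ptr (h := h) x hx ⟶ ptr (x1 R) (punct_x1 hϖ)) : k = k' :=
  unique_to_point (fun Z s s' => crd_injective (RingHom.ext fun r => by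
      have e := crd_algebraMap (B := R) s r
      have e' := crd_algebraMap (B := R) s' r
      rw [Algebra.algebraMap_self, RingHom.id_apply] at e e'
      exact e.trans e'.symm))
    (fun Z g g' s e => gm_ext (by
      have := congrArg (fun q => crd q Polynomial.X) e
      simpa [crd_line_act, crd_x1] using this)) k k'

theorem crd_K_ext {f f' : T ⟶ CoactBr.sp R K} : f = f' :=
  crd_injective (IsLocalization.ringHom_ext (nonZeroDivisors R) (RingHom.ext fun r =>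
    (crd_algebraMap f r).trans (crd_algebraMap f' r).symm))

theorem crd_KX_ext {f f' : T ⟶ CoactBr.sp R K[X]} (hX : crd f Polynomial.X = crd f' Polynomial.X) : f = f' := by
  refine crd_injective (Polynomial.ringHom_ext (fun c => ?_) hX)
  have e := crd_K_ext (f := f ≫ CoactBr.pt (IsScalarTower.toAlgHom R K K[X]))
    (f' := f' ≫ CoactBr.pt (IsScalarTower.toAlgHom R K K[X]))
  have := congrArg (fun q => crd q c) e
  simp only [crd_comp_pt] at this
  exact this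

/-- Two maps to the tautological point factor through the scaling. -/
theorem exists_factor_line (hϖ : ϖ ≠ 0) (zg : CoactBr.sp R (LA K) ⟶ ThetaS.Gm R)
    (hzg : ∀ m : ℤ, (Scheme.ΓSpecIso (CommRingCat.of (LA K))).hom (zu zg m) = LaurentPolynomial.T m)
    (m₀ m₁ : ptr (h := h) (xV R K) (punct_xV hϖ) ⟶ ptr (xb R K) (punct_xb hϖ))
    (h₀ : pt m₀.hom = lift 1 (CoactBr.pt (aZX R K))) (h₁ : pt m₁.hom = lift zg (CoactBr.pt (aC R K)))
    (x : T ⟶ ThetaS.Line R) (hx : Punct (fX R) (fC ϖ) (tr (ThetaS.lineAction R) x))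
    (k k' : ptr (h := h) x hx ⟶ ptr (xb R K) (punct_xb hϖ)) :
    ∃ m : ptr (h := h) x hx ⟶ ptr (xV R K) (punct_xV hϖ), m ≫ m₀ = k ∧ m ≫ m₁ = k' := by
  obtain ⟨g, t, hk, e⟩ := exists_pt_eq k
  obtain ⟨g', t', hk', e'⟩ := exists_pt_eq k'
  rw [line_act_eq_iff, crd_pt_linePt] at e e'
  obtain ⟨w, hw⟩ := exists_crd (B := LA K) (T := T)
    (LaurentPolynomial.eval₂ (crd t') (isUnit_zu (g⁻¹ * g') 1).unit) (fun r => by
      rw [algebraMap_LA, LaurentPolynomial.eval₂_C]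
      exact crd_algebraMap t' r)
  have hwT : crd w (LaurentPolynomial.T 1) = zu (g⁻¹ * g') 1 := by
    rw [hw, LaurentPolynomial.eval₂_T, zpow_one, IsUnit.unit_spec]
  have hwC : ∀ p, crd w (LaurentPolynomial.C p) = crd t' p := fun p => by
    rw [hw, LaurentPolynomial.eval₂_C]
  have hwz : w ≫ zg = g⁻¹ * g' := by
    refine gm_ext ?_
    rw [zu_comp, ← hwT]
    have hn : crd w (LaurentPolynomial.T 1) = w.left.appTop ((Scheme.ΓSpecIso (CommRingCat.of (LA K))).inv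
        (LaurentPolynomial.T 1)) := by
      rw [← crd_id (R := R), ← RingHom.comp_apply, ← crd_comp, Category.comp_id]
    rw [hn, ← hzg 1, ← CommRingCat.comp_apply, Iso.hom_inv_id]
    rfl
  have htX : crd w (aZX R K Polynomial.X) = zu (g⁻¹ * g') 1 * crd t' Polynomial.X := by
    rw [aZX_X, map_mul, hwT, hwC]
  refine ⟨mk g w ?_, ptr_hom_ext ?_, ptr_hom_ext ?_⟩
  · rw [line_act_eq_iff, crd_pt_linePt, htX, ← _root_.mul_assoc, zu_inv_mul]
    exact e'
  · rw [pt_comp_ptr _ _ (pt_mk _ _ _) h₀, hk]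
    refine congrArg₂ lift (by simp) ?_
    · refine crd_KX_ext ?_
      rw [crd_comp_pt, htX]
      refine (isUnit_zu g 1).mul_left_cancel ?_
      rw [← _root_.mul_assoc, zu_inv_mul, e, e']
  · rw [pt_comp_ptr _ _ (pt_mk _ _ _) h₁, hk', hwz]
    refine congrArg₂ lift (mul_inv_cancel_left g g') ?_
    · refine crd_KX_ext ?_
      rw [crd_comp_pt, aC_X, hwC]

theorem nonempty_to_x1 (hϖ : ϖ ≠ 0) (x : T ⟶ ThetaS.Line R)
    (hx : Punct (fX R) (fC ϖ) (tr (ThetaS.lineAction R) x)) (hu : IsUnit (crd x Polynomial.X)) :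
    Nonempty (ptr (h := h) x hx ⟶ ptr (x1 R) (punct_x1 hϖ)) := by
  obtain ⟨s, -⟩ := exists_crd (B := R) (T := T) (cst T) (fun r => by simp)
  obtain ⟨g, hg⟩ := exists_gm (T := T) hu.unit
  rw [IsUnit.unit_spec] at hg
  exact ⟨mk g s (by rw [line_act_eq_iff, crd_x1, _root_.mul_one, hg])⟩

/-- The scaling morphisms. -/
theorem exists_scaling (hϖ : ϖ ≠ 0) :
    ∃ (zg : CoactBr.sp R (LA K) ⟶ ThetaS.Gm R)
      (m₀ m₁ : ptr (h := h) (xV R K) (punct_xV hϖ) ⟶ ptr (xb R K) (punct_xb hϖ))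
      (kA kB kC : ptr (h := h) (xW R K) (punct_xW hϖ) ⟶ ptr (xV R K) (punct_xV hϖ)),
      (∀ m : ℤ, (Scheme.ΓSpecIso (CommRingCat.of (LA K))).hom (zu zg m) = LaurentPolynomial.T m) ∧
      pt m₀.hom = lift 1 (CoactBr.pt (aZX R K)) ∧ pt m₁.hom = lift zg (CoactBr.pt (aC R K)) ∧
      (Pn h (ThetaS.lineAction R) (fX R) (fC ϖ)).p.map kA = (Over.map h).map (CoactBr.pt (aA R K)) ∧
      (Pn h (ThetaS.lineAction R) (fX R) (fC ϖ)).p.map kB = (Over.map h).map (CoactBr.pt (aB R K)) ∧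
      (Pn h (ThetaS.lineAction R) (fX R) (fC ϖ)).p.map kC = (Over.map h).map (CoactBr.pt (aC' R K)) ∧
      kA ≫ m₀ = kB ≫ m₀ ∧ kB ≫ m₁ = kC ≫ m₀ ∧ kA ≫ m₁ = kC ≫ m₁ := by
  obtain ⟨zg, hzg'⟩ := exists_gm_of_unit (R := R) (C := LA K) (tU K[X])
  have hzg : ∀ m : ℤ, (Scheme.ΓSpecIso (CommRingCat.of (LA K))).hom (zu zg m) = LaurentPolynomial.T m := fun m => by
    rw [hzg', val_tU_zpow]
  let zB : CoactBr.sp R (LB K) ⟶ ThetaS.Gm R := CoactBr.pt (aB R K) ≫ zg
  let m₀ : ptr (h := h) (xV R K) (punct_xV hϖ) ⟶ ptr (xb R K) (punct_xb hϖ) := mk 1 (CoactBr.pt (aZX R K)) (by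
    rw [line_act_eq_iff, zu_one, _root_.one_mul, crd_pt_linePt]
    refine sp_gamma_ext ?_
    rw [val_pt, val_pt, Polynomial.aeval_X])
  let m₁ : ptr (h := h) (xV R K) (punct_xV hϖ) ⟶ ptr (xb R K) (punct_xb hϖ) := mk zg (CoactBr.pt (aC R K)) (by
    rw [line_act_eq_iff, crd_pt_linePt]
    refine sp_gamma_ext ?_
    rw [map_mul, hzg, val_pt, val_pt, Polynomial.aeval_X, aZX_X, aC_X])
  let kA : ptr (h := h) (xW R K) (punct_xW hϖ) ⟶ ptr (xV R K) (punct_xV hϖ) := mk 1 (CoactBr.pt (aA R K)) (by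
    rw [line_act_eq_iff, zu_one, _root_.one_mul, crd_pt_linePt]
    refine sp_gamma_ext ?_
    rw [val_pt, val_pt, Polynomial.aeval_X])
  let kB : ptr (h := h) (xW R K) (punct_xW hϖ) ⟶ ptr (xV R K) (punct_xV hϖ) := mk 1 (CoactBr.pt (aB R K)) (by
    rw [line_act_eq_iff, zu_one, _root_.one_mul, crd_pt_linePt]
    refine sp_gamma_ext ?_
    rw [val_pt, val_pt, Polynomial.aeval_X, aA_aZX])
  let kC : ptr (h := h) (xW R K) (punct_xW hϖ) ⟶ ptr (xV R K) (punct_xV hϖ) := mk zB (CoactBr.pt (aC' R K)) (by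
    rw [line_act_eq_iff, crd_pt_linePt]
    refine sp_gamma_ext ?_
    rw [map_mul, val_zu_comp, hzg, val_pt, val_pt, Polynomial.aeval_X, ← aB_aC, ← map_mul, aC_X, ← aZX_X (R := R),
      ← aA_aZX])
  have hm₀ : pt m₀.hom = lift 1 (CoactBr.pt (aZX R K)) := pt_mk _ _ _
  have hm₁ : pt m₁.hom = lift zg (CoactBr.pt (aC R K)) := pt_mk _ _ _
  have e1 : kA ≫ m₀ = kB ≫ m₀ := by
    refine ptr_hom_ext ?_
    rw [pt_comp_ptr _ _ (pt_mk _ _ _) hm₀, pt_comp_ptr _ _ (pt_mk _ _ _) hm₀]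
    refine congrArg₂ lift (by simp) ?_
    · refine crd_KX_ext (sp_gamma_ext ?_)
      rw [val_pt_comp, val_pt_comp, aA_aZX]
  have e2 : kB ≫ m₁ = kC ≫ m₀ := by
    refine ptr_hom_ext ?_
    rw [pt_comp_ptr _ _ (pt_mk _ _ _) hm₁, pt_comp_ptr _ _ (pt_mk _ _ _) hm₀]
    refine congrArg₂ lift (by simp [zB]) ?_
    · refine crd_KX_ext (sp_gamma_ext ?_)
      rw [val_pt_comp, val_pt_comp, aB_aC]
  have e3 : kA ≫ m₁ = kC ≫ m₁ := by
    refine ptr_hom_ext ?_
    rw [pt_comp_ptr _ _ (pt_mk _ _ _) hm₁, pt_comp_ptr _ _ (pt_mk _ _ _) hm₁]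
    refine congrArg₂ lift ?_ ?_
    · refine gm_ext (sp_gamma_ext ?_)
      rw [zu_mul, zu_mul, zu_one, _root_.one_mul, map_mul, val_zu_comp, val_zu_comp, val_zu_comp, hzg, aA_T]
    · refine crd_KX_ext (sp_gamma_ext ?_)
      rw [val_pt_comp, val_pt_comp, aA_aC]
  exact ⟨zg, m₀, m₁, kA, kB, kC, hzg, hm₀, hm₁, map_base_mk _ _ _, map_base_mk _ _ _, map_base_mk _ _ _, e1, e2, e3⟩

variable [IsDiscreteValuationRing R]

theorem nonempty_to_xb (hϖ : Irreducible ϖ) (x : T ⟶ ThetaS.Line R)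
    (hx : Punct (fX R) (fC ϖ) (tr (ThetaS.lineAction R) x)) (hu : IsUnit (cst T ϖ)) :
    Nonempty (ptr (h := h) x hx ⟶ ptr (xb R K) (punct_xb hϖ.ne_zero)) := by
  have hu' : ∀ r : nonZeroDivisors R, IsUnit (cst T r) := fun r => by
    obtain ⟨m, w, hw⟩ := exists_mul_isUnit R hϖ (nonZeroDivisors.ne_zero r.2)
    rw [hw, map_mul, map_pow]
    exact (w.isUnit.map _).mul (hu.pow m)
  obtain ⟨t, ht⟩ := exists_crd (B := K[X]) (T := T)
    (Polynomial.eval₂RingHom (IsLocalization.lift hu' : K →+* _) (crd x Polynomial.X)) fun r => by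
      rw [IsScalarTower.algebraMap_apply R K K[X]]
      show Polynomial.eval₂ _ _ (Polynomial.C (algebraMap R K r)) = _
      rw [Polynomial.eval₂_C, IsLocalization.lift_eq]
  refine ⟨mk 1 t ?_⟩
  rw [line_act_eq_iff, crd_pt_linePt, zu_one, _root_.one_mul, ht]
  exact Polynomial.eval₂_X _ _

variable [IsAffineHom (FrB.GLn n S).hom]

/-- Extensions exist. -/
theorem exists_extension_theta (hϖ : Irreducible ϖ)
    (c : Pn h (ThetaS.lineAction R) (fX R) (fC ϖ) ⥤ᵇ W (FrB.GLn n S)) :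
    ∃ τ : ThetaS.overS h (AlgSt.QuotSt Scheme.fppfPrecoverage (ThetaS.Gm R) (ThetaS.lineAction R)) ⥤ᵇ W (FrB.GLn n S),
      Nonempty (BasedFunctor.comp (incl (a := fX R) (b := fC ϖ)) τ ≅ c) := by
  haveI := affine_gm R
  haveI := flat_gm R
  haveI := lfp_gm R
  haveI := flat_hom_GLn n S
  haveI := lfp_hom_GLn n S
  haveI : IsAffine (ThetaS.Line R).left := inferInstanceAs (IsAffine (Spec _))
  have hϖ0 := hϖ.ne_zero
  have hsr : SemiReg (ThetaS.lineAction R) (fX R) (fC ϖ) := semiReg_line hϖ0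
  let K := FractionRing R
  let P1 : (Pn h (ThetaS.lineAction R) (fX R) (fC ϖ)).obj := ptr (x1 R) (punct_x1 hϖ0)
  let Pb : (Pn h (ThetaS.lineAction R) (fX R) (fC ϖ)).obj := ptr (xb R K) (punct_xb hϖ0)
  let PV : (Pn h (ThetaS.lineAction R) (fX R) (fC ϖ)).obj := ptr (xV R K) (punct_xV hϖ0)
  let PW : (Pn h (ThetaS.lineAction R) (fX R) (fC ϖ)).obj := ptr (xW R K) (punct_xW hϖ0)
  let PK : (Pn h (ThetaS.lineAction R) (fX R) (fC ϖ)).obj := ptr (xK R K) (punct_xK' hϖ0)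
  obtain ⟨q1⟩ := exists_fr c P1 R rfl
  obtain ⟨qb⟩ := exists_fr c Pb K[X] rfl
  obtain ⟨zg, m₀, m₁, kA, kB, kC, hzg, hm₀, hm₁, hpA, hpB, hpC, e1, e2, e3⟩ :=
    exists_scaling (K := K) (ϖ := ϖ) h hϖ0
  -- the cocycle
  obtain ⟨qV, hqV⟩ := exists_pullFr m₀ qb
  obtain ⟨δ, hδ⟩ := exists_tr m₁ qV qb
  obtain ⟨qW, hqW⟩ := exists_pullFr (kA ≫ m₀) qb
  obtain ⟨aA', hA'⟩ := exists_tr kA qW qV
  obtain ⟨aB', hB'⟩ := exists_tr kB qW qV
  obtain ⟨aC₀, hC'⟩ := exists_tr kC qW qV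
  have haA : aA' = 1 := by
    have := (hA'.comp hqV).unique hqW
    simpa using this
  have haB : aB' = 1 := by
    have := ((hB'.comp hqV).congr e1.symm).unique hqW
    simpa using this
  subst haA haB
  have haC : aC₀ = (Pn h (ThetaS.lineAction R) (fX R) (fC ϖ)).p.map kB ≫ δ := by
    have := ((hC'.comp hqV).congr e2.symm).unique (hB'.comp hδ)
    simpa using this
  have hcoc := ((hC'.comp hδ).congr e3.symm).unique (hA'.comp hδ)
  rw [haC, _root_.one_mul, hpA, hpB, hpC] at hcoc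
  let D : Matrix (Fin n) (Fin n) (LA K) := mS h (LA K) δ
  have hD : D.map (sA (K := K)) = D.map (sB (K := K)) * D.map (sC (K := K)) := by
    have := congrArg (mS h (LB K)) hcoc
    rw [mS_mul, mS_comp, mS_comp, mS_comp] at this
    exact this.symm
  obtain ⟨d, P, hd, hP, hDP⟩ := exists_graded_basis (isUnit_mS δ) hD
  -- the overlap
  let ns : PK ⟶ P1 := mk 1 (CoactBr.pt (Algebra.ofId R K)) (QuotStLib.act_one _ _)
  let nb : PK ⟶ Pb := mk 1 (CoactBr.pt (aEv R K)) (by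
    rw [line_act_eq_iff, zu_one, _root_.one_mul, crd_pt_linePt, crd_x1]
    refine sp_gamma_ext ?_
    rw [val_pt, map_one, aEv_X])
  obtain ⟨qK, hqK⟩ := exists_pullFr ns q1
  obtain ⟨dK, hdK⟩ := exists_tr nb qK qb
  let M : Matrix (Fin n) (Fin n) K := mS h K dK * P.map (aEv R K)
  have hM : IsUnit M.det := by
    rw [Matrix.det_mul]
    refine (isUnit_mS dK).mul ?_
    have := hP.map (aEv R K)
    rw [AlgHom.map_det] at this
    exact this
  obtain ⟨U, hU, hT⟩ := exists_iwasawa R hϖ M hM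
  have hUK : IsUnit (U.map (algebraMap R K)).det := by
    have := hU.map (algebraMap R K)
    rw [RingHom.map_det] at this
    exact this
  let B : Matrix (Fin n) (Fin n) K := (U.map (algebraMap R K) * M)⁻¹
  have hTu : IsUnit (U.map (algebraMap R K) * M).det := by rw [Matrix.det_mul]; exact hUK.mul hM
  haveI := Matrix.invertibleOfIsUnitDet _ hTu
  have hB : B.BlockTriangular id := Matrix.blockTriangular_inv_of_blockTriangular hT
  obtain ⟨H, hH, hH1, hHd⟩ := exists_graded_aut hd B hB (Matrix.isUnit_nonsing_inv_det _ hTu)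
  obtain ⟨z1, hz1⟩ := exists_mS_eq (h := h) (C := R) U⁻¹ (Matrix.isUnit_nonsing_inv_det U hU)
  obtain ⟨zb, hzb⟩ := exists_mS_eq (h := h) (C := K[X]) (P * H) (by rw [Matrix.det_mul]; exact hP.mul hH)
  let Λ := diagCoch (S := S) h d
  let c' : Pn h (ThetaS.lineAction R) (fX R) (fC ϖ) ⥤ᵇ W (FrB.GLn n S) := twP Λ _
  let r1 : Fr c' P1 := frTw Λ (x1 R) (punct_x1 hϖ0)
  let rb : Fr c' Pb := frTw Λ (xb R K) (punct_xb hϖ0)
  let rV : Fr c' PV := frTw Λ (xV R K) (punct_xV hϖ0)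
  let rK : Fr c' PK := frTw Λ (xK R K) (punct_xK' hϖ0)
  obtain ⟨θ1, hθ1⟩ := exists_vert q1 r1 z1
  obtain ⟨θb, hθb⟩ := exists_vert qb rb zb
  have hp₀ : (Pn h (ThetaS.lineAction R) (fX R) (fC ϖ)).p.map m₀ = (Over.map h).map (CoactBr.pt (aZX R K)) :=
    map_base_of_pt m₀ hm₀
  have hp₁ : (Pn h (ThetaS.lineAction R) (fX R) (fC ϖ)).p.map m₁ = (Over.map h).map (CoactBr.pt (aC R K)) :=
    map_base_of_pt m₁ hm₁
  have hps : (Pn h (ThetaS.lineAction R) (fX R) (fC ϖ)).p.map ns = (Over.map h).map (CoactBr.pt (Algebra.ofId R K)) := map_base_mk _ _ _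
  have hpb : (Pn h (ThetaS.lineAction R) (fX R) (fC ϖ)).p.map nb = (Over.map h).map (CoactBr.pt (aEv R K)) := map_base_mk _ _ _
  have key : (P * H).map (zX (K := K)) = D * (P * H).map (LaurentPolynomial.C : K[X] →+* LA K) *
      (Matrix.diagonal fun i => (LaurentPolynomial.T (d i) : LA K))⁻¹ := by
    have hdu : IsUnit (Matrix.diagonal fun i => (LaurentPolynomial.T (d i) : LA K)).det := by
      rw [Matrix.det_diagonal]
      exact Finset.prod_induction _ IsUnit (fun _ _ => IsUnit.mul) isUnit_one fun i _ => LaurentPolynomial.isUnit_T _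
    have e : D * (P * H).map (LaurentPolynomial.C : K[X] →+* LA K) =
        (P * H).map (zX (K := K)) * Matrix.diagonal fun i => (LaurentPolynomial.T (d i) : LA K) := by
      rw [Matrix.map_mul, Matrix.map_mul, ← Matrix.mul_assoc, hDP, Matrix.mul_assoc, ← hHd, Matrix.mul_assoc]
    rw [e, Matrix.mul_nonsing_inv_cancel_right _ _ hdu]
  have hA : Coincide θ1 θ1 := coincide_of_unique (fun T x hx k k' => unique_x1 h hϖ0 x hx k k') θ1
  have hB' : Coincide θb θb := by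
    refine coincide_of_pair m₀ m₁ (fun T x hx k k' => exists_factor_line h hϖ0 zg hzg m₀ m₁ hm₀ hm₁ x hx k k') ?_
    intro σ σ' k k'
    refine eq_of_cmp hθb hθb hqV (tr_frTw (hx := punct_xV hϖ0) (hx' := punct_xb hϖ0) Λ m₀ 1 _ hm₀) hδ
      (tr_frTw (hx := punct_xV hϖ0) (hx' := punct_xb hϖ0) Λ m₁ zg _ hm₁) ?_ k k'
    rw [hp₀, hp₁, Λ.app_one, inv_one, _root_.mul_one, _root_.one_mul]
    refine mS_injective (h := h) (C := LA K) ?_
    rw [mS_mul, mS_mul, mS_inv, mS_comp, mS_comp, hzb, mS_diagCoch]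
    simp only [hzg, coe_aZX, coe_aC]
    exact key
  have hAB : Coincide θ1 θb := by
    refine coincide_of_overlap ns nb (fun T x hx k k' => ?_) hA hB' fun σ σ' k k' => ?_
    · obtain ⟨g, s, -, e⟩ := exists_pt_eq k
      obtain ⟨-, t, -, -⟩ := exists_pt_eq k'
      refine ⟨mk g (t ≫ CoactBr.pt (IsScalarTower.toAlgHom R K K[X])) ?_⟩
      rw [line_act_eq_iff] at e ⊢
      rw [← Category.assoc, crd_x1]
      rwa [crd_x1] at e
    · refine eq_of_cmp hθ1 hθb hqK (tr_frTw (hx := punct_xK' hϖ0) (hx' := punct_x1 hϖ0) Λ ns 1 _ (pt_mk _ _ _)) hdK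
        (tr_frTw (hx := punct_xK' hϖ0) (hx' := punct_xb hϖ0) Λ nb 1 _ (pt_mk _ _ _)) ?_ k k'
      rw [hps, hpb, Λ.app_one, inv_one, _root_.mul_one, _root_.mul_one, _root_.one_mul]
      refine mS_injective (h := h) (C := K) ?_
      rw [mS_mul, mS_comp, mS_comp, hz1, hzb, Matrix.map_mul]
      have hH1' : H.map (aEv R K) = B := by
        rw [← hH1]; ext i j; simp [aEv_apply]
      rw [hH1', ← Matrix.mul_assoc]
      show (U⁻¹).map (algebraMap R K) = M * (U.map (algebraMap R K) * M)⁻¹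
      have hUi : (U⁻¹).map (algebraMap R K) = (U.map (algebraMap R K))⁻¹ := by
        refine (Matrix.inv_eq_left_inv ?_).symm
        rw [← Matrix.map_mul, Matrix.nonsing_inv_mul _ hU, Matrix.map_one _ (map_zero _) (map_one _)]
      rw [hUi, Matrix.mul_inv_rev, ← Matrix.mul_assoc, Matrix.mul_nonsing_inv _ hM, Matrix.one_mul]
  obtain ⟨ea⟩ := nonempty_to_x1 h hϖ0 (oi ((ThetaS.Line R).left.basicOpen (fX R))) (punctA hsr)
    (isUnit_of_basicOpen _ (by rw [← preimage_line]; exact preimage_oi _))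
  obtain ⟨eb⟩ := nonempty_to_xb (K := K) h hϖ (oi ((ThetaS.Line R).left.basicOpen (fC ϖ))) (punctB hsr)
    (isUnit_of_basicOpen _ (by rw [← crd_C (oi ((ThetaS.Line R).left.basicOpen (fC ϖ))), ← preimage_line]; exact preimage_oi _))
  obtain ⟨e⟩ := nonempty_iso_of_points hsr ea eb hA hB' hAB
  exact ⟨tw (ThetaS.lineAction R) Λ, ⟨e.symm⟩⟩

/-- The classifying stack is Theta-complete. -/
theorem isThetaComplete_BGLn (S : Scheme.{u}) (n : ℕ) [IsAffineHom (FrB.GLn n S).hom] :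
    ThetaS.IsThetaComplete Scheme.fppfPrecoverage (AlgSt.BG Scheme.fppfPrecoverage (FrB.GLn n S)) := by
  intro R _ _ _ ϖ hϖ h
  haveI := affine_gm R
  haveI := flat_gm R
  haveI := lfp_gm R
  haveI := flat_hom_GLn n S
  haveI := lfp_hom_GLn n S
  haveI : IsAffine (ThetaS.Line R).left := inferInstanceAs (IsAffine (Spec _))
  exact liftsUniquely_of_exists (semiReg_line hϖ.ne_zero) fun c => exists_extension_theta h hϖ c

end ThetaBG
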