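import Groth.Agent.ThetaBGLib.Setup
import Groth.Agent.ThetaBGLib.Hom

/-!
# Points of the affine line with the scaling action
-/

set_option autoImplicit false
set_option linter.all false
set_option backward.isDefEq.respectTransparency false
set_option backward.isDefEq.respectTransparency.types false
set_option maxHeartbeats 800000

universe u

open CategoryTheory CategoryTheory.Limits MonoidalCategory CartesianMonoidalCategory MonObj AlgebraicGeometry
open Opposite FibCat LiftAffLib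
open scoped TensorProduct Polynomial

noncomputable section

attribute [-instance] CategoryTheory.Hom.commGroup

namespace ThetaBG

variable {R : Type u} [CommRing R] {T T' : Over (Spec (CommRingCat.of R))}

/-- The coordinate function. -/
abbrev fX (R : Type u) [CommRing R] : Γ((ThetaS.Line R).left, ⊤) := ThetaS.lineFn (Polynomial.X : R[X])

/-- The constant function. -/
abbrev fC (ϖ : R) : Γ((ThetaS.Line R).left, ⊤) := ThetaS.lineFn (Polynomial.C ϖ)

theorem crd_comp_pt {A B : Type u} [CommRing A] [CommRing B] [Algebra R A] [Algebra R B] (f : T ⟶ CoactBr.sp R A)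
    (φ : B →ₐ[R] A) (q : B) : crd (f ≫ CoactBr.pt φ) q = crd f (φ q) :=
  RingHom.congr_fun (crd_pt f φ) q

theorem line_ext {x x' : T ⟶ ThetaS.Line R} (h : crd x Polynomial.X = crd x' Polynomial.X) : x = x' := by
  refine crd_injective (Polynomial.ringHom_ext (fun r => ?_) h)
  exact (crd_algebraMap x r).trans (crd_algebraMap x' r).symm

theorem crd_line_act (g : T ⟶ ThetaS.Gm R) (x : T ⟶ ThetaS.Line R) :
    crd (lift g x ≫ (ThetaS.lineAction R).act) Polynomial.X = zu g 1 * crd x Polynomial.X := by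
  let lam : ThetaS.Lau R →ₐ[R] ThetaS.Lau R ⊗[R] R[X] := Algebra.TensorProduct.includeLeft
  let t : ThetaS.Lau R ⊗[R] R[X] := 1 ⊗ₜ (Polynomial.X : R[X])
  have hr : (Algebra.TensorProduct.includeRight : R[X] →ₐ[R] ThetaS.Lau R ⊗[R] R[X]) = ThetaS.linePt t := by
    apply Polynomial.algHom_ext; exact (Polynomial.aeval_X t).symm
  have hα : prodPt R (ThetaS.Lau R) R[X] ≫ (ThetaS.lineAction R).act =
      CoactBr.pt (ThetaS.linePt (lam (ThetaS.zPow R 1) * t)) := by
    unfold prodPt
    rw [hr]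
    exact ThetaS.lineAction_pt lam t
  obtain ⟨θ, h1, h2⟩ := exists_crd_act (A := ThetaS.Lau R) (B := R[X]) (act := (ThetaS.lineAction R).act) hα g x
  rw [h2, Polynomial.aeval_X]
  show θ ((ThetaS.zPow R 1 ⊗ₜ[R] (1 : R[X])) * ((1 : ThetaS.Lau R) ⊗ₜ[R] (Polynomial.X : R[X]))) = _
  rw [Algebra.TensorProduct.tmul_mul_tmul, _root_.mul_one, _root_.one_mul, h1]

theorem line_act_eq_iff {g : T ⟶ ThetaS.Gm R} {x y : T ⟶ ThetaS.Line R} :
    lift g x ≫ (ThetaS.lineAction R).act = y ↔ zu g 1 * crd x Polynomial.X = crd y Polynomial.X := by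
  constructor
  · rintro rfl; exact (crd_line_act g x).symm
  · exact fun e => line_ext ((crd_line_act g x).trans e)

theorem zu_one (m : ℤ) : zu (1 : T ⟶ ThetaS.Gm R) m = 1 := by
  have h := zu_mul (1 : T ⟶ ThetaS.Gm R) 1 m
  rw [_root_.one_mul] at h
  exact ((isUnit_zu (1 : T ⟶ ThetaS.Gm R) m).mul_eq_left).1 h.symm

theorem zu_inv_mul (g g' : T ⟶ ThetaS.Gm R) : zu g 1 * zu (g⁻¹ * g') 1 = zu g' 1 := by
  exact (zu_mul g (g⁻¹ * g') 1).symm.trans (congrArg (fun q : T ⟶ ThetaS.Gm R => zu q 1) (mul_inv_cancel_left g g'))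

theorem preimage_line (x : T ⟶ ThetaS.Line R) (q : R[X]) :
    x.left ⁻¹ᵁ (ThetaS.Line R).left.basicOpen (ThetaS.lineFn q) = T.left.basicOpen (crd x q) :=
  preimage_bo _ _

theorem crd_C (x : T ⟶ ThetaS.Line R) (r : R) : crd x (Polynomial.C r) = cst T r :=
  crd_algebraMap x r

variable [IsDomain R]

theorem punct_line_X {ϖ : R} (hϖ : ϖ ≠ 0) (x : T ⟶ ThetaS.Line R) (hx : IsUnit (crd x Polynomial.X)) :
    Punct (fX R) (fC ϖ) (tr (ThetaS.lineAction R) x) := by
  refine punct_tr (semiReg_line hϖ) x ?_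
  rw [preimage_line, Scheme.basicOpen_of_isUnit _ hx]
  exact top_sup_eq _

theorem punct_line_C {ϖ : R} (hϖ : ϖ ≠ 0) (x : T ⟶ ThetaS.Line R) (hT : IsUnit (cst T ϖ)) :
    Punct (fX R) (fC ϖ) (tr (ThetaS.lineAction R) x) := by
  refine punct_tr (semiReg_line hϖ) x ?_
  rw [preimage_line, preimage_line, crd_C, Scheme.basicOpen_of_isUnit _ hT]
  exact sup_top_eq _

variable (R) in
/-- The point `1`. -/
abbrev x1 : CoactBr.sp R R ⟶ ThetaS.Line R := CoactBr.pt (ThetaS.lineOne R)

theorem crd_x1 (s : T ⟶ CoactBr.sp R R) : crd (s ≫ x1 R) Polynomial.X = 1 := by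
  rw [crd_comp_pt, Polynomial.aeval_X, map_one]

end ThetaBG
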