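import Groth.Prelude.Def_GmPts
import Groth.Prelude.Def_CoactBr
import Mathlib.Algebra.Category.Ring.Under.Basic

/-!
# Products of points of affine monoids in coordinates
-/

set_option autoImplicit false
set_option linter.all false
set_option backward.isDefEq.respectTransparency false
set_option backward.isDefEq.respectTransparency.types false

universe u

open CategoryTheory CategoryTheory.Limits MonoidalCategory CartesianMonoidalCategory MonObj AlgebraicGeometry
open scoped TensorProduct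

noncomputable section

namespace ThetaBG

variable {R : Type u} [CommRing R] {A : Type u} [CommRing A]

/-- The ring map of a morphism to an affine scheme. -/
def rh {Z : Scheme.{u}} (f : Z ⟶ Spec (CommRingCat.of A)) : A →+* Γ(Z, ⊤) :=
  ((Scheme.ΓSpecIso (CommRingCat.of A)).inv ≫ f.appTop).hom

theorem rh_comp {Z' Z : Scheme.{u}} (g : Z' ⟶ Z) (f : Z ⟶ Spec (CommRingCat.of A)) :
    rh (g ≫ f) = g.appTop.hom.comp (rh f) := by
  rw [rh, Scheme.Hom.comp_appTop]; rfl

theorem rh_specMap {B : Type u} [CommRing B] (φ : A →+* B) :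
    rh (Spec.map (CommRingCat.ofHom φ)) = ((Scheme.ΓSpecIso (CommRingCat.of B)).inv).hom.comp φ := by
  ext a
  exact (congrArg (fun ψ => (ConcreteCategory.hom ψ) a)
    (Scheme.ΓSpecIso_inv_naturality (CommRingCat.ofHom φ))).symm

theorem rh_injective {Z : Scheme.{u}} {f f' : Z ⟶ Spec (CommRingCat.of A)} (h : rh f = rh f') : f = f' := by
  refine ext_of_isAffine ?_
  rw [← cancel_epi (Scheme.ΓSpecIso (CommRingCat.of A)).inv]
  exact CommRingCat.hom_ext h

/-- The morphism with a given ring map. -/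
def ofRh {Z : Scheme.{u}} (φ : A →+* Γ(Z, ⊤)) : Z ⟶ Spec (CommRingCat.of A) :=
  Z.toSpecΓ ≫ Spec.map (CommRingCat.ofHom φ)

theorem rh_ofRh {Z : Scheme.{u}} (φ : A →+* Γ(Z, ⊤)) : rh (ofRh φ) = φ := by
  have h : (Scheme.ΓSpecIso (CommRingCat.of A)).inv ≫ (ofRh φ).appTop = CommRingCat.ofHom φ := by
    rw [ofRh, Scheme.Hom.comp_appTop, ← Category.assoc, ← Scheme.ΓSpecIso_inv_naturality, Category.assoc,
      Scheme.toSpecΓ_appTop, Iso.inv_hom_id, Category.comp_id]
  exact congrArg CommRingCat.Hom.hom h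

variable [Bialgebra R A]

/-- The affine monoid. -/
abbrev spX (R A : Type u) [CommRing R] [CommRing A] [Bialgebra R A] : Over (Spec (CommRingCat.of R)) :=
  (Spec (CommRingCat.of A)).asOver (Spec (CommRingCat.of R))

theorem exists_comul_hom {Z : Scheme.{u}} (q : Z ⟶ (spX R A ⊗ spX R A).left) :
    ∃ θ : A ⊗[R] A →+* Γ(Z, ⊤),
      (∀ x y, θ (x ⊗ₜ[R] y) = rh (q ≫ pullback.fst (spX R A).hom (spX R A).hom) x *
        rh (q ≫ pullback.snd (spX R A).hom (spX R A).hom) y) ∧
      ∀ z, rh (q ≫ μ[spX R A].left) z = θ (CoalgebraStruct.comul (R := R) z) := by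
  let fA : Spec (CommRingCat.of A) ⟶ Spec (CommRingCat.of R) :=
    Spec.map (CommRingCat.ofHom (algebraMap R A))
  let psi := pullbackSpecIso R A A
  let iL : A →+* A ⊗[R] A := Algebra.TensorProduct.includeLeftRingHom
  let iR : A →+* A ⊗[R] A :=
    ((Algebra.TensorProduct.includeRight (R := R) (A := A) (B := A) : A →ₐ[R] A ⊗[R] A) : A →+* A ⊗[R] A)
  have hfst : pullback.fst fA fA = psi.hom ≫ Spec.map (CommRingCat.ofHom iL) := by
    rw [← pullbackSpecIso_inv_fst, Iso.hom_inv_id_assoc]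
  have hsnd : pullback.snd fA fA = psi.hom ≫ Spec.map (CommRingCat.ofHom iR) := by
    rw [← pullbackSpecIso_inv_snd, Iso.hom_inv_id_assoc]
  let θ : A ⊗[R] A →+* Γ(Z, ⊤) := rh ((q : Z ⟶ pullback fA fA) ≫ psi.hom)
  have key : ∀ φ : A →+* A ⊗[R] A, rh (((q : Z ⟶ pullback fA fA) ≫ psi.hom) ≫ Spec.map (CommRingCat.ofHom φ)) =
      θ.comp φ := fun φ => by
    ext a
    rw [rh_comp, RingHom.comp_apply, rh_specMap]
    rfl
  refine ⟨θ, fun x y => ?_, fun z => ?_⟩
  · have h1 : rh (q ≫ pullback.fst (spX R A).hom (spX R A).hom) = θ.comp iL := by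
      rw [← key, Category.assoc]
      exact congrArg (fun r => rh ((q : Z ⟶ pullback fA fA) ≫ r)) hfst
    have h2 : rh (q ≫ pullback.snd (spX R A).hom (spX R A).hom) = θ.comp iR := by
      rw [← key, Category.assoc]
      exact congrArg (fun r => rh ((q : Z ⟶ pullback fA fA) ≫ r)) hsnd
    rw [h1, h2]
    show θ (x ⊗ₜ[R] y) = θ (x ⊗ₜ[R] (1 : A)) * θ ((1 : A) ⊗ₜ[R] y)
    rw [← map_mul, Algebra.TensorProduct.tmul_mul_tmul, _root_.mul_one, _root_.one_mul]
  · have h := key (Bialgebra.comulAlgHom R A).toRingHom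
    rw [Category.assoc] at h
    exact RingHom.congr_fun h z

/-- Coordinates of a product of points. -/
theorem exists_rh_mul {Z : Over (Spec (CommRingCat.of R))} (g g' : Z ⟶ spX R A) :
    ∃ θ : A ⊗[R] A →+* Γ(Z.left, ⊤), (∀ x y, θ (x ⊗ₜ[R] y) = rh g.left x * rh g'.left y) ∧
      ∀ z, rh (g * g').left z = θ (CoalgebraStruct.comul (R := R) z) := by
  obtain ⟨θ, h1, h2⟩ := exists_comul_hom (lift g g').left
  refine ⟨θ, fun x y => ?_, fun z => ?_⟩
  · rw [h1, ← Over.fst_left, ← Over.snd_left, ← Over.comp_left, ← Over.comp_left, lift_fst, lift_snd]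
  · rw [← h2, Hom.mul_def]
    rfl

end ThetaBG
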