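import Groth.Agent.ThetaBGLib.AffPts
import Groth.Prelude.Def_GLin4
import Groth.Prelude.Def_FrameBundle
import Mathlib.LinearAlgebra.Matrix.GeneralLinearGroup.Defs

/-!
# Points of the general linear group are invertible matrices of functions
-/

set_option autoImplicit false
set_option linter.all false
set_option backward.isDefEq.respectTransparency false
set_option backward.isDefEq.respectTransparency.types false

universe u

open CategoryTheory CategoryTheory.Limits MonoidalCategory CartesianMonoidalCategory MonObj AlgebraicGeometry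
open scoped TensorProduct
open CoordGrp

noncomputable section

attribute [-instance] CategoryTheory.Hom.commGroup

namespace ThetaBG

variable {n : ℕ} {S : Scheme.{u}} {T T' : Over S}

/-- The integers. -/
abbrev Zu : Type u := ULift.{u} ℤ

theorem ringHom_ext_Zu {A : Type u} [CommRing A] (f g : Zu.{u} →+* A) : f = g := by
  have h := (f.comp (ULift.ringEquiv : ULift.{u} ℤ ≃+* ℤ).symm.toRingHom).ext_int
    (g.comp (ULift.ringEquiv : ULift.{u} ℤ ≃+* ℤ).symm.toRingHom)
  exact RingHom.ext fun x => congrArg (fun e : ℤ →+* A => e x.down) h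

theorem gln_ringHom_ext {A : Type u} [CommRing A] {f g : GLn n Zu.{u} →+* A}
    (h : ∀ i j, f (GLn.X i j) = g (GLn.X i j)) : f = g := by
  letI : Algebra Zu.{u} A := (f.comp (algebraMap Zu.{u} (GLn n Zu.{u}))).toAlgebra
  let f' : GLn n Zu.{u} →ₐ[Zu.{u}] A := { f with commutes' := fun r => rfl }
  let g' : GLn n Zu.{u} →ₐ[Zu.{u}] A :=
    { g with commutes' := fun r => RingHom.congr_fun (ringHom_ext_Zu (g.comp (algebraMap _ _)) (f.comp (algebraMap _ _))) r }
  suffices f' = g' from congrArg AlgHom.toRingHom this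
  refine GLn.algHom_ext h ?_
  have e : f' GLn.det = g' GLn.det := by
    rw [GLn.det_eq, AlgHom.map_det, AlgHom.map_det]
    congr 1
    ext i j
    exact h i j
  have h1 : f' GLn.det * f' GLn.Dinv = 1 := by rw [← map_mul, GLn.det_mul_Dinv, map_one]
  have h2 : f' GLn.det * g' GLn.Dinv = 1 := by rw [e, ← map_mul, GLn.det_mul_Dinv, map_one]
  exact (IsUnit.of_mul_eq_one _ h1).mul_left_cancel (h1.trans h2.symm)

/-- The component to the group over the integers. -/
abbrev specG (t : T ⟶ FrB.GLn n S) : T.left ⟶ Spec (CommRingCat.of (GLn n Zu.{u})) :=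
  t.left ≫ pullback.fst (FrB.GLZ n).hom (IsTerminal.from specULiftZIsTerminal S)

/-- The matrix of a point. -/
def mat (t : T ⟶ FrB.GLn n S) : Matrix (Fin n) (Fin n) Γ(T.left, ⊤) :=
  Matrix.of fun i j => rh (specG t) (GLn.X i j)

theorem mat_injective : Function.Injective (mat : (T ⟶ FrB.GLn n S) → Matrix (Fin n) (Fin n) Γ(T.left, ⊤)) := by
  intro t t' h
  ext1
  apply pullback.hom_ext
  · exact rh_injective (gln_ringHom_ext fun i j => congrFun (congrFun h i) j)
  · exact (Over.w t).trans (Over.w t').symm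

theorem mat_comp (g : T' ⟶ T) (t : T ⟶ FrB.GLn n S) :
    mat (g ≫ t) = (mat t).map g.left.appTop.hom := by
  refine Matrix.ext fun i j => ?_
  show rh ((g ≫ t).left ≫ _) (GLn.X i j) = _
  rw [Over.comp_left, Category.assoc, rh_comp]
  rfl

theorem exists_mat_eq (M : Matrix (Fin n) (Fin n) Γ(T.left, ⊤)) (hM : IsUnit M.det) :
    ∃ t : T ⟶ FrB.GLn n S, mat t = M := by
  letI : Algebra Zu.{u} Γ(T.left, ⊤) :=
    ((Int.castRingHom Γ(T.left, ⊤)).comp (ULift.ringEquiv : ULift.{u} ℤ ≃+* ℤ).toRingHom).toAlgebra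
  let φ : GLn n Zu.{u} →ₐ[Zu.{u}] Γ(T.left, ⊤) := GLn.pt n Zu.{u} M ↑hM.unit⁻¹ hM.mul_val_inv
  refine ⟨Over.homMk (pullback.lift (ofRh φ.toRingHom) T.hom (specULiftZIsTerminal.hom_ext _ _))
    (pullback.lift_snd _ _ _), Matrix.ext fun i j => ?_⟩
  show rh (pullback.lift (ofRh φ.toRingHom) T.hom _ ≫ pullback.fst _ _) (GLn.X i j) = M i j
  rw [pullback.lift_fst, rh_ofRh]
  exact GLn.pt_X M _ hM.mul_val_inv i j

theorem pullback_map_left_fst' {X Y : Over (Spec (CommRingCat.of Zu.{u}))} (g : X ⟶ Y) :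
    ((Over.pullback (IsTerminal.from specULiftZIsTerminal S)).map g).left ≫
        pullback.fst Y.hom (IsTerminal.from specULiftZIsTerminal S) =
      pullback.fst X.hom (IsTerminal.from specULiftZIsTerminal S) ≫ g.left := by
  dsimp only [Over.pullback]
  exact pullback.lift_fst _ _ _

/-- The component to the product over the integers. -/
def pairG (t t' : T ⟶ FrB.GLn n S) : T.left ⟶ (FrB.GLZ n ⊗ FrB.GLZ n).left :=
  (lift t t').left ≫
    (Functor.LaxMonoidal.μ (Over.pullback (IsTerminal.from specULiftZIsTerminal S)) (FrB.GLZ n) (FrB.GLZ n)).left ≫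
    pullback.fst (FrB.GLZ n ⊗ FrB.GLZ n).hom (IsTerminal.from specULiftZIsTerminal S)

theorem specG_mul (t t' : T ⟶ FrB.GLn n S) : specG (t * t') = pairG t t' ≫ μ[FrB.GLZ n].left := by
  have h1 : t * t' = lift t t' ≫ μ[FrB.GLn n S] := Hom.mul_def t t'
  have h2 : μ[FrB.GLn n S] =
      Functor.LaxMonoidal.μ (Over.pullback (IsTerminal.from specULiftZIsTerminal S)) (FrB.GLZ n) (FrB.GLZ n) ≫
      (Over.pullback (IsTerminal.from specULiftZIsTerminal S)).map μ[FrB.GLZ n] := rfl
  have h3 := pullback_map_left_fst' (S := S) μ[FrB.GLZ n]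
  rw [specG, pairG, h1, h2, Over.comp_left, Over.comp_left]
  simp only [Category.assoc]
  exact _ ≫= (_ ≫= h3)

theorem pairG_fst (t t' : T ⟶ FrB.GLn n S) :
    pairG t t' ≫ pullback.fst (FrB.GLZ n).hom (FrB.GLZ n).hom = specG t := by
  rw [pairG, Category.assoc, Category.assoc, Over.μ_pullback_left_fst_fst, ← Category.assoc]
  congr 1
  rw [← Over.fst_left, ← Over.comp_left, lift_fst]

theorem pairG_snd (t t' : T ⟶ FrB.GLn n S) :
    pairG t t' ≫ pullback.snd (FrB.GLZ n).hom (FrB.GLZ n).hom = specG t' := by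
  rw [pairG, Category.assoc, Category.assoc, Over.μ_pullback_left_fst_snd, ← Category.assoc]
  congr 1
  rw [← Over.snd_left, ← Over.comp_left, lift_snd]

theorem mat_mul (t t' : T ⟶ FrB.GLn n S) : mat (t * t') = mat t * mat t' := by
  obtain ⟨θ, h1, h2⟩ := exists_comul_hom (R := Zu.{u}) (A := GLn n Zu.{u}) (pairG t t')
  refine Matrix.ext fun i j => ?_
  show rh (specG (t * t')) (GLn.X i j) = (mat t * mat t') i j
  rw [specG_mul, h2, GLn.comul_X, map_sum, Matrix.mul_apply]
  refine Finset.sum_congr rfl fun l _ => ?_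
  rw [h1, pairG_fst, pairG_snd]
  rfl

theorem isUnit_det_mat (t : T ⟶ FrB.GLn n S) : IsUnit (mat t).det := by
  have h : (mat t).det = rh (specG t) GLn.det := by
    rw [GLn.det_eq, RingHom.map_det]
    rfl
  rw [h]
  exact IsUnit.of_mul_eq_one (rh (specG t) GLn.Dinv) (by rw [← map_mul, GLn.det_mul_Dinv, map_one])

theorem mat_one : mat (1 : T ⟶ FrB.GLn n S) = 1 := by
  have h : mat (1 : T ⟶ FrB.GLn n S) * mat (1 : T ⟶ FrB.GLn n S) = mat (1 : T ⟶ FrB.GLn n S) * 1 := by
    rw [← mat_mul, _root_.one_mul, _root_.mul_one]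
  exact ((Matrix.isUnit_iff_isUnit_det _).2 (isUnit_det_mat 1)).mul_left_cancel h

section Affine

variable {C D : Type u} [CommRing C] [CommRing D]

/-- The matrix of a point on an affine scheme. -/
def matA (hT : T.left = Spec (CommRingCat.of C)) (t : T ⟶ FrB.GLn n S) : Matrix (Fin n) (Fin n) C :=
  (mat t).map ((eqToHom hT.symm).appTop ≫ (Scheme.ΓSpecIso (CommRingCat.of C)).hom).hom

theorem matA_mul (hT : T.left = Spec (CommRingCat.of C)) (t t' : T ⟶ FrB.GLn n S) :
    matA hT (t * t') = matA hT t * matA hT t' := by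
  rw [matA, mat_mul, Matrix.map_mul]
  rfl

theorem matA_one (hT : T.left = Spec (CommRingCat.of C)) : matA hT (1 : T ⟶ FrB.GLn n S) = 1 := by
  rw [matA, mat_one, Matrix.map_one _ (map_zero _) (map_one _)]

theorem isUnit_matA (hT : T.left = Spec (CommRingCat.of C)) (t : T ⟶ FrB.GLn n S) : IsUnit (matA hT t).det := by
  rw [matA]
  have := (isUnit_det_mat t).map ((eqToHom hT.symm).appTop ≫ (Scheme.ΓSpecIso (CommRingCat.of C)).hom).hom
  rw [RingHom.map_det] at this
  exact this

theorem bijective_matA_hom (hT : T.left = Spec (CommRingCat.of C)) :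
    Function.Bijective ((eqToHom hT.symm).appTop ≫ (Scheme.ΓSpecIso (CommRingCat.of C)).hom).hom :=
  ConcreteCategory.bijective_of_isIso _

theorem matA_injective (hT : T.left = Spec (CommRingCat.of C)) :
    Function.Injective (matA hT : (T ⟶ FrB.GLn n S) → Matrix (Fin n) (Fin n) C) := fun t t' e =>
  mat_injective (Matrix.map_injective (bijective_matA_hom hT).1 e)

theorem exists_matA_eq (hT : T.left = Spec (CommRingCat.of C)) (M : Matrix (Fin n) (Fin n) C) (hM : IsUnit M.det) :
    ∃ t : T ⟶ FrB.GLn n S, matA hT t = M := by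
  let e := RingEquiv.ofBijective _ (bijective_matA_hom hT)
  obtain ⟨t, ht⟩ := exists_mat_eq (S := S) (T := T) (M.map e.symm) (by
    have := hM.map e.symm.toRingHom
    rw [RingHom.map_det] at this
    exact this)
  refine ⟨t, Matrix.ext fun i j => ?_⟩
  show e (mat t i j) = M i j
  rw [ht]
  exact e.apply_symm_apply _

theorem matA_comp (hT : T.left = Spec (CommRingCat.of C)) (hT' : T'.left = Spec (CommRingCat.of D)) (f : T' ⟶ T)
    (φ : C →+* D) (hf : f.left = eqToHom hT' ≫ Spec.map (CommRingCat.ofHom φ) ≫ eqToHom hT.symm)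
    (t : T ⟶ FrB.GLn n S) : matA hT' (f ≫ t) = (matA hT t).map φ := by
  refine Matrix.ext fun i j => ?_
  show (Scheme.ΓSpecIso (CommRingCat.of D)).hom ((eqToHom hT'.symm).appTop (mat (f ≫ t) i j)) =
    φ ((Scheme.ΓSpecIso (CommRingCat.of C)).hom ((eqToHom hT.symm).appTop (mat t i j)))
  rw [mat_comp, Matrix.map_apply]
  generalize mat t i j = x
  rw [← CommRingCat.comp_apply _ (eqToHom hT'.symm).appTop, ← Scheme.Hom.comp_appTop, hf, eqToHom_trans_assoc,
    eqToHom_refl, Category.id_comp, Scheme.Hom.comp_appTop, CommRingCat.comp_apply]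
  exact ConcreteCategory.congr_hom (Scheme.ΓSpecIso_naturality (CommRingCat.ofHom φ)) _

end Affine

end ThetaBG
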