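import Groth.Agent.ThetaBGLib.AffPts
import Groth.Agent.LiftAffLib.Theta

/-!
# Points of affine schemes over a ring and of the multiplicative group
-/

set_option autoImplicit false
set_option linter.all false
set_option backward.isDefEq.respectTransparency false
set_option backward.isDefEq.respectTransparency.types false

universe u

open CategoryTheory CategoryTheory.Limits MonoidalCategory CartesianMonoidalCategory MonObj AlgebraicGeometry
open scoped TensorProduct
open LiftAffLib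

noncomputable section

attribute [-instance] CategoryTheory.Hom.commGroup

namespace ThetaBG

variable {R : Type u} [CommRing R] {T T' : Over (Spec (CommRingCat.of R))}
  {A B : Type u} [CommRing A] [CommRing B] [Algebra R A] [Algebra R B]

/-- The constants on a scheme over the ring. -/
def cst (T : Over (Spec (CommRingCat.of R))) : R →+* Γ(T.left, ⊤) := rh T.hom

/-- The coordinates of a point. -/
abbrev crd (f : T ⟶ CoactBr.sp R B) : B →+* Γ(T.left, ⊤) := rh f.left

theorem crd_algebraMap (f : T ⟶ CoactBr.sp R B) (r : R) : crd f (algebraMap R B r) = cst T r := by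
  have hw : f.left ≫ Spec.map (CommRingCat.ofHom (algebraMap R B)) = T.hom := Over.w f
  have h : rh (f.left ≫ Spec.map (CommRingCat.ofHom (algebraMap R B))) r = crd f (algebraMap R B r) := by
    rw [rh_comp, RingHom.comp_apply, rh_specMap]; rfl
  rw [← h, hw]
  rfl

theorem crd_injective {f f' : T ⟶ CoactBr.sp R B} (h : crd f = crd f') : f = f' :=
  Over.OverMorphism.ext (rh_injective h)

theorem exists_crd (φ : B →+* Γ(T.left, ⊤)) (hφ : ∀ r, φ (algebraMap R B r) = cst T r) :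
    ∃ f : T ⟶ CoactBr.sp R B, crd f = φ := by
  refine ⟨Over.homMk (ofRh φ) (rh_injective ?_), rh_ofRh φ⟩
  ext r
  show rh (ofRh φ ≫ Spec.map (CommRingCat.ofHom (algebraMap R B))) r = cst T r
  rw [rh_comp, RingHom.comp_apply, rh_specMap, ← hφ]
  exact RingHom.congr_fun (rh_ofRh φ) _

theorem crd_comp (g : T' ⟶ T) (f : T ⟶ CoactBr.sp R B) : crd (g ≫ f) = g.left.appTop.hom.comp (crd f) := by
  show rh (g ≫ f).left = _
  rw [Over.comp_left, rh_comp]

theorem cst_comp (g : T' ⟶ T) : cst T' = g.left.appTop.hom.comp (cst T) := by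
  unfold cst
  rw [← rh_comp, Over.w g]

theorem crd_pt (f : T ⟶ CoactBr.sp R A) (φ : B →ₐ[R] A) :
    crd (f ≫ CoactBr.pt φ) = (crd f).comp φ.toRingHom := by
  show rh (f ≫ CoactBr.pt φ).left = _
  rw [Over.comp_left, CoactBr.pt_left, rh_comp, rh_specMap]
  rfl

theorem crd_id (b : A) : crd (𝟙 (CoactBr.sp R A)) b = (Scheme.ΓSpecIso (CommRingCat.of A)).inv b := by
  show rh (𝟙 (Spec (CommRingCat.of A))) b = _
  simp [rh]

theorem crd_pt' (φ : B →ₐ[R] A) (b : B) : crd (CoactBr.pt φ) b = (Scheme.ΓSpecIso (CommRingCat.of A)).inv (φ b) := by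
  have := crd_pt (𝟙 (CoactBr.sp R A)) φ
  rw [Category.id_comp] at this
  rw [this, RingHom.comp_apply, crd_id]
  rfl

theorem cst_sp (r : R) : cst (CoactBr.sp R A) r = (Scheme.ΓSpecIso (CommRingCat.of A)).inv (algebraMap R A r) := by
  rw [← crd_id, ← crd_algebraMap (𝟙 (CoactBr.sp R A))]

theorem exists_crd_act {act : CoactBr.sp R A ⊗ CoactBr.sp R B ⟶ CoactBr.sp R B} {α : B →ₐ[R] A ⊗[R] B}
    (hα : prodPt R A B ≫ act = CoactBr.pt α) (g : T ⟶ CoactBr.sp R A) (x : T ⟶ CoactBr.sp R B) :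
    ∃ θ : A ⊗[R] B →+* Γ(T.left, ⊤), (∀ a b, θ (a ⊗ₜ[R] b) = crd g a * crd x b) ∧
      ∀ q, crd (lift g x ≫ act) q = θ (α q) := by
  haveI : IsIso ((Over.forget _).map (prodPt R A B)) := isIso_prodPt (R := R) A B
  haveI : IsIso (prodPt R A B) := isIso_of_reflects_iso _ (Over.forget _)
  let w := lift g x ≫ inv (prodPt R A B)
  have hw : w ≫ prodPt R A B = lift g x := by
    show (lift g x ≫ inv (prodPt R A B)) ≫ prodPt R A B = _
    rw [Category.assoc, IsIso.inv_hom_id, Category.comp_id]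
  refine ⟨crd w, fun a b => ?_, fun q => ?_⟩
  · have e₁ : w ≫ CoactBr.pt (Algebra.TensorProduct.includeLeft : A →ₐ[R] A ⊗[R] B) = g := by
      have := congrArg (· ≫ fst _ _) hw
      simpa using this
    have e₂ : w ≫ CoactBr.pt (Algebra.TensorProduct.includeRight : B →ₐ[R] A ⊗[R] B) = x := by
      have := congrArg (· ≫ snd _ _) hw
      simpa using this
    conv_rhs => rw [← e₁, ← e₂, crd_pt, crd_pt]
    show crd w (a ⊗ₜ[R] b) = crd w (a ⊗ₜ[R] (1 : B)) * crd w ((1 : A) ⊗ₜ[R] b)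
    rw [← map_mul, Algebra.TensorProduct.tmul_mul_tmul, _root_.mul_one, _root_.one_mul]
  · rw [← hw, Category.assoc, hα, crd_pt]
    rfl

/-- The powers of the coordinate of a point of the multiplicative group. -/
abbrev zu (g : T ⟶ ThetaS.Gm R) (n : ℤ) : Γ(T.left, ⊤) := crd (B := ThetaS.Lau R) g (ThetaS.zPow R n)

theorem zu_mul (g g' : T ⟶ ThetaS.Gm R) (n : ℤ) : zu (g * g') n = zu g n * zu g' n := by
  obtain ⟨θ, h1, h2⟩ := exists_rh_mul (R := R) (A := ThetaS.Lau R) g g'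
  show rh (g * g').left (ThetaS.zPow R n) = _
  rw [h2, ThetaS.comul_zPow, h1]

theorem zu_add (g : T ⟶ ThetaS.Gm R) (m n : ℤ) : zu g (m + n) = zu g m * zu g n := by
  rw [← map_mul, ThetaS.zPow_mul]

theorem zu_zero (g : T ⟶ ThetaS.Gm R) : zu g 0 = 1 := by
  rw [zu, ThetaS.zPow_zero, map_one]

theorem isUnit_zu (g : T ⟶ ThetaS.Gm R) (n : ℤ) : IsUnit (zu g n) :=
  IsUnit.of_mul_eq_one (zu g (-n)) (by rw [← zu_add, add_neg_cancel, zu_zero])

theorem zu_comp (f : T' ⟶ T) (g : T ⟶ ThetaS.Gm R) (n : ℤ) : zu (f ≫ g) n = f.left.appTop (zu g n) :=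
  RingHom.congr_fun (crd_comp (B := ThetaS.Lau R) f g) _

theorem zu_eq_zpow (g : T ⟶ ThetaS.Gm R) (n : ℤ) : zu g n = ↑((isUnit_zu g 1).unit ^ n) := by
  induction n using Int.induction_on with
  | zero => simp [zu_zero]
  | succ k ih => rw [zu_add, ih, zpow_add_one, Units.val_mul, IsUnit.unit_spec]
  | pred k ih =>
    refine (isUnit_zu g 1).mul_right_cancel ?_
    rw [← zu_add, sub_add_cancel, ih, zpow_sub_one, Units.val_mul, _root_.mul_assoc, IsUnit.val_inv_mul, _root_.mul_one]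

theorem gm_ext {g g' : T ⟶ ThetaS.Gm R} (h : zu g 1 = zu g' 1) : g = g' := by
  have hn : ∀ n, zu g n = zu g' n := fun n => by
    rw [zu_eq_zpow g, zu_eq_zpow g']
    exact congrArg (fun v : Γ(T.left, ⊤)ˣ => ((v ^ n : Γ(T.left, ⊤)ˣ) : Γ(T.left, ⊤))) (Units.ext h)
  refine crd_injective (B := ThetaS.Lau R) (MonoidAlgebra.ringHom_ext (fun r => ?_) fun m => hn m.toAdd)
  exact (crd_algebraMap (B := ThetaS.Lau R) g r).trans (crd_algebraMap (B := ThetaS.Lau R) g' r).symm

theorem exists_gm (v : Γ(T.left, ⊤)ˣ) : ∃ g : T ⟶ ThetaS.Gm R, zu g 1 = v := by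
  letI := (cst T).toAlgebra
  let φ : ThetaS.Lau R →ₐ[R] Γ(T.left, ⊤) :=
    MonoidAlgebra.lift R Γ(T.left, ⊤) (Multiplicative ℤ) ((Units.coeHom _).comp (zpowersHom _ v))
  obtain ⟨f, hf⟩ := exists_crd (T := T) φ.toRingHom fun r => φ.commutes r
  refine ⟨f, ?_⟩
  show crd f (ThetaS.zPow R 1) = v
  rw [hf]
  show φ (MonoidAlgebra.single (Multiplicative.ofAdd 1) 1) = _
  simp [φ]

end ThetaBG
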