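import Groth.Agent.ThetaBGLib.Twist
import Groth.Agent.ThetaBGLib.GLPts
import Groth.Agent.ThetaBGLib.RPts

/-!
# Diagonal cocharacters of the general linear group
-/

set_option autoImplicit false
set_option linter.all false
set_option backward.isDefEq.respectTransparency false
set_option backward.isDefEq.respectTransparency.types false

universe u

open CategoryTheory CategoryTheory.Limits MonoidalCategory CartesianMonoidalCategory MonObj AlgebraicGeometry

noncomputable section

attribute [-instance] CategoryTheory.Hom.commGroup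

namespace ThetaBG

variable {R : Type u} [CommRing R] {S : Scheme.{u}} (h : Spec (CommRingCat.of R) ⟶ S) {n : ℕ} (d : Fin n → ℤ)

/-- The universal diagonal matrix. -/
abbrev diagU : Matrix (Fin n) (Fin n) Γ((ThetaS.Gm R).left, ⊤) :=
  Matrix.diagonal fun i => zu (𝟙 (ThetaS.Gm R)) (d i)

theorem exists_coch : ∃ m : (Over.map h).obj (ThetaS.Gm R) ⟶ FrB.GLn n S, mat m = diagU (R := R) d :=
  exists_mat_eq _ (by
    rw [Matrix.det_diagonal]
    exact Finset.prod_induction (fun i => zu (𝟙 (ThetaS.Gm R)) (d i)) IsUnit (fun _ _ => IsUnit.mul) isUnit_one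
      fun i _ => isUnit_zu _ _)

theorem mat_map_comp {Z : Over (Spec (CommRingCat.of R))} (g : Z ⟶ ThetaS.Gm R)
    (m : (Over.map h).obj (ThetaS.Gm R) ⟶ FrB.GLn n S) (hm : mat m = diagU (R := R) d) :
    mat ((Over.map h).map g ≫ m) = Matrix.diagonal fun i => zu g (d i) := by
  rw [mat_comp, hm, Matrix.diagonal_map (map_zero _)]
  exact congrArg Matrix.diagonal (funext fun i => by
    show g.left.appTop (zu (𝟙 (ThetaS.Gm R)) (d i)) = zu g (d i)
    rw [← zu_comp, Category.comp_id])

/-- The diagonal cocharacter. -/
def diagCoch : Coch h (ThetaS.Gm R) (FrB.GLn n S) where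
  m := (exists_coch h d).choose
  mul Z g g' := by
    refine mat_injective ?_
    rw [mat_mul, mat_map_comp h d _ _ (exists_coch h d).choose_spec,
      mat_map_comp h d _ _ (exists_coch h d).choose_spec, mat_map_comp h d _ _ (exists_coch h d).choose_spec,
      Matrix.diagonal_mul_diagonal]
    congr 1
    funext i
    exact zu_mul g g' (d i)

theorem mat_diagCoch {Z : Over (Spec (CommRingCat.of R))} (g : Z ⟶ ThetaS.Gm R) :
    mat ((diagCoch h d).app g) = Matrix.diagonal fun i => zu g (d i) :=
  mat_map_comp h d g _ (exists_coch h d).choose_spec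

theorem mat_diagCoch_apply {Z : Over (Spec (CommRingCat.of R))} (g : Z ⟶ ThetaS.Gm R) (i j : Fin n) :
    mat ((diagCoch h d).app g) i j = if i = j then zu g (d i) else 0 := by
  rw [mat_diagCoch, Matrix.diagonal_apply]

end ThetaBG
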