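import Groth.Agent.ThetaBGLib.Twist

/-!
# Vertical morphisms from trivialisations
-/

set_option autoImplicit false
set_option linter.all false
set_option backward.isDefEq.respectTransparency false
set_option backward.isDefEq.respectTransparency.types false
set_option maxHeartbeats 800000

universe v w u

open CategoryTheory CategoryTheory.Limits MonoidalCategory CartesianMonoidalCategory MonObj AlgebraicGeometry
open Opposite FibCat LiftAffLib AlgSp AlgSpLib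
open Groth.Agent
open TorsVec (smulPt comp_smulPt mul_smulPt)

noncomputable section

namespace ThetaBG

local notation "𝕜" => Scheme.fppfPrecoverage

variable {S : Scheme.{u}} {G : Over S} [GrpObj G]

theorem smulPt_top {Q Q' : AlgSt.QuotObj 𝕜 G (AlgSt.trivAction G)} (k : Q ⟶ Q') {V : Over S} (g : V ⟶ G)
    (p : V ⟶ Q.P) : smulPt Q.act g p ≫ k.top = smulPt Q'.act g (p ≫ k.top) := by
  rw [TorsVec.smulPt, TorsVec.smulPt, Category.assoc, k.eqv, ← Category.assoc, QuotStLib.lift_whisker]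

variable [IsAffineHom G.hom] {ℬ : BasedCategory.{v, w} (Over S)} {c c' : ℬ ⥤ᵇ W G}

/-- A trivialisation of a value. -/
structure Fr (c : ℬ ⥤ᵇ W G) (A : ℬ.obj) where
  q : ℬ.p.obj A ⟶ (c.obj A).P
  q_π : q ≫ (c.obj A).π = eqToHom (c.w_obj A).symm

/-- The element moving the pulled back trivialisation to the given one. -/
def Tr {A' A : ℬ.obj} (k : A' ⟶ A) (q' : Fr c A') (q : Fr c A) (d : ℬ.p.obj A' ⟶ G) : Prop :=
  q'.q ≫ (c.map k).top = smulPt (c.obj A).act d (ℬ.p.map k ≫ q.q)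

theorem pullFr_w {A' A : ℬ.obj} (k : A' ⟶ A) (q : Fr c A) :
    (ℬ.p.map k ≫ q.q) ≫ (c.obj A).π = eqToHom (c.w_obj A').symm ≫ (c.map k).base := by
  rw [Category.assoc, q.q_π, show (c.map k).base = _ from map_base c k]
  simp

theorem exists_tr {A' A : ℬ.obj} (k : A' ⟶ A) (q' : Fr c A') (q : Fr c A) : ∃ d, Tr k q' q d := by
  obtain ⟨g, hg⟩ := ThetaBGa.exists_smul (c.obj A) (ℬ.p.map k ≫ q.q) (q'.q ≫ (c.map k).top) (by
    rw [pullFr_w k q, Category.assoc, (c.map k).cart.w, ← Category.assoc, q'.q_π])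
  exact ⟨g, hg.symm⟩

theorem exists_pullFr {A' A : ℬ.obj} (k : A' ⟶ A) (q : Fr c A) : ∃ q' : Fr c A', Tr k q' q 1 := by
  refine ⟨⟨(c.map k).cart.lift (ℬ.p.map k ≫ q.q) (eqToHom (c.w_obj A').symm) (pullFr_w k q),
    IsPullback.lift_snd _ _ _ _⟩, ?_⟩
  unfold Tr
  rw [IsPullback.lift_fst, TorsVec.smulPt, QuotStLib.act_one]

theorem Tr.unique {A' A : ℬ.obj} {k : A' ⟶ A} {q' : Fr c A'} {q : Fr c A} {d₁ d₂ : ℬ.p.obj A' ⟶ G}
    (h₁ : Tr k q' q d₁) (h₂ : Tr k q' q d₂) : d₁ = d₂ :=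
  ThetaBGa.smul_injective (c.obj A) (ℬ.p.map k ≫ q.q) (h₁.symm.trans h₂)

theorem Tr.comp {A'' A' A : ℬ.obj} {k' : A'' ⟶ A'} {k : A' ⟶ A} {q'' : Fr c A''} {q' : Fr c A'} {q : Fr c A}
    {d' : ℬ.p.obj A'' ⟶ G} {d : ℬ.p.obj A' ⟶ G} (h' : Tr k' q'' q' d') (h : Tr k q' q d) :
    Tr (k' ≫ k) q'' q (d' * (ℬ.p.map k' ≫ d)) := by
  unfold Tr at *
  rw [c.toFunctor.map_comp, AlgSt.QuotObj.comp_top, reassoc_of% h', smulPt_top, Category.assoc, h,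
    comp_smulPt, ← mul_smulPt, ℬ.p.map_comp, Category.assoc]

theorem Tr.congr {A' A : ℬ.obj} {k k₁ : A' ⟶ A} {q' : Fr c A'} {q : Fr c A} {d : ℬ.p.obj A' ⟶ G}
    (h : Tr k q' q d) (e : k = k₁) : Tr k₁ q' q d := e ▸ h

/-- The morphism from the trivial torsor. -/
abbrev Fr.mor {A : ℬ.obj} (q : Fr c A) : trG (G := G) (ℬ.p.obj A) ⟶ c.obj A :=
  LiftAffLib.hom (c.obj A) q.q (toUnit _) (toUnit_unique _ _)

theorem Fr.base_mor {A : ℬ.obj} (q : Fr c A) : q.mor.base = eqToHom (c.w_obj A).symm := q.q_π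

instance : IsFibGrpd (W G).p := QuotTransLib.isFibGrpd

theorem Fr.isIso_mor {A : ℬ.obj} (q : Fr c A) : IsIso q.mor := by
  haveI : IsIso ((W G).p.map q.mor) := by
    show IsIso q.mor.base
    rw [q.base_mor]; infer_instance
  exact isIso_of_map (W G).p _

instance {A : ℬ.obj} (q : Fr c A) : IsIso q.mor := q.isIso_mor

theorem exists_vert {A : ℬ.obj} (q : Fr c A) (q₁ : Fr c' A) (z : ℬ.p.obj A ⟶ G) :
    ∃ θ : Vert c c' A, q.q ≫ θ.hom.top = smulPt (c'.obj A).act z q₁.q := by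
  refine ⟨⟨inv q.mor ≫ trGMap z (𝟙 _) ≫ q₁.mor, ?_⟩, ?_⟩
  · show (inv q.mor ≫ trGMap z (𝟙 _) ≫ q₁.mor).base = _
    rw [AlgSt.QuotObj.comp_base, AlgSt.QuotObj.comp_base, base_trGMap, q₁.base_mor]
    erw [Category.id_comp]
    have h : q.mor.base ≫ (inv q.mor).base = 𝟙 _ := by
      rw [← AlgSt.QuotObj.comp_base, IsIso.hom_inv_id]; rfl
    rw [q.base_mor, eqToHom_comp_iff] at h
    rw [h]
    simp
  · have h : pt (q.mor ≫ inv q.mor ≫ trGMap z (𝟙 _) ≫ q₁.mor) = smulPt (c'.obj A).act z q₁.q := by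
      rw [IsIso.hom_inv_id_assoc, pt_comp_trG, pt_hom, Category.id_comp]
    rw [pt_comp, pt_hom] at h
    exact h

theorem vert_ext {A : ℬ.obj} (q : Fr c A) {θ θ' : Vert c c' A} (h : q.q ≫ θ.hom.top = q.q ≫ θ'.hom.top) :
    θ = θ' := by
  ext1
  rw [← cancel_epi q.mor]
  exact pt_inj (by rw [pt_comp, pt_comp, pt_hom]; exact h)

theorem cmp_iff {A' A : ℬ.obj} {k : A' ⟶ A} {q : Fr c A} {q₁ : Fr c' A} {q' : Fr c A'} {q₁' : Fr c' A'}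
    {d d₁ z' : ℬ.p.obj A' ⟶ G} {z : ℬ.p.obj A ⟶ G} {θ : Vert c c' A} {θ' : Vert c c' A'}
    (hθ : q.q ≫ θ.hom.top = smulPt (c'.obj A).act z q₁.q)
    (hθ' : q'.q ≫ θ'.hom.top = smulPt (c'.obj A').act z' q₁'.q)
    (hd : Tr k q' q d) (hd₁ : Tr k q₁' q₁ d₁) :
    Cmp k θ' θ ↔ d * (ℬ.p.map k ≫ z) = z' * d₁ := by
  have e₁ : q'.q ≫ (c.map k ≫ θ.hom).top =
      smulPt (c'.obj A).act (d * (ℬ.p.map k ≫ z)) (ℬ.p.map k ≫ q₁.q) := by
    rw [AlgSt.QuotObj.comp_top, reassoc_of% hd, smulPt_top, Category.assoc, hθ, comp_smulPt, ← mul_smulPt]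
  have e₂ : q'.q ≫ (θ'.hom ≫ c'.map k).top = smulPt (c'.obj A).act (z' * d₁) (ℬ.p.map k ≫ q₁.q) := by
    rw [AlgSt.QuotObj.comp_top, reassoc_of% hθ', smulPt_top, hd₁, ← mul_smulPt]
  constructor
  · intro hc
    refine ThetaBGa.smul_injective (c'.obj A) (ℬ.p.map k ≫ q₁.q) ?_
    show smulPt _ _ _ = smulPt _ _ _
    rw [← e₁, ← e₂, show c.map k ≫ θ.hom = θ'.hom ≫ c'.map k from hc]
  · intro hz
    show c.map k ≫ θ.hom = θ'.hom ≫ c'.map k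
    rw [← cancel_epi q'.mor]
    refine pt_inj ?_
    rw [pt_comp q'.mor, pt_comp q'.mor, pt_hom, e₁, e₂, hz]

/-- Two restrictions coincide when their elements do. -/
theorem eq_of_cmp {B A₁ A₂ : ℬ.obj} {k₁ : B ⟶ A₁} {k₂ : B ⟶ A₂} {q₁ : Fr c A₁} {p₁ : Fr c' A₁} {q₂ : Fr c A₂}
    {p₂ : Fr c' A₂} {z₁ : ℬ.p.obj A₁ ⟶ G} {z₂ : ℬ.p.obj A₂ ⟶ G} {θ₁ : Vert c c' A₁} {θ₂ : Vert c c' A₂}
    (hθ₁ : q₁.q ≫ θ₁.hom.top = smulPt (c'.obj A₁).act z₁ p₁.q)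
    (hθ₂ : q₂.q ≫ θ₂.hom.top = smulPt (c'.obj A₂).act z₂ p₂.q)
    {q : Fr c B} {p : Fr c' B} {d₁ d₂ e₁ e₂ : ℬ.p.obj B ⟶ G}
    (hd₁ : Tr k₁ q q₁ d₁) (he₁ : Tr k₁ p p₁ e₁) (hd₂ : Tr k₂ q q₂ d₂) (he₂ : Tr k₂ p p₂ e₂)
    (hz : d₁ * (ℬ.p.map k₁ ≫ z₁) * e₁⁻¹ = d₂ * (ℬ.p.map k₂ ≫ z₂) * e₂⁻¹)
    {σ₁ σ₂ : Vert c c' B} (h₁ : Cmp k₁ σ₁ θ₁) (h₂ : Cmp k₂ σ₂ θ₂) : σ₁ = σ₂ := by
  obtain ⟨σ, hσ⟩ := exists_vert q p (d₁ * (ℬ.p.map k₁ ≫ z₁) * e₁⁻¹)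
  have hc₁ : Cmp k₁ σ θ₁ := (cmp_iff hθ₁ hσ hd₁ he₁).2 (by simp [mul_assoc])
  rw [hz] at hσ
  have hc₂ : Cmp k₂ σ θ₂ := (cmp_iff hθ₂ hσ hd₂ he₂).2 (by simp [mul_assoc])
  rw [h₁.unique hc₁, h₂.unique hc₂]

section Twisted

variable {S' : Scheme.{u}} {h : S' ⟶ S} {H X : Over S'} [GrpObj H] [Flat H.hom]
  [LocallyOfFinitePresentation H.hom] {aX : AlgGrp.Action H X} (Λ : Coch h H G)
  (P : AlgSt.QuotObj 𝕜 H aX → Prop)

/-- The twisted functor on a full subcategory. -/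
abbrev twP : AlgSt.fullSub (ThetaS.overS h (AlgSt.QuotSt 𝕜 H aX)) P ⥤ᵇ W G :=
  BasedFunctor.comp (AlgSt.subIncl (ThetaS.overS h (AlgSt.QuotSt 𝕜 H aX)) P) (tw aX Λ)

variable {P}

/-- The trivialisation at a trivial object. -/
def frTw {T : Over S'} (x : T ⟶ X) (hx : P (tr aX x)) : Fr (twP Λ P) ⟨tr aX x, hx⟩ where
  q := (Over.map h).map (lift (1 : T ⟶ H) (𝟙 T)) ≫ sigma Λ (tr aX x)
  q_π := by
    show ((Over.map h).map (lift (1 : T ⟶ H) (𝟙 T)) ≫ sigma Λ (tr aX x)) ≫ ((tw aX Λ).obj (tr aX x)).π = _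
    rw [Category.assoc, sigma_π, ← Category.assoc, ← Functor.map_comp]
    show (Over.map h).map (lift (1 : T ⟶ H) (𝟙 T) ≫ snd H T) ≫ _ = _
    rw [lift_snd, CategoryTheory.Functor.map_id, Category.id_comp]

theorem tr_frTw {T T' : Over S'} {x : T ⟶ X} {x' : T' ⟶ X} {hx : P (tr aX x)} {hx' : P (tr aX x')}
    (n : (⟨tr aX x, hx⟩ : (AlgSt.fullSub (ThetaS.overS h (AlgSt.QuotSt 𝕜 H aX)) P).obj) ⟶ ⟨tr aX x', hx'⟩)
    (g : T ⟶ H) (t : T ⟶ T') (hn : pt n.hom = lift g t) :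
    Tr n (frTw Λ x hx) (frTw Λ x' hx') (Λ.app g) := by
  have ht : n.hom.base = t := by
    have w : n.hom.top ≫ snd H T' = snd H T ≫ n.hom.base := n.hom.cart.w
    have := congrArg (· ≫ snd H T') hn
    change (lift (1 : T ⟶ H) (𝟙 T) ≫ n.hom.top) ≫ snd H T' = lift g t ≫ snd H T' at this
    rw [Category.assoc, w, lift_snd_assoc, lift_snd] at this
    simpa using this
  show ((Over.map h).map (lift (1 : T ⟶ H) (𝟙 T)) ≫ sigma Λ (tr aX x)) ≫ ((tw aX Λ).map n.hom).top =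
    smulPt ((tw aX Λ).obj (tr aX x')).act (Λ.app g)
      ((Over.map h).map n.hom.base ≫ (Over.map h).map (lift (1 : T' ⟶ H) (𝟙 T')) ≫ sigma Λ (tr aX x'))
  rw [Category.assoc, sigma_map, ← Category.assoc, ← Functor.map_comp,
    show lift (1 : T ⟶ H) (𝟙 T) ≫ n.hom.top = lift g t from hn,
    ← Category.assoc, ← Functor.map_comp, ht, ← smul_sigma]
  congr 2
  show lift g t = lift g (t ≫ lift 1 (𝟙 T')) ≫ (AlgSt.leftMul H T').act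
  simp [AlgSt.leftMul, comp_lift, comp_mul]

end Twisted

end ThetaBG
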