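import Groth.Agent.ThetaBGLib.Iso
import Groth.Agent.ThetaBGaLib.Opens
import Groth.Agent.AlgStLib.Substack
import Groth.Agent.LiftAffLib.Theta

/-!
# Vertical isomorphisms on a punctured quotient stack from the two pieces
-/

set_option autoImplicit false
set_option linter.all false
set_option backward.isDefEq.respectTransparency false
set_option backward.isDefEq.respectTransparency.types false
set_option maxHeartbeats 800000

universe u

open CategoryTheory CategoryTheory.Limits MonoidalCategory CartesianMonoidalCategory MonObj AlgebraicGeometry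
open Opposite FibCat LiftAffLib AlgSp AlgSpLib AlgStLib

noncomputable section

namespace ThetaBG

local notation "𝕜" => Scheme.fppfPrecoverage

variable {S' S : Scheme.{u}} (h : S' ⟶ S) {H X : Over S'} [GrpObj H] (aX : AlgGrp.Action H X)
  (a b : Γ(X.left, ⊤))

/-- The punctured quotient stack over the base. -/
abbrev Pn : AlgSt.Cat S := AlgSt.fullSub (ThetaS.overS h (AlgSt.QuotSt 𝕜 H aX)) (Punct a b)

variable {aX a b}

theorem punct_of_hom {A A' : AlgSt.QuotObj 𝕜 H aX} (k : A' ⟶ A) (hA : Punct a b A) : Punct a b A' := by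
  unfold Punct at *
  rw [← preimage_bo, ← preimage_bo, ← k.wφ, Over.comp_left, Scheme.Hom.comp_preimage, Scheme.Hom.comp_preimage,
    ← Scheme.Hom.preimage_sup, preimage_bo, preimage_bo, hA, Scheme.Hom.preimage_top]

variable [IsAffineHom H.hom]

theorem isFibGrpd_Pn : IsFibGrpd (Pn h aX a b).p := by
  haveI : IsFibGrpd (AlgSt.QuotObj.forget 𝕜 H aX) := QuotTransLib.isFibGrpd
  haveI := isFibGrpd_map h
  haveI : IsFibGrpd (ThetaS.overS h (AlgSt.QuotSt 𝕜 H aX)).p :=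
    FibLib.isFibGrpd_comp (AlgSt.QuotObj.forget 𝕜 H aX) (Over.map h)
  exact AlgStLib.isFibGrpd_fullSub fun A A' m hA => punct_of_hom m hA

variable {h} {G : Over S} [GrpObj G] [IsAffineHom G.hom] [Flat G.hom] [LocallyOfFinitePresentation G.hom]
  {c c' : Pn h aX a b ⥤ᵇ W G}

/-- A morphism through which a morphism of punctured objects factors, given on bases. -/
theorem exists_factor {A A' B : (Pn h aX a b).obj} (k : A ⟶ B) (m : A' ⟶ B) (t : A'.obj.base ⟶ A.obj.base)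
    (ht : t ≫ k.hom.base = m.hom.base) : ∃ m' : A' ⟶ A, m'.hom.base = t ∧ m' ≫ k = m := by
  haveI : IsFibGrpd (AlgSt.QuotObj.forget 𝕜 H aX) := QuotTransLib.isFibGrpd
  obtain ⟨χ, hχ, hχ'⟩ := exists_fac (AlgSt.QuotObj.forget 𝕜 H aX) m.hom k.hom t ht
  exact ⟨ObjectProperty.homMk χ, hχ, ObjectProperty.hom_ext _ hχ'⟩

/-- The family of morphisms is jointly epimorphic on bases. -/
def JEpi {A : (Pn h aX a b).obj} {I : Type u} {A' : I → (Pn h aX a b).obj} (k : ∀ i, A' i ⟶ A) : Prop :=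
  ∀ (Z : Over S') (g g' : A.obj.base ⟶ Z), (∀ i, (k i).hom.base ≫ g = (k i).hom.base ≫ g') → g = g'

theorem eq_of_jepi {A : (Pn h aX a b).obj} {I : Type u} {A' : I → (Pn h aX a b).obj} {k : ∀ i, A' i ⟶ A}
    (hk : JEpi k) {θ θ' : Vert c c' A} (e : ∀ i σ σ', Cmp (k i) σ θ → Cmp (k i) σ' θ' → σ = σ') : θ = θ' := by
  haveI := isFibGrpd_Pn (h := h) (aX := aX) (a := a) (b := b)
  haveI : IsFibGrpd (AlgSt.QuotObj.forget 𝕜 H aX) := QuotTransLib.isFibGrpd
  obtain ⟨AZ, φZ, θZ, -, hu⟩ := exists_univ c c' A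
  obtain ⟨χ, ⟨hχ, hc⟩, -⟩ := hu A (𝟙 A) θ
  obtain ⟨χ', ⟨hχ', hc'⟩, -⟩ := hu A (𝟙 A) θ'
  have hb : ∀ i, k i ≫ χ = k i ≫ χ' := fun i => by
    obtain ⟨σ, hσ⟩ := exists_res (k i) θ
    obtain ⟨σ', hσ'⟩ := exists_res (k i) θ'
    have hh := e i σ σ' hσ hσ'
    subst hh
    exact (hu (A' i) (k i) σ).unique ⟨by rw [Category.assoc, hχ, Category.comp_id], hσ.comp hc⟩
      ⟨by rw [Category.assoc, hχ', Category.comp_id], hσ'.comp hc'⟩
  have hbase : χ.hom.base = χ'.hom.base := hk _ _ _ fun i => congrArg (fun m => m.hom.base) (hb i)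
  have hχχ : χ = χ' := ObjectProperty.hom_ext _ (hom_ext' (AlgSt.QuotObj.forget 𝕜 H aX) φZ.hom _ _ hbase
    (congrArg (fun m => m.hom) (hχ.trans hχ'.symm)))
  subst hχχ
  exact hc.unique hc'

/-- Gluing along a family effective for morphisms to bases. -/
theorem exists_of_desc {A : (Pn h aX a b).obj} {I : Type u} {A' : I → (Pn h aX a b).obj} {k : ∀ i, A' i ⟶ A}
    (hk : JEpi k) (σ : ∀ i, Vert c c' (A' i))
    (hd : ∀ (AZ : (Pn h aX a b).obj) (φZ : AZ ⟶ A) (θZ : Vert c c' AZ) (χ : ∀ i, A' i ⟶ AZ),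
      (∀ (i j : I) (B : (Pn h aX a b).obj) (u : B ⟶ A' i) (v : B ⟶ A' j) (τ τ' : Vert c c' B),
        (Cmp u τ (σ i) → Cmp v τ' (σ j) → τ = τ') → u ≫ k i = v ≫ k j →
          u.hom.base ≫ (χ i).hom.base = v.hom.base ≫ (χ j).hom.base ∨ ¬(Cmp u τ (σ i) ∧ Cmp v τ' (σ j))) →
      ∃ g : A.obj.base ⟶ AZ.obj.base, ∀ i, (k i).hom.base ≫ g = (χ i).hom.base) :
    ∃ θ : Vert c c' A, ∀ i, Cmp (k i) (σ i) θ := by
  haveI := isFibGrpd_Pn (h := h) (aX := aX) (a := a) (b := b)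
  haveI : IsFibGrpd (AlgSt.QuotObj.forget 𝕜 H aX) := QuotTransLib.isFibGrpd
  obtain ⟨AZ, φZ, θZ, -, hu⟩ := exists_univ c c' A
  choose χ hχ hχu using fun i => hu (A' i) (k i) (σ i)
  obtain ⟨g, hg⟩ := hd AZ φZ θZ χ (fun i j B u v τ τ' hτ huv => by
    by_cases hh : Cmp u τ (σ i) ∧ Cmp v τ' (σ j)
    · left
      have e := hτ hh.1 hh.2
      subst e
      have := (hu B (u ≫ k i) τ).unique ⟨by rw [Category.assoc, (hχ i).1], hh.1.comp (hχ i).2⟩
        ⟨by rw [Category.assoc, (hχ j).1, huv], hh.2.comp (hχ j).2⟩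
      exact congrArg (fun m => m.hom.base) this
    · exact Or.inr hh)
  have hgφ : g ≫ φZ.hom.base = 𝟙 _ := hk _ _ _ fun i => by
    rw [← Category.assoc, hg, Category.comp_id]
    exact congrArg (fun m => m.hom.base) (hχ i).1
  obtain ⟨s, hs, hs'⟩ := exists_factor φZ (𝟙 A) g hgφ
  obtain ⟨θ, hθ⟩ := exists_res s θZ
  refine ⟨θ, fun i => ?_⟩
  have e : k i ≫ s = χ i := ObjectProperty.hom_ext _ (hom_ext' (AlgSt.QuotObj.forget 𝕜 H aX) φZ.hom _ _
    (show (k i).hom.base ≫ s.hom.base = (χ i).hom.base by rw [hs, hg])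
    (congrArg (fun m => m.hom) (show (k i ≫ s) ≫ φZ = χ i ≫ φZ by
      rw [Category.assoc, hs', Category.comp_id, (hχ i).1])))
  exact hθ.of_comp (e ▸ (hχ i).2)

variable [IsAffine X.left] (hsr : SemiReg aX a b)

/-- A trivial punctured object. -/
abbrev ptr {T : Over S'} (x : T ⟶ X) (hx : Punct a b (tr aX x)) : (Pn h aX a b).obj := ⟨tr aX x, hx⟩

/-- The first piece. -/
abbrev ua : (Pn h aX a b).obj := ⟨tr aX (oi (X.left.basicOpen a)), punctA hsr⟩

/-- The second piece. -/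
abbrev ub : (Pn h aX a b).obj := ⟨tr aX (oi (X.left.basicOpen b)), punctB hsr⟩

variable (θa : Vert c c' (ua (h := h) hsr)) (θb : Vert c c' (ub (h := h) hsr))

/-- The agreement of the data on the pieces. -/
structure Agree : Prop where
  aa : ∀ {B : (Pn h aX a b).obj} {n n' : B ⟶ ua (h := h) hsr} {θ θ' : Vert c c' B},
    Cmp n θ θa → Cmp n' θ' θa → θ = θ'
  bb : ∀ {B : (Pn h aX a b).obj} {n n' : B ⟶ ub (h := h) hsr} {θ θ' : Vert c c' B},
    Cmp n θ θb → Cmp n' θ' θb → θ = θ'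
  ab : ∀ {B : (Pn h aX a b).obj} {n : B ⟶ ua (h := h) hsr} {n' : B ⟶ ub (h := h) hsr} {θ θ' : Vert c c' B},
    Cmp n θ θa → Cmp n' θ' θb → θ = θ'

/-- The correct value on a punctured object. -/
def Ok (B : (Pn h aX a b).obj) (θ : Vert c c' B) : Prop :=
  ∀ (B' : (Pn h aX a b).obj) (m : B' ⟶ B) (θ' : Vert c c' B'), Cmp m θ' θ →
    (∀ n : B' ⟶ ua (h := h) hsr, Cmp n θ' θa) ∧ ∀ n : B' ⟶ ub (h := h) hsr, Cmp n θ' θb

variable {hsr θa θb}

theorem Ok.res {B B' : (Pn h aX a b).obj} {m : B' ⟶ B} {θ : Vert c c' B} {θ' : Vert c c' B'}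
    (hθ : Ok hsr θa θb B θ) (hm : Cmp m θ' θ) : Ok hsr θa θb B' θ' :=
  fun B'' m' θ'' hm' => hθ B'' (m' ≫ m) θ'' (hm'.comp hm)

omit [IsAffineHom H.hom] in
theorem exists_to_piece {T : Over S'} (x : T ⟶ X) (V : X.left.Opens) (hV : x.left ⁻¹ᵁ V = ⊤) :
    Nonempty (tr aX x ⟶ tr aX (oi V)) := by
  obtain ⟨t, ht⟩ := exists_opn_fac x V hV
  exact ⟨tmap t (oi V) x ht⟩

include hsr in
omit [IsAffineHom H.hom] in
theorem preimage_a_of_hom {T : Over S'} {x : T ⟶ X} (n : tr aX x ⟶ tr aX (oi (X.left.basicOpen a))) :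
    x.left ⁻¹ᵁ X.left.basicOpen a = ⊤ := by
  rw [← ThetaBGa.Tc_triv hsr.invA x, ThetaBGa.Tc_hom n hsr.invA, ThetaBGa.Tc_triv hsr.invA, preimage_oi,
    Scheme.Hom.preimage_top]

include hsr in
omit [IsAffineHom H.hom] in
theorem preimage_b_of_hom {T : Over S'} {x : T ⟶ X} (n : tr aX x ⟶ tr aX (oi (X.left.basicOpen b))) :
    x.left ⁻¹ᵁ X.left.basicOpen b = ⊤ := by
  rw [← ThetaBGa.Tc_triv hsr.invB x, ThetaBGa.Tc_hom n hsr.invB, ThetaBGa.Tc_triv hsr.invB, preimage_oi,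
    Scheme.Hom.preimage_top]

/-- An open piece of a trivial object. -/
abbrev pieceOpen {T : Over S'} (x : T ⟶ X) (i : Bool) : T.left.Opens :=
  x.left ⁻¹ᵁ X.left.basicOpen (cond i a b)

include hsr in
theorem punct_piece {T : Over S'} (x : T ⟶ X) (i : Bool) :
    Punct a b (tr aX (oi (pieceOpen (a := a) (b := b) x i) ≫ x)) := by
  refine punct_tr hsr _ ?_
  rw [Over.comp_left, Scheme.Hom.comp_preimage, Scheme.Hom.comp_preimage]
  cases i
  · exact (congrArg (_ ⊔ ·) (preimage_oi _)).trans (sup_top_eq _)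
  · exact (congrArg (· ⊔ _) (preimage_oi _)).trans (top_sup_eq _)

/-- The inclusion of a piece. -/
abbrev pieceHom {T : Over S'} (x : T ⟶ X) (hx : Punct a b (tr aX x)) (i : ULift.{u} Bool) :
    ptr (h := h) (oi (pieceOpen (a := a) (b := b) x i.down) ≫ x) (punct_piece (hsr := hsr) x i.down) ⟶ ptr x hx :=
  ObjectProperty.homMk (tmap (oi _) x _ rfl)

theorem iSup_piece {T : Over S'} {x : T ⟶ X} (hx : Punct a b (tr aX x)) :
    (⨆ i : ULift.{u} Bool, pieceOpen (a := a) (b := b) x i.down) = ⊤ := by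
  refine top_le_iff.1 fun z _ => ?_
  let p : (H ⊗ T).left := (lift (1 : T ⟶ H) (𝟙 T)).left z
  have hφ : (tr aX x).φ.left p = x.left z :=
    congrArg (fun m : T ⟶ X => m.left z) ((lift_one_φ (aX := aX) (𝟙 T) x).trans (Category.id_comp x))
  have hp : p ∈ (tr aX x).P.left.basicOpen ((tr aX x).φ.left.appTop a) ⊔
      (tr aX x).P.left.basicOpen ((tr aX x).φ.left.appTop b) := by
    rw [show _ ⊔ _ = (⊤ : (tr aX x).P.left.Opens) from hx]; trivial
  rw [← preimage_bo, ← preimage_bo] at hp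
  rcases hp with hp | hp
  · exact TopologicalSpace.Opens.mem_iSup.2 ⟨⟨true⟩, show x.left z ∈ X.left.basicOpen a from hφ ▸ hp⟩
  · exact TopologicalSpace.Opens.mem_iSup.2 ⟨⟨false⟩, show x.left z ∈ X.left.basicOpen b from hφ ▸ hp⟩

theorem base_pieceHom {T : Over S'} (x : T ⟶ X) (hx : Punct a b (tr aX x)) (i : ULift.{u} Bool) :
    (pieceHom (h := h) (hsr := hsr) x hx i).hom.base = oi (pieceOpen (a := a) (b := b) x i.down) :=
  base_tmap _ rfl

theorem jepi_piece {T : Over S'} (x : T ⟶ X) (hx : Punct a b (tr aX x)) :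
    JEpi (pieceHom (h := h) (hsr := hsr) x hx) := by
  intro Z g g' e
  refine Over.OverMorphism.ext ((T.left.openCoverOfIsOpenCover _ (.mk (iSup_piece hx))).hom_ext _ _ fun i => ?_)
  have := congrArg (fun k => k.left) (e i)
  rw [base_pieceHom] at this
  exact this

variable (hag : Agree hsr θa θb)

include hag in
/-- The value on a piece. -/
theorem exists_ok_piece {T : Over S'} (x : T ⟶ X) (hx : Punct a b (tr aX x))
    (hV : x.left ⁻¹ᵁ X.left.basicOpen a = ⊤ ∨ x.left ⁻¹ᵁ X.left.basicOpen b = ⊤) :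
    ∃ θ : Vert c c' (ptr (h := h) x hx), Ok hsr θa θb _ θ := by
  rcases hV with hV | hV
  · obtain ⟨n⟩ := exists_to_piece (aX := aX) x _ hV
    let n' : ptr (h := h) x hx ⟶ ua (h := h) hsr := ObjectProperty.homMk n
    obtain ⟨θ, hθ⟩ := exists_res n' θa
    refine ⟨θ, fun B' m θ' hm => ⟨fun k => ?_, fun k => ?_⟩⟩
    · obtain ⟨θ'', h''⟩ := exists_res k θa
      exact hag.aa (hm.comp hθ) h'' ▸ h''
    · obtain ⟨θ'', h''⟩ := exists_res k θb
      exact hag.ab (hm.comp hθ) h'' ▸ h''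
  · obtain ⟨n⟩ := exists_to_piece (aX := aX) x _ hV
    let n' : ptr (h := h) x hx ⟶ ub (h := h) hsr := ObjectProperty.homMk n
    obtain ⟨θ, hθ⟩ := exists_res n' θb
    refine ⟨θ, fun B' m θ' hm => ⟨fun k => ?_, fun k => ?_⟩⟩
    · obtain ⟨θ'', h''⟩ := exists_res k θa
      exact (hag.ab h'' (hm.comp hθ)).symm ▸ h''
    · obtain ⟨θ'', h''⟩ := exists_res k θb
      exact hag.bb (hm.comp hθ) h'' ▸ h''

theorem ok_unique {T : Over S'} {x : T ⟶ X} {hx : Punct a b (tr aX x)} {θ θ' : Vert c c' (ptr (h := h) x hx)}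
    (hθ : Ok hsr θa θb _ θ) (hθ' : Ok hsr θa θb _ θ') : θ = θ' := by
  refine eq_of_jepi (jepi_piece (hsr := hsr) x hx) fun i σ σ' hσ hσ' => ?_
  have hpre : (oi (pieceOpen (a := a) (b := b) x i.down) ≫ x).left ⁻¹ᵁ X.left.basicOpen (cond i.down a b) = ⊤ := by
    rw [Over.comp_left, Scheme.Hom.comp_preimage]; exact preimage_oi _
  obtain ⟨i⟩ := i
  cases i
  · obtain ⟨n⟩ := exists_to_piece (aX := aX) _ _ hpre
    exact ((hθ _ _ σ hσ).2 (ObjectProperty.homMk n)).unique ((hθ' _ _ σ' hσ').2 (ObjectProperty.homMk n))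
  · obtain ⟨n⟩ := exists_to_piece (aX := aX) _ _ hpre
    exact ((hθ _ _ σ hσ).1 (ObjectProperty.homMk n)).unique ((hθ' _ _ σ' hσ').1 (ObjectProperty.homMk n))

/-- Every morphism of trivial objects to a piece comes from the piece. -/
theorem exists_factor_piece {T T' : Over S'} {x : T ⟶ X} {x' : T' ⟶ X} (hsr : SemiReg aX a b)
    (hx : Punct a b (tr aX x)) (hx' : Punct a b (tr aX x')) (m : ptr (h := h) x' hx' ⟶ ptr x hx) (i : ULift.{u} Bool)
    (hi : x'.left ⁻¹ᵁ X.left.basicOpen (cond i.down a b) = ⊤) :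
    ∃ m' : ptr (h := h) x' hx' ⟶ ptr (oi (pieceOpen (a := a) (b := b) x i.down) ≫ x) (punct_piece (hsr := hsr) x i.down),
      m' ≫ pieceHom (hsr := hsr) x hx i = m := by
  have hinv : ThetaBGa.Inv aX (cond i.down a b) := by
    cases i.down
    · exact hsr.invB
    · exact hsr.invA
  have hpre : m.hom.base.left ⁻¹ᵁ pieceOpen (a := a) (b := b) x i.down = ⊤ := by
    have := ThetaBGa.Tc_hom m.hom hinv
    rw [ThetaBGa.Tc_triv hinv, ThetaBGa.Tc_triv hinv, hi] at this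
    exact this.symm
  obtain ⟨t, ht⟩ := exists_opn_fac (X := T) m.hom.base (pieceOpen (a := a) (b := b) x i.down) hpre
  obtain ⟨m', -, hm'⟩ := exists_factor (pieceHom (h := h) (hsr := hsr) x hx i) m t (by rw [base_pieceHom]; exact ht)
  exact ⟨m', hm'⟩

variable [Flat H.hom] [LocallyOfFinitePresentation H.hom]

/-- The tautological morphism is epimorphic on bases. -/
theorem jepi_taut (A : (Pn h aX a b).obj) :
    JEpi (I := PUnit.{u + 1}) (A' := fun _ => ptr (h := h) A.obj.φ (punct_of_hom (taut A.obj) A.property))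
      (fun _ => ObjectProperty.homMk (taut A.obj)) := by
  intro Z g g' e
  haveI := epi_π A.obj
  refine (yon S').map_injective ((cancel_epi ((yon S').map A.obj.π)).1 ?_)
  have := e ⟨⟩
  change (𝟙 A.obj.P ≫ A.obj.π) ≫ g = (𝟙 A.obj.P ≫ A.obj.π) ≫ g' at this
  rw [Category.id_comp] at this
  rw [← Functor.map_comp, this, Functor.map_comp]

theorem ok_of_pieces {T : Over S'} (x : T ⟶ X) (hx : Punct a b (tr aX x)) (σ : ∀ i : ULift.{u} Bool,
      Vert c c' (ptr (h := h) (oi (pieceOpen (a := a) (b := b) x i.down) ≫ x) (punct_piece (hsr := hsr) x i.down)))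
    (hσ : ∀ i, Ok hsr θa θb _ (σ i)) (θ : Vert c c' (ptr (h := h) x hx))
    (hθ : ∀ i, Cmp (pieceHom (hsr := hsr) x hx i) (σ i) θ) : Ok hsr θa θb _ θ := by
  intro B' m θ' hm
  haveI := isFibGrpd_Pn (h := h) (aX := aX) (a := a) (b := b)
  refine ⟨fun n => ?_, fun n => ?_⟩
  · obtain ⟨θ'', hθ''⟩ := exists_res n θa
    suffices θ' = θ'' from this ▸ hθ''
    refine eq_of_jepi (jepi_taut B') fun _ τ τ' hτ hτ' => ?_
    obtain ⟨m', hm'⟩ := exists_factor_piece hsr hx _ (ObjectProperty.homMk (taut B'.obj) ≫ m) ⟨true⟩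
      (preimage_a_of_hom (hsr := hsr) (taut B'.obj ≫ n.hom))
    have h₁ : Cmp (m' ≫ pieceHom (hsr := hsr) x hx ⟨true⟩) τ θ := hm'.symm ▸ hτ.comp hm
    exact ((hσ ⟨true⟩ _ m' τ ((hθ ⟨true⟩).of_comp h₁)).1 (ObjectProperty.homMk (taut B'.obj) ≫ n)).unique
      (hτ'.comp hθ'')
  · obtain ⟨θ'', hθ''⟩ := exists_res n θb
    suffices θ' = θ'' from this ▸ hθ''
    refine eq_of_jepi (jepi_taut B') fun _ τ τ' hτ hτ' => ?_
    obtain ⟨m', hm'⟩ := exists_factor_piece hsr hx _ (ObjectProperty.homMk (taut B'.obj) ≫ m) ⟨false⟩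
      (preimage_b_of_hom (hsr := hsr) (taut B'.obj ≫ n.hom))
    have h₁ : Cmp (m' ≫ pieceHom (hsr := hsr) x hx ⟨false⟩) τ θ := hm'.symm ▸ hτ.comp hm
    exact ((hσ ⟨false⟩ _ m' τ ((hθ ⟨false⟩).of_comp h₁)).2 (ObjectProperty.homMk (taut B'.obj) ≫ n)).unique
      (hτ'.comp hθ'')

include hag in
/-- The value on a trivial object. -/
theorem exists_ok {T : Over S'} (x : T ⟶ X) (hx : Punct a b (tr aX x)) :
    ∃ θ : Vert c c' (ptr (h := h) x hx), Ok hsr θa θb _ θ := by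
  have hσ : ∀ i : ULift.{u} Bool, ∃ σ, Ok hsr θa θb
      (ptr (h := h) (oi (pieceOpen (a := a) (b := b) x i.down) ≫ x) (punct_piece (hsr := hsr) x i.down)) σ := fun i => by
    refine exists_ok_piece hag _ _ ?_
    obtain ⟨_ | _⟩ := i
    · exact Or.inr ((congrArg (fun f => f ⁻¹ᵁ _) (Over.comp_left _ _ _ _ _)).trans (by
        rw [Scheme.Hom.comp_preimage]; exact preimage_oi _))
    · exact Or.inl ((congrArg (fun f => f ⁻¹ᵁ _) (Over.comp_left _ _ _ _ _)).trans (by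
        rw [Scheme.Hom.comp_preimage]; exact preimage_oi _))
  choose σ hσ using hσ
  obtain ⟨θ, hθ⟩ := exists_of_desc (jepi_piece (hsr := hsr) x hx) σ fun AZ φZ θZ χ hχ => by
    let cov := T.left.openCoverOfIsOpenCover _ (.mk (iSup_piece (a := a) (b := b) (x := x) hx))
    have hcomp : ∀ i j, pullback.fst (cov.f i) (cov.f j) ≫ (χ i).hom.base.left =
        pullback.snd (cov.f i) (cov.f j) ≫ (χ j).hom.base.left := fun i j => by
      let Z : Over S' := Over.mk (pullback.fst (cov.f i) (cov.f j) ≫ (cov.f i) ≫ T.hom)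
      let ti : Z ⟶ opn (pieceOpen (a := a) (b := b) x i.down) :=
        Over.homMk (pullback.fst (cov.f i) (cov.f j)) rfl
      let tj : Z ⟶ opn (pieceOpen (a := a) (b := b) x j.down) :=
        Over.homMk (pullback.snd (cov.f i) (cov.f j)) (by
          show pullback.snd _ _ ≫ cov.f j ≫ T.hom = _
          rw [← Category.assoc, ← pullback.condition, Category.assoc]; rfl)
      have hij : ti ≫ oi _ ≫ x = tj ≫ oi _ ≫ x := by
        rw [← Category.assoc, ← Category.assoc]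
        congr 1
        exact Over.OverMorphism.ext pullback.condition
      have hB : Punct a b (tr aX (ti ≫ oi _ ≫ x)) :=
        punct_of_hom (tmap (aX := aX) ti _ _ rfl) (punct_piece (hsr := hsr) x i.down)
      have hoi : ti ≫ oi (pieceOpen (a := a) (b := b) x i.down) = tj ≫ oi (pieceOpen (a := a) (b := b) x j.down) :=
        Over.OverMorphism.ext pullback.condition
      have htt : tmap (aX := aX) ti (oi (pieceOpen (a := a) (b := b) x i.down) ≫ x) (ti ≫ oi _ ≫ x) rfl ≫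
          tmap (aX := aX) (oi _) x (oi (pieceOpen (a := a) (b := b) x i.down) ≫ x) rfl =
          tmap (aX := aX) tj (oi (pieceOpen (a := a) (b := b) x j.down) ≫ x) (ti ≫ oi _ ≫ x) hij.symm ≫
          tmap (aX := aX) (oi _) x (oi (pieceOpen (a := a) (b := b) x j.down) ≫ x) rfl := pt_inj (by
        rw [pt_tmap_hom, pt_tmap_hom, comp_lift, comp_lift, MonObj.comp_one, MonObj.comp_one, hoi])
      let B : (Pn h aX a b).obj := ptr (ti ≫ oi _ ≫ x) hB
      let u : B ⟶ ptr (oi (pieceOpen (a := a) (b := b) x i.down) ≫ x) (punct_piece (hsr := hsr) x i.down) :=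
        ObjectProperty.homMk (tmap (aX := aX) ti (oi (pieceOpen (a := a) (b := b) x i.down) ≫ x) _ rfl)
      let v : B ⟶ ptr (oi (pieceOpen (a := a) (b := b) x j.down) ≫ x) (punct_piece (hsr := hsr) x j.down) :=
        ObjectProperty.homMk (tmap (aX := aX) tj _ _ hij.symm)
      obtain ⟨τ, hτ⟩ := exists_res u (σ i)
      obtain ⟨τ', hτ'⟩ := exists_res v (σ j)
      have e := (hχ i j B u v τ τ' (fun h₁ h₂ => ok_unique ((hσ i).res h₁) ((hσ j).res h₂))
        (ObjectProperty.hom_ext _ htt)).resolve_right (fun hn => hn ⟨hτ, hτ'⟩)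
      have := congrArg (fun k => k.left) e
      simp only [u, v, ObjectProperty.homMk_hom, base_tmap, Over.comp_left] at this
      exact this
    obtain ⟨g, hg⟩ : ∃ g : T.left ⟶ AZ.obj.base.left, ∀ i, cov.f i ≫ g = (χ i).hom.base.left :=
      ⟨cov.glueMorphisms (fun i => (χ i).hom.base.left) hcomp,
        Scheme.Cover.ι_glueMorphisms cov (fun i => (χ i).hom.base.left) hcomp⟩
    refine ⟨Over.homMk g (cov.hom_ext _ _ fun i => ?_), fun i => Over.OverMorphism.ext ?_⟩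
    · rw [← Category.assoc, hg]
      exact Over.w (χ i).hom.base
    · rw [Over.comp_left, base_pieceHom]
      exact hg i
  exact ⟨θ, ok_of_pieces x hx σ hσ θ hθ⟩


include hag in
/-- Two functors agreeing compatibly on the pieces are isomorphic. -/
theorem nonempty_iso_of_agree : Nonempty (c ≅ c') := by
  haveI := isFibGrpd_Pn (h := h) (aX := aX) (a := a) (b := b)
  let T₀ : ∀ A : (Pn h aX a b).obj, (Pn h aX a b).obj :=
    fun A => ptr A.obj.φ (punct_of_hom (taut A.obj) A.property)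
  let κ : ∀ A : (Pn h aX a b).obj, T₀ A ⟶ A := fun A => ObjectProperty.homMk (taut A.obj)
  have hje : ∀ A, JEpi (I := PUnit.{u + 1}) (fun _ => κ A) := jepi_taut
  have hex : ∀ A, ∃ θ : Vert c c' A, ∀ σ, Cmp (κ A) σ θ → Ok hsr θa θb (T₀ A) σ := fun A => by
    obtain ⟨σ, hσ⟩ := exists_ok hag A.obj.φ (punct_of_hom (taut A.obj) A.property) (hsr := hsr)
    obtain ⟨θ, hθ⟩ := exists_of_desc (I := PUnit.{u + 1}) (hje A) (fun _ => σ) fun AZ φZ θZ χ hχ => by
      let w := A.obj.act.act ≫ A.obj.φ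
      let ka : tr aX w ⟶ tr aX A.obj.φ := tmap A.obj.act.act A.obj.φ w rfl
      let kb : tr aX w ⟶ tr aX A.obj.φ := LiftAffLib.hom _ (𝟙 (H ⊗ A.obj.P)) w (by
        change 𝟙 _ ≫ (H ◁ A.obj.φ) ≫ aX.act = A.obj.act.act ≫ A.obj.φ
        rw [Category.id_comp, A.obj.eqv])
      have hkk : ka ≫ taut A.obj = kb ≫ taut A.obj := pt_inj (by
        rw [pt_tmap_hom, pt_comp, pt_hom, Category.comp_id]
        change _ = 𝟙 _ ≫ (H ◁ 𝟙 A.obj.P) ≫ A.obj.act.act
        simp)
      let B : (Pn h aX a b).obj := ptr w (punct_of_hom ka (T₀ A).property)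
      let u : B ⟶ T₀ A := ObjectProperty.homMk ka
      let v : B ⟶ T₀ A := ObjectProperty.homMk kb
      obtain ⟨τ, hτ⟩ := exists_res u σ
      obtain ⟨τ', hτ'⟩ := exists_res v σ
      have e := (hχ ⟨⟩ ⟨⟩ B u v τ τ' (fun h₁ h₂ => ok_unique (hσ.res h₁) (hσ.res h₂))
        (ObjectProperty.hom_ext _ hkk)).resolve_right (fun hn => hn ⟨hτ, hτ'⟩)
      simp only [u, v, ObjectProperty.homMk_hom, ka, base_tmap] at e
      change A.obj.act.act ≫ (χ ⟨⟩).hom.base = (𝟙 _ ≫ snd H A.obj.P) ≫ (χ ⟨⟩).hom.base at e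
      rw [Category.id_comp] at e
      haveI := epi_π A.obj
      obtain ⟨g₁, hg₁⟩ := exists_desc ((yon S').map A.obj.π) ((yon S').map (χ ⟨⟩).hom.base) fun T p p' hp => by
        have sqA := A.obj.cart.map (yon S')
        rw [← sqA.lift_fst p p' hp]
        conv_rhs => rw [← sqA.lift_snd p p' hp]
        rw [Category.assoc, Category.assoc, ← Functor.map_comp, ← Functor.map_comp, e]
      obtain ⟨g, rfl⟩ := (yon S').map_surjective g₁
      refine ⟨g, fun _ => ?_⟩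
      show (𝟙 A.obj.P ≫ A.obj.π) ≫ g = _
      rw [Category.id_comp]
      exact (yon S').map_injective (by rw [Functor.map_comp, hg₁])
    exact ⟨θ, fun σ' hσ' => (hθ ⟨⟩).unique hσ' ▸ hσ⟩
  choose Θ hΘ using hex
  refine nonempty_iso_of_natural Θ fun {A A'} k => ?_
  obtain ⟨θ', hθ'⟩ := exists_res k (Θ A)
  suffices θ' = Θ A' from this ▸ hθ'
  refine eq_of_jepi (hje A') fun _ τ τ' hτ hτ' => ?_
  refine ok_unique (hsr := hsr) ?_ (hΘ A' τ' hτ')
  let q : T₀ A' ⟶ T₀ A := ObjectProperty.homMk (tmap k.hom.top A.obj.φ A'.obj.φ k.hom.wφ)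
  have e : κ A' ≫ k = q ≫ κ A := ObjectProperty.hom_ext _ (pt_inj (by
    show pt (taut A'.obj ≫ k.hom) = pt (tmap k.hom.top A.obj.φ A'.obj.φ k.hom.wφ ≫ taut A.obj)
    rw [pt_comp, pt_hom, pt_tmap_hom, Category.id_comp, Category.comp_id]))
  obtain ⟨τ₀, hτ₀⟩ := exists_res (κ A) (Θ A)
  exact (hΘ A τ₀ hτ₀).res (hτ₀.of_comp (e ▸ hτ.comp hθ'))

end ThetaBG
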