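import Mathlib

/-!
# Equivariant trivialisations of equivariant bundles on the line over a field
-/

set_option autoImplicit false
set_option backward.isDefEq.respectTransparency false
set_option linter.all false
universe u

open LaurentPolynomial
open scoped Polynomial

noncomputable section

namespace ThetaBG

variable {K : Type u} [Field K]

/-- Functions on the product of the multiplicative group and the line. -/
abbrev LA (K : Type u) [Field K] : Type u := LaurentPolynomial K[X]

/-- Functions on the product of two multiplicative groups and the line. -/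
abbrev LB (K : Type u) [Field K] : Type u := LaurentPolynomial (LA K)

/-- The coordinate of the group as a unit. -/
def tU (A : Type u) [CommRing A] : (LaurentPolynomial A)ˣ := ((isUnit_T 1) : IsUnit (T 1 : LaurentPolynomial A)).unit

theorem val_tU (A : Type u) [CommRing A] : ((tU A : (LaurentPolynomial A)ˣ) : LaurentPolynomial A) = T 1 := rfl

theorem val_tU_zpow (A : Type u) [CommRing A] (n : ℤ) :
    ((tU A ^ n : (LaurentPolynomial A)ˣ) : LaurentPolynomial A) = T n := by
  induction n using Int.induction_on with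
  | zero => simp
  | succ k ih => rw [zpow_add_one, Units.val_mul, ih, val_tU, ← T_add]
  | pred k ih =>
    have h : ((tU A)⁻¹ : (LaurentPolynomial A)ˣ).val = T (-1) := by
      refine Units.inv_eq_of_mul_eq_one_right ?_
      rw [val_tU, ← T_add, add_neg_cancel, T_zero]
    rw [zpow_sub_one, Units.val_mul, ih, h, ← T_add, sub_eq_add_neg]

@[simp] theorem val_inv_tU (A : Type u) [CommRing A] :
    (((tU A)⁻¹ : (LaurentPolynomial A)ˣ) : LaurentPolynomial A) = T (-1) := by
  simpa using val_tU_zpow A (-1)

/-- Scaling the line. -/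
abbrev sX (A : Type u) [CommRing A] (φ : K →+* A) (x : A) : K[X] →+* A := Polynomial.eval₂RingHom φ x

/-- The constants in the first ring. -/
abbrev k1 : K →+* LA K := C.comp Polynomial.C

/-- The constants in the second ring. -/
abbrev k2 : K →+* LB K := C.comp k1

/-- The scaling of the line by the coordinate. -/
def zX : K[X] →+* LA K := sX (LA K) (k1 (K := K)) (T 1 * C Polynomial.X)

/-- The scaling of the line by the inverse coordinate. -/
def izX : K[X] →+* LA K := sX (LA K) (k1 (K := K)) (T (-1) * C Polynomial.X)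

/-- The product of the coordinates. -/
def sA : LA K →+* LB K :=
  eval₂ (C.comp C) (Units.map (C : LA K →+* LB K).toMonoidHom (tU K[X]) * tU (LA K))

/-- The first coordinate after scaling by the second. -/
def sB : LA K →+* LB K :=
  eval₂ (sX (LB K) (k2 (K := K)) (T 1 * C (C Polynomial.X))) (Units.map (C : LA K →+* LB K).toMonoidHom (tU K[X]))

/-- The second coordinate. -/
def sC : LA K →+* LB K := eval₂ (C.comp C) (tU (LA K))

/-- The second coordinate after scaling by the inverse of the first. -/
def sD : LA K →+* LB K := eval₂ (C.comp izX) (tU (LA K))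

/-- Undoing the scaling. -/
def psi : LA K →+* LA K := eval₂ izX (tU K[X])

/-- Scaling. -/
def psi' : LA K →+* LA K := eval₂ zX (tU K[X])

/-- Undoing both scalings. -/
def Psi : LB K →+* LB K :=
  eval₂ (eval₂ (sX (LB K) (k2 (K := K)) (C (T (-1)) * T (-1) * C (C Polynomial.X)))
    (Units.map (C : LA K →+* LB K).toMonoidHom (tU K[X]))) (tU (LA K))

theorem T_one_mul_neg {A : Type u} [CommRing A] : (T 1 : LaurentPolynomial A) * T (-1) = 1 := by
  rw [← T_add]; simp

theorem laHom_ext {A : Type u} [CommRing A] {f g : LA K →+* A} (hc : ∀ c, f (C (Polynomial.C c)) = g (C (Polynomial.C c)))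
    (hX : f (C Polynomial.X) = g (C Polynomial.X)) (hT : f (T 1) = g (T 1)) : f = g := by
  refine IsLocalization.ringHom_ext (Submonoid.powers (Polynomial.X : K[X][X])) ?_
  refine Polynomial.ringHom_ext (fun p => ?_) ?_
  · simp only [RingHom.comp_apply, algebraMap_eq_toLaurent, Polynomial.toLaurent_C]
    exact RingHom.congr_fun (Polynomial.ringHom_ext (f := f.comp C) (g := g.comp C) hc hX) p
  · simp only [RingHom.comp_apply, algebraMap_eq_toLaurent, Polynomial.toLaurent_X]
    exact hT

/-- The values of the substitutions on the generators. -/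
macro "subst_simp" : tactic => `(tactic|
  simp [sA, sB, sC, sD, psi, psi', Psi, zX, izX, sX, val_tU, val_tU_zpow, val_inv_tU, -T_mul])

theorem Psi_sA : (Psi (K := K)).comp sA = sA.comp psi := by
  refine laHom_ext (K := K) (A := LB K) (fun c => ?_) ?_ ?_ <;> subst_simp
  left
  ring

theorem Psi_sB : (Psi (K := K)).comp sB = (C : LA K →+* LB K).comp psi := by
  refine laHom_ext (K := K) (A := LB K) (fun c => ?_) ?_ ?_ <;> subst_simp
  linear_combination (C (T (-1)) * C (C Polynomial.X)) * T_one_mul_neg (A := LA K)

theorem Psi_sC : (Psi (K := K)).comp sC = sD.comp psi := by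
  refine laHom_ext (K := K) (A := LB K) (fun c => ?_) ?_ ?_ <;> subst_simp
  ring

theorem psi'_psi : (psi' (K := K)).comp psi = RingHom.id _ := by
  refine laHom_ext (fun c => ?_) ?_ ?_ <;> subst_simp
  linear_combination (C Polynomial.X) * T_one_mul_neg (A := K[X])

theorem psi'_izX (p : K[X]) : psi' (izX p) = C p := by
  have h : (psi' (K := K)).comp izX = C := by
    refine Polynomial.ringHom_ext (fun c => ?_) ?_ <;> subst_simp
    linear_combination (C Polynomial.X) * T_one_mul_neg (A := K[X])
  exact RingHom.congr_fun h p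

theorem psi'_C (p : K[X]) : psi' (C p) = zX p := by subst_simp

theorem coeff_C_mul {A : Type u} [CommRing A] (a : A) (q : LaurentPolynomial A) (d : ℤ) :
    (C a * q).coeff d = a * q.coeff d := by
  induction q using LaurentPolynomial.induction_on' with
  | add p q hp hq => simp [mul_add, hp, hq]
  | C_mul_T n b =>
    rw [← mul_assoc, ← map_mul, ← single_eq_C_mul_T, ← single_eq_C_mul_T, AddMonoidAlgebra.coeff_single,
      AddMonoidAlgebra.coeff_single, Finsupp.single_apply, Finsupp.single_apply, mul_ite, mul_zero]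

theorem coeff_sA (p : LA K) (d : ℤ) : (sA p).coeff d = C (p.coeff d) * T d := by
  induction p using LaurentPolynomial.induction_on' with
  | add p q hp hq => simp [hp, hq, add_mul]
  | C_mul_T n a =>
    have hT1 : sA (T 1 : LA K) = C (T 1) * T 1 := by simp [sA, val_tU]
    have hTn : ∀ m : ℤ, sA (T m : LA K) = C (T m) * T m := fun m => by
      have hinv : sA (T (-1) : LA K) = C (T (-1)) * T (-1) := by
        have hu : IsUnit (C (T 1) * T 1 : LB K) := ((isUnit_T 1).map (C : LA K →+* LB K)).mul (isUnit_T 1)
        refine hu.mul_left_cancel ?_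
        calc C (T 1) * T 1 * sA (T (-1) : LA K) = sA (T 1 * T (-1) : LA K) := by rw [map_mul, hT1]
          _ = 1 := by rw [T_one_mul_neg, map_one]
          _ = C (T 1 * T (-1)) * (T 1 * T (-1)) := by rw [T_one_mul_neg, T_one_mul_neg, map_one, mul_one]
          _ = _ := by rw [map_mul]; ring
      induction m using Int.induction_on with
      | zero => simp
      | succ k ih => rw [T_add, map_mul, ih, hT1, map_mul, T_add]; ring
      | pred k ih => rw [sub_eq_add_neg, T_add, map_mul, ih, hinv, map_mul, T_add]; ring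
    have h : sA (C a * T n) = C (C a * T n) * T n := by
      rw [map_mul, hTn, map_mul, show sA (C a) = C (C a) by simp [sA], mul_assoc]
    rw [h, coeff_C_mul, T_apply, ← single_eq_C_mul_T, AddMonoidAlgebra.coeff_single, Finsupp.single_apply]
    by_cases hn : n = d
    · subst hn; simp [single_eq_C_mul_T]
    · simp [hn]

theorem coeff_sD (p : LA K) (d : ℤ) : (sD p).coeff d = izX (p.coeff d) := by
  induction p using LaurentPolynomial.induction_on' with
  | add p q hp hq => simp [hp, hq]
  | C_mul_T n a =>
    have h : sD (C a * T n) = C (izX a) * T n := by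
      simp [sD, val_tU_zpow]
    rw [h, coeff_C_mul, T_apply, ← single_eq_C_mul_T, AddMonoidAlgebra.coeff_single, Finsupp.single_apply]
    by_cases hn : n = d
    · subst hn; simp
    · simp [hn]

/-- Evaluation of the coordinate at one. -/
def ev1 : LA K →+* K[X] := eval₂ (RingHom.id _) 1

theorem sum_coeff (p : LA K) : ∑ d ∈ p.coeff.support, p.coeff d = ev1 p := by
  have h : ∀ p : LA K, p.coeff.sum (fun _ a => a) = ev1 p := fun p => by
    induction p using LaurentPolynomial.induction_on' with
    | add p q hp hq =>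
      rw [map_add, AddMonoidAlgebra.coeff_add, Finsupp.sum_add_index' (fun _ => rfl) (fun _ _ _ => rfl), hp, hq]
    | C_mul_T n a =>
      rw [← single_eq_C_mul_T, AddMonoidAlgebra.coeff_single, Finsupp.sum_single_index rfl, single_eq_C_mul_T]
      simp [ev1]
  exact h p

variable {n : ℕ} (D : Matrix (Fin n) (Fin n) (LA K))

/-- Vectors of a fixed weight. -/
def IsWt (d : ℤ) (w : Fin n → K[X]) : Prop := D.mulVec (fun i => C (w i)) = fun i => T d * zX (w i)

variable {D} (hu : IsUnit D.det) (hD : D.map sA = D.map sB * D.map sC)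

include hu hD in
theorem map_ev1 : D.map ev1 = 1 := by
  let e : LB K →+* K[X] := eval₂ ev1 1
  have h1 : e.comp sA = ev1 := by refine laHom_ext (fun c => ?_) ?_ ?_ <;> simp [e, sA, ev1, val_tU]
  have h2 : e.comp sB = ev1 := by refine laHom_ext (fun c => ?_) ?_ ?_ <;> simp [e, sB, ev1, val_tU, sX]
  have h3 : e.comp sC = ev1 := by refine laHom_ext (fun c => ?_) ?_ ?_ <;> simp [e, sC, ev1, val_tU]
  have h := congrArg (fun M : Matrix (Fin n) (Fin n) (LB K) => M.map e) hD
  rw [Matrix.map_mul, Matrix.map_map, Matrix.map_map, Matrix.map_map, ← RingHom.coe_comp, ← RingHom.coe_comp,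
    ← RingHom.coe_comp, h1, h2, h3] at h
  have hu' : IsUnit (D.map ev1) := (Matrix.isUnit_iff_isUnit_det _).2 (by
    have := hu.map (ev1 (K := K))
    rw [RingHom.map_det] at this
    exact this)
  exact (hu'.mul_left_cancel (h.symm.trans (mul_one _).symm))

include hu hD in
theorem exists_wt_span (v : Fin n → K) :
    ∃ (s : Finset ℤ) (w : ℤ → Fin n → K[X]), (∀ d ∈ s, IsWt D d (w d)) ∧ ∀ i, ∑ d ∈ s, (w d i).eval 0 = v i := by
  let E := D.map psi
  have hE : E.map sA = E.map (C : LA K →+* LB K) * E.map sD := by
    have h := congrArg (fun M : Matrix (Fin n) (Fin n) (LB K) => M.map Psi) hD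
    simp only [Matrix.map_mul, Matrix.map_map, ← RingHom.coe_comp, Psi_sA, Psi_sB, Psi_sC] at h
    simp only [E, Matrix.map_map, ← RingHom.coe_comp]
    exact h
  let q : Fin n → LA K := E.mulVec (fun i => k1 (v i))
  have hq : (fun i => sA (q i)) = (E.map (C : LA K →+* LB K)).mulVec (fun i => sD (q i)) := by
    have e : ∀ f : LA K →+* LB K, (∀ c, f (k1 c) = k2 c) → (fun i => f (q i)) = (E.map f).mulVec (fun i => k2 (v i)) :=
      fun f hf => funext fun i => by
        refine (RingHom.map_mulVec f E _ i).trans ?_
        exact congrArg (fun z => (E.map f).mulVec z i) (funext fun j => hf _)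
    rw [e sA (fun c => by simp [sA]), e sD (fun c => by simp [sD, izX, sX]), Matrix.mulVec_mulVec, hE]
  classical
  let s : Finset ℤ := Finset.univ.biUnion fun i => (q i).coeff.support
  refine ⟨s, fun d i => (q i).coeff d, fun d _ => ?_, fun i => ?_⟩
  · have h1 : ∀ i, C ((q i).coeff d) * T d = E.mulVec (fun j => izX ((q j).coeff d)) i := fun i => by
      have := congrArg (fun p : LB K => p.coeff d) (congrFun hq i)
      simp only [Matrix.mulVec, dotProduct, Matrix.map_apply, AddMonoidAlgebra.coeff_sum, Finsupp.finsetSum_apply,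
        coeff_C_mul, coeff_sA, coeff_sD] at this
      exact this
    funext i
    have h2 := congrArg psi' (h1 i)
    rw [map_mul, psi'_C, RingHom.map_mulVec] at h2
    have h3 : E.map psi' = D := by
      simp only [E, Matrix.map_map, ← RingHom.coe_comp, psi'_psi]
      simp
    rw [h3] at h2
    simp only [Function.comp_def, psi'_izX] at h2
    rw [← h2, mul_comm]
    simp [psi', val_tU_zpow]
  · have h1 : ∀ i, ∑ d ∈ s, (q i).coeff d = ev1 (q i) := fun i => by
      rw [← sum_coeff]
      exact (Finset.sum_subset (Finset.subset_biUnion_of_mem (fun i => (q i).coeff.support) (Finset.mem_univ i))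
        fun d _ hd => Finsupp.notMem_support_iff.1 hd).symm
    have h2 : E.map ev1 = 1 := by
      have h : (ev1 (K := K)).comp psi = ev1 := by
        refine laHom_ext (fun c => ?_) ?_ ?_ <;> simp [psi, ev1, izX, sX, val_tU]
      simp only [E, Matrix.map_map, ← RingHom.coe_comp, h]
      exact map_ev1 hu hD
    rw [← Polynomial.eval_finset_sum, h1, RingHom.map_mulVec, h2, Matrix.one_mulVec]
    simp [ev1]

theorem isUnit_la_eq {δ : LA K} (h : IsUnit δ) : ∃ (c : K) (m : ℤ), δ = C (Polynomial.C c) * T m := by
  obtain ⟨δ', hδ⟩ := h.exists_right_inv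
  obtain ⟨p, a, hp⟩ := exists_T_pow δ
  obtain ⟨q, b, hq⟩ := exists_T_pow δ'
  have hab : a * b = (Polynomial.X : K[X][X]) ^ (p + q) := Polynomial.toLaurent_injective (by
    rw [map_mul, Polynomial.toLaurent_X_pow, Nat.cast_add, T_add, hp, hq]
    calc δ * T ↑p * (δ' * T ↑q) = (δ * δ') * (T ↑p * T ↑q) := by ring
      _ = _ := by rw [hδ, one_mul])
  have ha : a ∣ (Polynomial.X : K[X][X]) ^ (p + q) := ⟨b, hab.symm⟩
  obtain ⟨i, -, ⟨u, hu⟩⟩ := (dvd_prime_pow Polynomial.prime_X (p + q)).1 ha
  obtain ⟨r, hr, hru⟩ := Polynomial.isUnit_iff.1 (u⁻¹).isUnit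
  obtain ⟨c, -, hc⟩ := Polynomial.isUnit_iff.1 hr
  refine ⟨c, (i : ℤ) - p, ?_⟩
  have hA : a = Polynomial.C (Polynomial.C c) * (Polynomial.X : K[X][X]) ^ i := by
    rw [hc, hru, ← hu, mul_comm, mul_assoc, Units.mul_inv, mul_one]
  calc δ = δ * T ↑p * T (-↑p) := by rw [mul_assoc, ← T_add, add_neg_cancel, T_zero, mul_one]
    _ = _ := by
      rw [← hp, hA, map_mul, Polynomial.toLaurent_C, Polynomial.toLaurent_X_pow, mul_assoc, ← T_add, sub_eq_add_neg]

theorem coeff_zX (f : K[X]) (k : ℕ) : ((zX f).coeff (k : ℤ)).coeff k = f.coeff k := by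
  induction f using Polynomial.induction_on' with
  | add p q hp hq => simp [hp, hq]
  | monomial m a =>
    have h : zX (Polynomial.monomial m a) = C (Polynomial.monomial m a) * T (m : ℤ) := by
      have hT : (T 1 : LA K) ^ m = T (m : ℤ) := by rw [T_pow, mul_one]
      rw [← Polynomial.C_mul_X_pow_eq_monomial]
      simp [zX, sX, mul_pow, hT]
      ring
    rw [h, coeff_C_mul, T_apply]
    by_cases hm : m = k
    · subst hm; simp
    · simp [hm, Polynomial.coeff_monomial]

theorem coeff_mul_T {A : Type u} [CommRing A] (p : LaurentPolynomial A) (s d : ℤ) :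
    (p * T s).coeff (d + s) = p.coeff d := by
  induction p using LaurentPolynomial.induction_on' with
  | add p q hp hq => simp [add_mul, hp, hq]
  | C_mul_T m a =>
    rw [mul_assoc, ← T_add, coeff_C_mul, coeff_C_mul, T_apply, T_apply]
    simp

theorem eq_C_of_semi {δ : LA K} (hδ : IsUnit δ) {f : K[X]} (hf : f.eval 0 ≠ 0) {s : ℤ}
    (h : δ * C f = zX f * T s) : f = Polynomial.C (f.coeff 0) := by
  obtain ⟨c, m, rfl⟩ := isUnit_la_eq hδ
  have key : ∀ k : ℕ, f.coeff k = if (k : ℤ) + s = m then c * f.coeff k else 0 := fun k => by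
    have e := congrArg (fun p : LA K => (p.coeff ((k : ℤ) + s)).coeff k) h
    simp only [coeff_mul_T, coeff_zX] at e
    conv_lhs => rw [← e]
    rw [mul_assoc, coeff_C_mul, mul_comm (T m) (C f), coeff_C_mul, T_apply]
    by_cases hk : (k : ℤ) + s = m
    · simp [hk]
    · simp [hk, Ne.symm hk]
  have h0 : f.coeff 0 ≠ 0 := by rwa [Polynomial.coeff_zero_eq_eval_zero]
  have hs : s = m := by
    by_contra hne
    have := key 0
    simp [hne] at this
    exact h0 this
  refine Polynomial.ext fun k => ?_
  rcases k with _ | k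
  · simp
  · rw [Polynomial.coeff_C, if_neg (Nat.succ_ne_zero k), key, if_neg]
    omega

include hu hD in
/-- The equivariant trivialisation. -/
theorem exists_graded_basis :
    ∃ (d : Fin n → ℤ) (P : Matrix (Fin n) (Fin n) K[X]), Antitone d ∧ IsUnit P.det ∧
      D * P.map C = P.map zX * Matrix.diagonal fun i => T (d i) := by
  let W : Set (Fin n → K) := {v | ∃ d w, IsWt D d w ∧ ∀ i, (w i).eval 0 = v i}
  have hspan : ⊤ ≤ Submodule.span K W := fun v _ => by
    obtain ⟨s, w, hw, hsum⟩ := exists_wt_span hu hD v
    have : v = ∑ d ∈ s, fun i => (w d i).eval 0 := funext fun i => by rw [Finset.sum_apply, hsum]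
    rw [this]
    exact Submodule.sum_mem _ fun d hd => Submodule.subset_span ⟨d, w d, hw d hd, fun _ => rfl⟩
  let b := Module.Basis.ofSpan hspan
  haveI := FiniteDimensional.fintypeBasisIndex b
  let b' := b.reindex (Fintype.equivFinOfCardEq
    ((Module.finrank_eq_card_basis b).symm.trans (Module.finrank_fin_fun K)))
  have hb : ∀ i, b' i ∈ W := fun i => by
    rw [Module.Basis.reindex_apply]
    exact Module.Basis.ofSpan_subset hspan ⟨_, rfl⟩
  choose d w hw hw0 using hb
  let σ := Tuple.sort fun i => -d i
  have hσ : Monotone ((fun i => -d i) ∘ σ) := Tuple.monotone_sort _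
  refine ⟨fun i => d (σ i), Matrix.of fun i j => w (σ j) i, fun i j hij => neg_le_neg_iff.1 (hσ hij), ?_, ?_⟩
  all_goals
    have hsemi : D * (Matrix.of fun i j => w (σ j) i).map C =
        (Matrix.of fun i j => w (σ j) i).map zX * Matrix.diagonal fun i => T (d (σ i)) := by
      refine Matrix.ext fun i j => ?_
      rw [Matrix.mul_diagonal]
      exact (congrFun (hw (σ j)) i).trans (mul_comm _ _)
  · set P : Matrix (Fin n) (Fin n) K[X] := Matrix.of fun i j => w (σ j) i with hP
    have h0 : P.det.eval 0 ≠ 0 := by
      have e : (Polynomial.evalRingHom 0).mapMatrix P = (Pi.basisFun K (Fin n)).toMatrix (b'.reindex σ.symm) := by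
        refine Matrix.ext fun i j => ?_
        simp [P, Module.Basis.toMatrix_apply, hw0]
      rw [← Polynomial.coe_evalRingHom, RingHom.map_det, e]
      haveI := (Pi.basisFun K (Fin n)).invertibleToMatrix (b'.reindex σ.symm)
      exact (Matrix.isUnit_det_of_invertible _).ne_zero
    have h := congrArg Matrix.det hsemi
    rw [Matrix.det_mul, Matrix.det_mul, Matrix.det_diagonal] at h
    have hT : ∀ (t : Finset (Fin n)), ∏ i ∈ t, (T (d (σ i)) : LA K) = T (∑ i ∈ t, d (σ i)) := fun t => by
      classical
      induction t using Finset.induction_on with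
      | empty => simp
      | insert a t ha ih => rw [Finset.prod_insert ha, Finset.sum_insert ha, ih, T_add]
    rw [hT, ← RingHom.mapMatrix_apply, ← RingHom.map_det, ← RingHom.mapMatrix_apply, ← RingHom.map_det] at h
    rw [eq_C_of_semi hu h0 h, Polynomial.isUnit_C]
    refine isUnit_iff_ne_zero.2 ?_
    rwa [Polynomial.coeff_zero_eq_eval_zero]
  · exact hsemi

end ThetaBG
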