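import Groth.Agent.LiftAffLib.Rep
import Groth.Agent.QuotTransLib.FppfDiag
import Groth.Agent.QuotTransLib.Stack
import Groth.Agent.AlgSpLib.MorPack
import Groth.Prelude.Def_AlgSt5

/-!
# Isomorphisms between two functors to a classifying stack are representable by affine morphisms
-/

set_option autoImplicit false
set_option linter.all false
set_option backward.isDefEq.respectTransparency false
set_option backward.isDefEq.respectTransparency.types false
set_option maxHeartbeats 800000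

universe v w u

open CategoryTheory CategoryTheory.Limits MonoidalCategory CartesianMonoidalCategory AlgebraicGeometry
open FibCat LiftAffLib

noncomputable section

namespace ThetaBG

variable {S : Scheme.{u}} {G : Over S} [GrpObj G] [IsAffineHom G.hom]

/-- The classifying stack. -/
abbrev W (G : Over S) [GrpObj G] : AlgSt.Cat S := AlgSt.BG Scheme.fppfPrecoverage G

variable {ℬ : BasedCategory.{v, w} (Over S)} (c c' : ℬ ⥤ᵇ W G)

/-- The vertical morphisms between two values. -/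
@[ext] structure Vert (A : ℬ.obj) where
  hom : c.obj A ⟶ c'.obj A
  base : (W G).p.map hom = eqToHom ((c.w_obj A).trans (c'.w_obj A).symm)

variable {c c'}

/-- Compatibility of vertical morphisms along a morphism. -/
def Cmp {A' A : ℬ.obj} (k : A' ⟶ A) (θ' : Vert c c' A') (θ : Vert c c' A) : Prop :=
  c.map k ≫ θ.hom = θ'.hom ≫ c'.map k

theorem Cmp.id {A : ℬ.obj} (θ : Vert c c' A) : Cmp (𝟙 A) θ θ := by
  simp [Cmp]

theorem Cmp.comp {A'' A' A : ℬ.obj} {k' : A'' ⟶ A'} {k : A' ⟶ A} {θ'' : Vert c c' A''} {θ' : Vert c c' A'}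
    {θ : Vert c c' A} (h' : Cmp k' θ'' θ') (h : Cmp k θ' θ) : Cmp (k' ≫ k) θ'' θ := by
  unfold Cmp at *
  rw [c.toFunctor.map_comp, c'.toFunctor.map_comp, Category.assoc, h, reassoc_of% h']

instance : IsFibGrpd (AlgSt.QuotObj.forget Scheme.fppfPrecoverage G (AlgSt.trivAction G)) :=
  QuotTransLib.isFibGrpd

theorem Cmp.unique {A' A : ℬ.obj} {k : A' ⟶ A} {θ₁ θ₂ : Vert c c' A'} {θ : Vert c c' A}
    (h₁ : Cmp k θ₁ θ) (h₂ : Cmp k θ₂ θ) : θ₁ = θ₂ := by
  ext1
  exact hom_ext' (W G).p (c'.map k) _ _ (θ₁.base.trans θ₂.base.symm) (h₁.symm.trans h₂)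

theorem exists_res {A' A : ℬ.obj} (k : A' ⟶ A) (θ : Vert c c' A) : ∃ θ' : Vert c c' A', Cmp k θ' θ := by
  obtain ⟨χ, hχ, hχ'⟩ := exists_fac (W G).p (c.map k ≫ θ.hom) (c'.map k)
    (eqToHom ((c.w_obj A').trans (c'.w_obj A').symm)) (by
      rw [Functor.map_comp, θ.base, map_base c, map_base c']
      simp)
  exact ⟨⟨χ, hχ⟩, hχ'.symm⟩

/-- A compatible pair restricts. -/
theorem Cmp.of_comp {A'' A' A : ℬ.obj} {k' : A'' ⟶ A'} {k : A' ⟶ A} {θ'' : Vert c c' A''} {θ' : Vert c c' A'}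
    {θ : Vert c c' A} (h : Cmp k θ' θ) (h'' : Cmp (k' ≫ k) θ'' θ) : Cmp k' θ'' θ' := by
  obtain ⟨θ₁, h₁⟩ := exists_res k' θ'
  rwa [(h₁.comp h).unique h''] at h₁

variable [Flat G.hom] [LocallyOfFinitePresentation G.hom] [IsFibGrpd ℬ.p]

theorem diag_affine : AlgSt.RepByAlgSpWith (AlgSp.RepWith @IsAffineHom)
    (FibCat.diag (FibCat.toSelf (W G))) := by
  haveI : IsIso (𝟙_ (Over S)).hom := inferInstanceAs (IsIso (𝟙 S))
  have h : AlgSt.RepByAlgSpWith AlgSp.IsAffineMor (FibCat.diag (FibCat.toSelf (W G))) :=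
    (QuotTransLib.diag_affine_iff (AlgSt.trivAction G)).2 inferInstance
  exact AlgStLib.repByAlgSpWith_mono (fun _ _ _ _ _ ha => AlgSpLib.isAffineMor_iff.1 ha) h

variable (c c') in
/-- For every object there is a universal vertical morphism, over a base affine over the object's base. -/
theorem exists_univ (A : ℬ.obj) :
    ∃ (AZ : ℬ.obj) (φZ : AZ ⟶ A) (θZ : Vert c c' AZ), IsAffineHom (ℬ.p.map φZ).left ∧
      ∀ (A' : ℬ.obj) (φ : A' ⟶ A) (θ : Vert c c' A'), ∃! χ : A' ⟶ AZ, χ ≫ φZ = φ ∧ Cmp χ θ θZ := by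
  haveI : IsFibGrpd (fp (FibCat.toSelf (W G)) (FibCat.toSelf (W G))).p := FibLib.isFibGrpd_fp
  let e : BasedFunctor.comp c (FibCat.toSelf (W G)) ≅ BasedFunctor.comp c' (FibCat.toSelf (W G)) :=
    BasedNatIso.mkNatIso
      (NatIso.ofComponents (fun a => eqToIso ((c.w_obj a).trans (c'.w_obj a).symm)) (fun {a a'} k => by
        show (W G).p.map (c.map k) ≫ eqToHom ((c.w_obj a').trans (c'.w_obj a').symm) =
          eqToHom ((c.w_obj a).trans (c'.w_obj a).symm) ≫ (W G).p.map (c'.map k)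
        rw [map_base c, map_base c']; simp))
      (fun a => IsHomLift.of_fac' _ _ _ (c.w_obj a) (c'.w_obj a) (by simp; rfl))
  let bot : ℬ ⥤ᵇ fp (FibCat.toSelf (W G)) (FibCat.toSelf (W G)) := fpLift c c' e
  let Δ := FibCat.diag (FibCat.toSelf (W G))
  obtain ⟨AZ, φZ, s, haff, huniv⟩ := exists_repr diag_affine bot A
  obtain ⟨σ, rfl⟩ := cls_surjective s
  have h1 : (W G).p.map σ.hom.hom.fst = eqToHom σ.eq := σ.base
  have h2 : (W G).p.map σ.hom.hom.snd =
      eqToHom ((c'.w_obj AZ).trans ((c.w_obj AZ).symm.trans σ.eq)) := by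
    have w := σ.hom.hom.w
    change (W G).p.map σ.hom.hom.fst ≫ 𝟙 _ =
      eqToHom ((c.w_obj AZ).trans (c'.w_obj AZ).symm) ≫ (W G).p.map σ.hom.hom.snd at w
    rw [Category.comp_id, h1] at w
    rw [(eqToHom_comp_iff _ _ _).1 w.symm]
    simp
  haveI hs : IsIso σ.hom.hom.snd := by
    haveI : IsIso ((W G).p.map σ.hom.hom.snd) := by rw [h2]; infer_instance
    exact isIso_of_map (W G).p _
  let θZ : Vert c c' AZ := ⟨σ.hom.hom.fst ≫ inv σ.hom.hom.snd, by
    rw [Functor.map_comp, Functor.map_inv, h1, IsIso.comp_inv_eq, h2]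
    exact (eqToHom_trans _ _).symm⟩
  refine ⟨AZ, φZ, θZ, haff, fun A' φ θ => ?_⟩
  haveI : IsIso θ.hom := by
    haveI : IsIso ((W G).p.map θ.hom) := by rw [θ.base]; infer_instance
    exact isIso_of_map (W G).p _
  let τ : SecObj Δ (bot.obj A') :=
    { x := c.obj A'
      hom := ObjectProperty.homMk
        { fst := 𝟙 (c.obj A')
          snd := inv θ.hom
          w := by
            show (W G).p.map (𝟙 (c.obj A')) ≫ 𝟙 _ =
              eqToHom ((c.w_obj A').trans (c'.w_obj A').symm) ≫ (W G).p.map (inv θ.hom)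
            rw [Functor.map_inv, IsIso.eq_comp_inv, θ.base]
            simp }
      eq := rfl
      base := by
        show (W G).p.map (𝟙 (c.obj A')) = _
        rw [CategoryTheory.Functor.map_id]
        rfl }
  have hiff : ∀ χ : A' ⟶ AZ, secRes Δ (bot.map χ) σ.cls = τ.cls ↔ Cmp χ θ θZ := by
    intro χ
    rw [secRes_cls_iff]
    constructor
    · rintro ⟨ψ, hψ⟩
      have e₁ : 𝟙 (c.obj A') ≫ ψ = c.map χ ≫ σ.hom.hom.fst := congrArg (fun k => k.hom.fst) hψ
      have e₂ : inv θ.hom ≫ ψ = c'.map χ ≫ σ.hom.hom.snd := congrArg (fun k => k.hom.snd) hψ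
      rw [Category.id_comp] at e₁
      rw [IsIso.inv_comp_eq] at e₂
      show c.map χ ≫ σ.hom.hom.fst ≫ inv σ.hom.hom.snd = θ.hom ≫ c'.map χ
      rw [← Category.assoc, ← e₁, e₂, Category.assoc, Category.assoc, IsIso.hom_inv_id, Category.comp_id]
    · intro h
      refine ⟨c.map χ ≫ σ.hom.hom.fst, ObjectProperty.hom_ext _ (CategoricalPullback.hom_ext ?_ ?_)⟩
      · exact Category.id_comp _
      · show inv θ.hom ≫ c.map χ ≫ σ.hom.hom.fst = c'.map χ ≫ σ.hom.hom.snd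
        have h' : c.map χ ≫ σ.hom.hom.fst ≫ inv σ.hom.hom.snd = θ.hom ≫ c'.map χ := h
        rw [IsIso.inv_comp_eq]
        calc c.map χ ≫ σ.hom.hom.fst
            = (c.map χ ≫ σ.hom.hom.fst ≫ inv σ.hom.hom.snd) ≫ σ.hom.hom.snd := by simp
          _ = θ.hom ≫ c'.map χ ≫ σ.hom.hom.snd := by rw [h', Category.assoc]
  obtain ⟨χ, ⟨hχ, hχ'⟩, hu⟩ := huniv A' φ τ.cls
  exact ⟨χ, ⟨hχ, (hiff χ).1 hχ'⟩, fun χ' h' => hu χ' ⟨h'.1, (hiff χ').2 h'.2⟩⟩

omit [Flat G.hom] [LocallyOfFinitePresentation G.hom] [IsFibGrpd ℬ.p] in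
/-- A natural family of vertical morphisms is an isomorphism of functors. -/
theorem nonempty_iso_of_natural (θ : ∀ A, Vert c c' A) (h : ∀ {A A' : ℬ.obj} (k : A' ⟶ A), Cmp k (θ A') (θ A)) :
    Nonempty (c ≅ c') := by
  haveI : ∀ A, IsIso (θ A).hom := fun A => by
    haveI : IsIso ((W G).p.map (θ A).hom) := by rw [(θ A).base]; infer_instance
    exact isIso_of_map (W G).p _
  refine ⟨BasedNatIso.mkNatIso (NatIso.ofComponents (fun A => asIso (θ A).hom) fun {A' A} k => h k) fun A => ?_⟩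
  exact isHomLift_of_base _ (c.w_obj A) _ (θ A).base

end ThetaBG
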