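import Mathlib

/-!
# Decompositions of invertible matrices over the fraction field of a discrete valuation ring
-/

set_option autoImplicit false
set_option linter.all false
universe u

noncomputable section

namespace ThetaBG

variable (R : Type u) [CommRing R] [IsDomain R] [IsDiscreteValuationRing R] {K : Type u} [Field K]
  [Algebra R K] [IsFractionRing R K]

local notation "φ" => algebraMap R K

theorem exists_mul_isUnit {π : R} (hπ : Irreducible π) {x : R} (hx : x ≠ 0) :
    ∃ (m : ℕ) (w : Rˣ), x = w * π ^ m := by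
  obtain ⟨m, hm⟩ := IsDiscreteValuationRing.associated_pow_irreducible hx hπ
  obtain ⟨w, hw⟩ := hm.symm
  exact ⟨m, w, by rw [← hw, mul_comm]⟩

/-- The double coset decomposition. -/
theorem exists_cartan {π : R} (hπ : Irreducible π) {n : ℕ} (e : Matrix (Fin n) (Fin n) K) (he : IsUnit e.det) :
    ∃ (U V : Matrix (Fin n) (Fin n) R) (m : Fin n → ℤ), IsUnit U.det ∧ IsUnit V.det ∧
      e = U.map φ * Matrix.diagonal (fun i => (φ π) ^ m i) * V.map φ := by
  classical
  obtain ⟨s, hs⟩ := IsLocalization.exist_integer_multiples (nonZeroDivisors R) (Finset.univ (α := Fin n × Fin n))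
    fun p => e p.1 p.2
  choose M hM using fun p : Fin n × Fin n => hs p (Finset.mem_univ p)
  let M' : Matrix (Fin n) (Fin n) R := Matrix.of fun i j => M (i, j)
  have hM' : M'.map φ = φ (s : R) • e := Matrix.ext fun i j => by
    rw [Matrix.smul_apply, smul_eq_mul, ← Algebra.smul_def]
    exact hM (i, j)
  have hs0 : (s : R) ≠ 0 := nonZeroDivisors.ne_zero s.2
  have hπ0 : φ π ≠ 0 := IsFractionRing.to_map_ne_zero_of_mem_nonZeroDivisors (mem_nonZeroDivisors_of_ne_zero hπ.ne_zero)
  have hsφ : φ (s : R) ≠ 0 := IsFractionRing.to_map_ne_zero_of_mem_nonZeroDivisors s.2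
  have hdet : M'.det ≠ 0 := fun h => by
    have h' := congrArg φ h
    rw [RingHom.map_det, RingHom.mapMatrix_apply, hM', Matrix.det_smul, map_zero] at h'
    exact mul_ne_zero (pow_ne_zero _ hsφ) he.ne_zero h'
  let f : (Fin n → R) →ₗ[R] (Fin n → R) := M'.mulVecLin
  have hinj : Function.Injective f := Matrix.mulVec_injective_of_det_ne_zero hdet
  have hrank : Module.finrank R (LinearMap.range f) = Module.finrank R (Fin n → R) :=
    (LinearEquiv.ofInjective f hinj).finrank_eq.symm
  obtain ⟨b', a, ab, hab⟩ :=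
    Submodule.exists_smith_normal_form_of_rank_eq (Pi.basisFun R (Fin n)) hrank
  have hcol : ∀ j, ∃ c : Fin n → R, f c = (ab j : Fin n → R) := fun j => (ab j).2
  choose c hc using hcol
  have hc' : ∀ j, (ab.map (LinearEquiv.ofInjective f hinj).symm) j = c j := fun j => by
    rw [Module.Basis.map_apply, LinearEquiv.symm_apply_eq]
    exact Subtype.ext (hc j).symm
  let P := (Pi.basisFun R (Fin n)).toMatrix b'
  let Q := (Pi.basisFun R (Fin n)).toMatrix (ab.map (LinearEquiv.ofInjective f hinj).symm)
  have hP : IsUnit P.det := by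
    haveI := (Pi.basisFun R (Fin n)).invertibleToMatrix b'
    exact Matrix.isUnit_det_of_invertible _
  have hQ : IsUnit Q.det := by
    haveI := (Pi.basisFun R (Fin n)).invertibleToMatrix (ab.map (LinearEquiv.ofInjective f hinj).symm)
    exact Matrix.isUnit_det_of_invertible _
  have hPQ : M' * Q = P * Matrix.diagonal a := Matrix.ext fun i j => by
    rw [Matrix.mul_diagonal]
    have h := congrFun ((hc j).trans (hab j)) i
    simp only [f, Matrix.mulVecLin_apply, Pi.smul_apply, smul_eq_mul] at h
    simp only [P, Q, Matrix.mul_apply, Module.Basis.toMatrix_apply, Pi.basisFun_repr, hc', mul_comm (b' j i)]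
    exact h
  have ha : ∀ i, a i ≠ 0 := fun i hi => ab.ne_zero i (Subtype.ext (by rw [hab, hi, zero_smul]; rfl))
  choose k w hw using fun i => exists_mul_isUnit R hπ (ha i)
  obtain ⟨k₀, w₀, hw₀⟩ := exists_mul_isUnit R hπ hs0
  refine ⟨P * Matrix.diagonal fun i => ((w i * w₀⁻¹ : Rˣ) : R), Q⁻¹, fun i => (k i : ℤ) - k₀, ?_,
    Matrix.isUnit_nonsing_inv_det Q hQ, ?_⟩
  · rw [Matrix.det_mul, Matrix.det_diagonal]
    exact hP.mul (Finset.prod_induction _ IsUnit (fun _ _ => IsUnit.mul) isUnit_one fun i _ => Units.isUnit _)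
  · have hd : Matrix.diagonal (fun i => φ ((w i * w₀⁻¹ : Rˣ) : R) * φ π ^ ((k i : ℤ) - k₀)) =
        (φ (s : R))⁻¹ • Matrix.diagonal (fun i => φ (a i)) := by
      rw [← Matrix.diagonal_smul]
      congr 1
      funext i
      have hw0u : φ (w₀ : R) * φ ((w₀⁻¹ : Rˣ) : R) = 1 := by rw [← map_mul, Units.mul_inv, map_one]
      have hw0ne : φ (w₀ : R) ≠ 0 := left_ne_zero_of_mul_eq_one hw0u
      rw [Pi.smul_apply, smul_eq_mul, hw i, hw₀, map_mul, map_mul, map_pow, map_pow, zpow_sub₀ hπ0, Units.val_mul, map_mul,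
        zpow_natCast, zpow_natCast, eq_inv_of_mul_eq_one_right hw0u]
      field_simp
    have h2 : M'.map φ = P.map φ * Matrix.diagonal (fun i => φ (a i)) * (Q⁻¹).map φ := by
      have h3 : M' = P * Matrix.diagonal a * Q⁻¹ := by
        rw [← hPQ, Matrix.mul_assoc, Matrix.mul_nonsing_inv _ hQ, Matrix.mul_one]
      rw [h3, Matrix.map_mul, Matrix.map_mul, Matrix.diagonal_map (map_zero _)]
    calc e = (φ (s : R))⁻¹ • M'.map φ := by rw [hM', smul_smul, inv_mul_cancel₀ hsφ, one_smul]
      _ = _ := by
        rw [h2, Matrix.map_mul, Matrix.diagonal_map (map_zero _), Matrix.mul_assoc _ (Matrix.diagonal _) (Matrix.diagonal _),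
          Matrix.diagonal_mul_diagonal, hd, Matrix.mul_smul, Matrix.smul_mul]

theorem exists_primitive {π : R} (hπ : Irreducible π) {n : ℕ} (v : Fin n → K) (hv : v ≠ 0) :
    ∃ (a : K) (w : Fin n → R) (i : Fin n), IsUnit (w i) ∧ v = fun j => a * φ (w j) := by
  classical
  obtain ⟨s, hs⟩ := IsLocalization.exist_integer_multiples (nonZeroDivisors R) Finset.univ v
  choose x hx using fun j => hs j (Finset.mem_univ j)
  have hsφ : φ (s : R) ≠ 0 := IsFractionRing.to_map_ne_zero_of_mem_nonZeroDivisors s.2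
  have hx' : ∀ j, φ (x j) = φ (s : R) * v j := fun j => by
    rw [← Algebra.smul_def]; exact hx j
  have hne : ∃ j, x j ≠ 0 := by
    by_contra hc
    push Not at hc
    refine hv (funext fun j => ?_)
    have := hx' j
    rw [hc j, map_zero, eq_comm, mul_eq_zero] at this
    exact this.resolve_left hsφ
  obtain ⟨j₁, hj₁⟩ := hne
  have hS : (Finset.univ.filter fun j => x j ≠ 0).Nonempty := ⟨j₁, by simp [hj₁]⟩
  choose k w hw using fun j (hj : x j ≠ 0) => exists_mul_isUnit R hπ hj
  let val : Fin n → ℕ := fun j => if hj : x j ≠ 0 then k j hj else 0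
  obtain ⟨i, hi, hmin⟩ := Finset.exists_min_image (Finset.univ.filter fun j => x j ≠ 0) val hS
  have hi' : x i ≠ 0 := by simpa using hi
  have hdvd : ∀ j, π ^ val i ∣ x j := fun j => by
    by_cases hj : x j = 0
    · rw [hj]; exact dvd_zero _
    · have hle := hmin j (by simp [hj])
      refine (pow_dvd_pow π hle).trans ?_
      have hvj : val j = k j hj := dif_pos hj
      rw [hvj]
      exact ⟨(w j hj : R), (hw j hj).trans (mul_comm _ _)⟩
  choose y hy using hdvd
  refine ⟨φ (π ^ val i) / φ (s : R), y, i, ?_, funext fun j => ?_⟩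
  · have hvi : val i = k i hi' := dif_pos hi'
    have h := (hy i).symm.trans (hw i hi')
    rw [hvi, mul_comm (w i hi' : R)] at h
    exact (mul_left_cancel₀ (pow_ne_zero _ hπ.ne_zero) h) ▸ Units.isUnit _
  · rw [div_mul_eq_mul_div, ← map_mul, ← hy, hx', mul_div_cancel_left₀ _ hsφ]

/-- A primitive vector is the first column of an invertible matrix. -/
theorem exists_first_column {n : ℕ} (w : Fin (n + 1) → R) (i : Fin (n + 1)) (hw : IsUnit (w i)) :
    ∃ U : Matrix (Fin (n + 1)) (Fin (n + 1)) R, IsUnit U.det ∧ ∀ j, U j 0 = w j := by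
  classical
  let U₁ : Matrix (Fin (n + 1)) (Fin (n + 1)) R := (1 : Matrix _ _ R).updateCol i w
  refine ⟨U₁.submatrix id (Equiv.swap 0 i), ?_, fun j => ?_⟩
  · rw [Matrix.det_permute']
    refine IsUnit.mul ?_ ?_
    · exact (Units.isUnit _).map (Int.castRingHom R)
    · have : U₁.det = w i := by
        rw [← Matrix.cramer_apply, Matrix.cramer_one]
        rfl
      rw [this]
      exact hw
  · simp [U₁, Matrix.submatrix_apply, Matrix.updateCol_self]

/-- Every invertible matrix over the field is integral times upper triangular. -/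
theorem exists_iwasawa {π : R} (hπ : Irreducible π) : ∀ {n : ℕ} (M : Matrix (Fin n) (Fin n) K), IsUnit M.det →
    ∃ U : Matrix (Fin n) (Fin n) R, IsUnit U.det ∧ (U.map φ * M).BlockTriangular id := by
  intro n
  induction n with
  | zero => exact fun M _ => ⟨1, by simp, fun i => i.elim0⟩
  | succ n ih =>
    intro M hM
    have hv : (fun j => M j 0) ≠ 0 := fun h => hM.ne_zero (Matrix.det_eq_zero_of_column_eq_zero 0 fun j => congrFun h j)
    obtain ⟨a, w, i, hwi, hw⟩ := exists_primitive R hπ _ hv
    obtain ⟨U₀, hU₀, hU₀c⟩ := exists_first_column R w i hwi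
    let N := (U₀⁻¹).map φ * M
    have hN0 : ∀ j : Fin (n + 1), N j 0 = if j = 0 then a else 0 := fun j => by
      have h1 : ∀ l, M l 0 = a * φ (U₀ l 0) := fun l => by rw [hU₀c]; exact congrFun hw l
      have h2 : N j 0 = a * φ ((U₀⁻¹ * U₀) j 0) := by
        simp only [N, Matrix.mul_apply, Matrix.map_apply, h1, map_sum, map_mul, Finset.mul_sum]
        exact Finset.sum_congr rfl fun l _ => by ring
      rw [h2, Matrix.nonsing_inv_mul _ hU₀, Matrix.one_apply]
      split_ifs <;> simp
    have hNu : IsUnit N.det := by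
      rw [Matrix.det_mul]
      refine IsUnit.mul ?_ hM
      have := (Matrix.isUnit_nonsing_inv_det U₀ hU₀).map (algebraMap R K)
      rw [RingHom.map_det] at this
      exact this
    have hdetN : N.det = a * (N.submatrix Fin.succ Fin.succ).det := by
      rw [Matrix.det_succ_column_zero, Finset.sum_eq_single 0 (fun j _ hj => by simp [hN0, hj]) (by simp)]
      simp [hN0]
    obtain ⟨U', hU', hT⟩ := ih (N.submatrix Fin.succ Fin.succ) (isUnit_of_mul_isUnit_right (hdetN ▸ hNu))
    let E : Matrix (Fin (n + 1)) (Fin (n + 1)) R := Matrix.of fun p q =>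
      Fin.cases (motive := fun _ => R) (Fin.cases (motive := fun _ => R) 1 (fun _ => 0) q)
        (fun p' => Fin.cases (motive := fun _ => R) 0 (fun q' => U' p' q') q) p
    have hE : IsUnit E.det := by
      rw [Matrix.det_succ_column_zero, Finset.sum_eq_single 0 (fun j _ hj => by
        obtain ⟨j', rfl⟩ := Fin.exists_succ_eq.2 hj
        simp [E]) (by simp)]
      simp only [E, Matrix.submatrix, Matrix.of_apply, Fin.cases_zero, Fin.cases_succ, Fin.succAbove_zero]
      simp
      exact hU'
    refine ⟨E * U₀⁻¹, by rw [Matrix.det_mul]; exact hE.mul (Matrix.isUnit_nonsing_inv_det U₀ hU₀), ?_⟩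
    rw [Matrix.map_mul, Matrix.mul_assoc]
    intro p q hpq
    show (E.map φ * N) p q = 0
    obtain ⟨p', rfl⟩ := Fin.exists_succ_eq.2 (Fin.ne_zero_of_lt hpq)
    rw [Matrix.mul_apply, Fin.sum_univ_succ]
    cases q using Fin.cases with
    | zero => simp [E, hN0]
    | succ q' =>
      have := hT (i := p') (j := q') (Fin.succ_lt_succ_iff.1 hpq)
      simpa [E, Matrix.mul_apply] using this

end ThetaBG
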