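import Mathlib
import Groth.Agent.TorsVecLib.Points

/-!
# Matrix cocycles of a faithfully flat algebra over a principal ideal domain are coboundaries
-/

set_option autoImplicit false
set_option backward.isDefEq.respectTransparency false
set_option linter.all false
universe u

open TensorProduct
open Groth.Agent.TorsVec

noncomputable section

namespace ThetaBG

variable {A B : Type u} [CommRing A] [CommRing B] [Algebra A B] {n : ℕ}
  (c : Matrix (Fin n) (Fin n) (B ⊗[A] B))

/-- The twisted difference of a vector. -/
def twV : (Fin n → B) →ₗ[A] (Fin n → B ⊗[A] B) :=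
  (insR (A := A) (B := B)).toLinearMap.compLeft (Fin n) -
    ((Matrix.mulVecLin c).restrictScalars A) ∘ₗ (insL (A := A) (B := B)).toLinearMap.compLeft (Fin n)

theorem twV_apply (v : Fin n → B) :
    twV c v = (fun i => insR (A := A) (B := B) (v i)) - c.mulVec (fun i => insL (A := A) (B := B) (v i)) := rfl

/-- The invariant vectors. -/
abbrev invV : Submodule A (Fin n → B) := LinearMap.ker (twV c)

/-- Spreading a tensor with a vector into a vector of tensors. -/
abbrev spread (N : Type u) [AddCommGroup N] [Module A N] : B ⊗[A] (Fin n → N) ≃ₗ[A] (Fin n → B ⊗[A] N) :=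
  TensorProduct.piRight A A B fun _ : Fin n => N

theorem spread_lTensor (w : B ⊗[A] (Fin n → B)) :
    spread (A := A) (B := B) (B ⊗[A] B) ((twV c).lTensor B w) =
      (fun i => ins13 (A := A) (B := B) (spread (A := A) B w i)) -
        (c.map (ins23 (A := A) (B := B))).mulVec (fun i => ins12 (A := A) (B := B) (spread (A := A) B w i)) := by
  induction w using TensorProduct.induction_on with
  | zero =>
    funext i
    simp [Matrix.mulVec, dotProduct]
  | add x y hx hy =>
    rw [map_add, map_add, hx, hy]
    funext i
    simp [Matrix.mulVec, dotProduct, mul_add, Finset.sum_add_distrib]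
    ring
  | tmul x v =>
    funext i
    simp only [LinearMap.lTensor_tmul, TensorProduct.piRight_apply, TensorProduct.piRightHom_tmul, twV_apply,
      Pi.sub_apply, TensorProduct.tmul_sub, Matrix.mulVec, dotProduct, Matrix.map_apply, TensorProduct.tmul_sum]
    simp only [map_sub, TensorProduct.piRightHom_tmul, Pi.sub_apply, TensorProduct.tmul_sum, Matrix.mulVec, dotProduct]
    congr 1
    refine Finset.sum_congr rfl fun j _ => ?_
    generalize c i j = z
    induction z using TensorProduct.induction_on with
    | zero => simp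
    | add z z' hz hz' => simp [add_mul, TensorProduct.tmul_add, hz, hz']
    | tmul p q => simp [Algebra.TensorProduct.tmul_mul_tmul]

/-- The first two slots multiplied. -/
abbrev ml : B ⊗[A] (B ⊗[A] B) →ₐ[A] B ⊗[A] B :=
  Algebra.TensorProduct.lift
    ((Algebra.TensorProduct.includeLeft : B →ₐ[A] B ⊗[A] B)) (AlgHom.id A (B ⊗[A] B)) fun _ _ => Commute.all _ _

theorem ml_ins (z : B ⊗[A] B) :
    ml (ins13 (A := A) (B := B) z) = z ∧ ml (ins23 (A := A) (B := B) z) = z ∧
      ml (ins12 (A := A) (B := B) z) = insL (A := A) (B := B) (Algebra.TensorProduct.lmul' A z) := by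
  induction z using TensorProduct.induction_on with
  | zero => simp
  | add x y hx hy => simp only [map_add, hx.1, hx.2.1, hx.2.2, hy.1, hy.2.1, hy.2.2]; simp
  | tmul x y => simp [ml]

theorem lmul_insL (z : B) : Algebra.TensorProduct.lmul' A (insL (A := A) (B := B) z) = z := by simp

/-- Multiplication by scalars. -/
def multV : B ⊗[A] invV c →ₗ[B] (Fin n → B) :=
  LinearMap.liftBaseChange B (invV c).subtype

theorem spread_multV (z : B ⊗[A] invV c) (i : Fin n) :
    multV c z i = Algebra.TensorProduct.lmul' A (spread (A := A) B ((invV c).subtype.lTensor B z) i) := by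
  induction z using TensorProduct.induction_on with
  | zero => simp
  | add x y hx hy =>
    simp only [map_add, Pi.add_apply] at *
    rw [hx, hy]
  | tmul x y => simp [multV]

variable [Module.FaithfullyFlat A B] (hu : IsUnit c.det)
  (hc : c.map (ins23 (A := A) (B := B)) * c.map (ins12 (A := A) (B := B)) = c.map (ins13 (A := A) (B := B)))

include hu hc in
theorem lmul_cocycle : c.map (Algebra.TensorProduct.lmul' A) = 1 := by
  let m : B ⊗[A] (B ⊗[A] B) →ₐ[A] B := (Algebra.TensorProduct.lmul' A).comp ml
  have hm : ∀ z : B ⊗[A] B, m (ins13 (A := A) (B := B) z) = Algebra.TensorProduct.lmul' A z ∧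
      m (ins23 (A := A) (B := B) z) = Algebra.TensorProduct.lmul' A z ∧
      m (ins12 (A := A) (B := B) z) = Algebra.TensorProduct.lmul' A z := fun z => by
    simp only [m, AlgHom.comp_apply, (ml_ins z).1, (ml_ins z).2.1, (ml_ins z).2.2, lmul_insL, and_self]
  have h := congrArg (fun M : Matrix (Fin n) (Fin n) (B ⊗[A] (B ⊗[A] B)) => M.map m) hc
  rw [Matrix.map_mul, Matrix.map_map, Matrix.map_map, Matrix.map_map] at h
  have e1 : (⇑m ∘ ⇑(ins13 (A := A) (B := B))) = Algebra.TensorProduct.lmul' A := funext fun z => (hm z).1
  have e2 : (⇑m ∘ ⇑(ins23 (A := A) (B := B))) = Algebra.TensorProduct.lmul' A := funext fun z => (hm z).2.1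
  have e3 : (⇑m ∘ ⇑(ins12 (A := A) (B := B))) = Algebra.TensorProduct.lmul' A := funext fun z => (hm z).2.2
  rw [e1, e2, e3] at h
  have hu' : IsUnit (c.map (Algebra.TensorProduct.lmul' A)) := by
    refine (Matrix.isUnit_iff_isUnit_det _).2 ?_
    have := hu.map (Algebra.TensorProduct.lmul' A : B ⊗[A] B →ₐ[A] B)
    rw [AlgHom.map_det] at this
    exact this
  exact hu'.mul_left_cancel (h.trans (mul_one _).symm)

theorem spread_eq (z : B ⊗[A] invV c) :
    spread (A := A) B ((invV c).subtype.lTensor B z) =
      c.mulVec (fun i => insL (A := A) (B := B) (multV c z i)) := by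
  have h0 : (twV c).lTensor B ((invV c).subtype.lTensor B z) = 0 := by
    rw [← LinearMap.comp_apply, ← LinearMap.lTensor_comp, LinearMap.comp_ker_subtype, LinearMap.lTensor_zero,
      LinearMap.zero_apply]
  have h1 := spread_lTensor c ((invV c).subtype.lTensor B z)
  rw [h0, map_zero, eq_comm, sub_eq_zero] at h1
  funext i
  have h2 := congrArg (ml (A := A) (B := B)) (congrFun h1 i)
  simp only [Matrix.mulVec, dotProduct, map_sum, map_mul, Matrix.map_apply, (ml_ins _).1, (ml_ins _).2.1,
    (ml_ins _).2.2] at h2
  rw [h2]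
  simp only [Matrix.mulVec, dotProduct, spread_multV]

include hu hc in
theorem bijective_multV : Function.Bijective (multV c) := by
  refine ⟨fun z z' e => ?_, fun v => ?_⟩
  · refine Module.Flat.lTensor_preserves_injective_linearMap (invV c).subtype (Submodule.injective_subtype _)
      ((spread (A := A) B).injective ?_)
    rw [spread_eq c z, spread_eq c z', e]
  · let w : Fin n → B ⊗[A] B := c.mulVec fun i => insL (A := A) (B := B) (v i)
    have hw : (twV c).lTensor B ((spread (A := A) B).symm w) = 0 := by
      refine (spread (A := A) (B ⊗[A] B)).injective ?_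
      rw [spread_lTensor, LinearEquiv.apply_symm_apply, map_zero, sub_eq_zero]
      have e : ∀ f : B ⊗[A] B →ₐ[A] B ⊗[A] (B ⊗[A] B),
          (fun i => f (w i)) = (c.map f).mulVec (fun i => f (insL (A := A) (B := B) (v i))) := fun f => by
        funext i
        exact RingHom.map_mulVec f.toRingHom _ _ i
      rw [e, e, Matrix.mulVec_mulVec, hc]
      rfl
    obtain ⟨z, hz⟩ := (Module.Flat.lTensor_exact B (LinearMap.exact_subtype_ker_map _) _).1 hw
    refine ⟨z, funext fun i => ?_⟩
    rw [spread_multV, hz, LinearEquiv.apply_symm_apply]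
    have h3 := RingHom.map_mulVec (Algebra.TensorProduct.lmul' A : B ⊗[A] B →ₐ[A] B).toRingHom c
      (fun j => insL (A := A) (B := B) (v j)) i
    refine h3.trans ?_
    show (c.map (Algebra.TensorProduct.lmul' A)).mulVec (fun j => Algebra.TensorProduct.lmul' A (insL (A := A) (B := B) (v j))) i = v i
    rw [lmul_cocycle c hu hc, Matrix.one_mulVec, lmul_insL]

include hu hc in
/-- A cocycle of matrices is a coboundary. -/
theorem exists_coboundary [IsDomain A] [IsPrincipalIdealRing A] :
    ∃ P : Matrix (Fin n) (Fin n) B, IsUnit P.det ∧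
      c * P.map (insL (A := A) (B := B)) = P.map (insR (A := A) (B := B)) := by
  haveI : Nontrivial B := by
    by_contra hB
    rw [not_nontrivial_iff_subsingleton] at hB
    exact not_subsingleton (B ⊗[A] A) (TensorProduct.rid A B).injective.subsingleton
  let Φ : B ⊗[A] invV c ≃ₗ[B] (Fin n → B) := LinearEquiv.ofBijective _ (bijective_multV c hu hc)
  haveI : Module.Finite B (B ⊗[A] invV c) := Module.Finite.equiv Φ.symm
  haveI : Module.Finite A (invV c) := Module.Finite.of_finite_tensorProduct_of_faithfullyFlat B
  haveI : Module.IsTorsionFree A B := inferInstance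
  let bM := Module.Free.chooseBasis A (invV c)
  let bB := (bM.baseChange B).map Φ
  let e : Module.Free.ChooseBasisIndex A (invV c) ≃ Fin n :=
    Fintype.equivFinOfCardEq ((Module.finrank_eq_card_basis bB).symm.trans (Module.finrank_fin_fun B))
  let bB' := bB.reindex e
  have hval : ∀ j i, bB' j i = (bM (e.symm j) : Fin n → B) i := fun j i => by
    simp [bB', bB, Φ, multV, Module.Basis.baseChange_apply]
  refine ⟨(Pi.basisFun B (Fin n)).toMatrix bB', ?_, ?_⟩
  · haveI := (Pi.basisFun B (Fin n)).invertibleToMatrix bB'
    exact Matrix.isUnit_det_of_invertible _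
  · refine Matrix.ext fun i j => ?_
    have h := congrFun (LinearMap.mem_ker.1 (bM (e.symm j)).2) i
    rw [twV_apply, Pi.sub_apply, Pi.zero_apply, sub_eq_zero] at h
    simp only [Matrix.mul_apply, Matrix.map_apply, Module.Basis.toMatrix_apply, Pi.basisFun_repr, hval]
    exact h.symm

end ThetaBG
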