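import Groth.Agent.ThetaBGLib.Glue

/-!
# Agreement from three test objects
-/

set_option autoImplicit false
set_option linter.all false
set_option backward.isDefEq.respectTransparency false
set_option backward.isDefEq.respectTransparency.types false
set_option maxHeartbeats 800000

universe u

open CategoryTheory CategoryTheory.Limits MonoidalCategory CartesianMonoidalCategory MonObj AlgebraicGeometry
open Opposite FibCat LiftAffLib AlgSp AlgSpLib AlgStLib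

noncomputable section

namespace ThetaBG

local notation "𝕜" => Scheme.fppfPrecoverage

variable {S' S : Scheme.{u}} {h : S' ⟶ S} {H X : Over S'} [GrpObj H] [IsAffineHom H.hom] [Flat H.hom]
  [LocallyOfFinitePresentation H.hom] [IsAffine X.left] {aX : AlgGrp.Action H X}
  {a b : Γ(X.left, ⊤)} {G : Over S} [GrpObj G] [IsAffineHom G.hom] [Flat G.hom] [LocallyOfFinitePresentation G.hom]
  {c c' : Pn h aX a b ⥤ᵇ W G}

/-- All restrictions of a vertical morphism to trivial objects along two maps coincide. -/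
def Coincide {A A' : (Pn h aX a b).obj} (θ : Vert c c' A) (θ' : Vert c c' A') : Prop :=
  ∀ (T : Over S') (x : T ⟶ X) (hx : Punct a b (tr aX x)) (n : ptr (h := h) x hx ⟶ A) (n' : ptr x hx ⟶ A')
    (σ σ' : Vert c c' (ptr (h := h) x hx)), Cmp n σ θ → Cmp n' σ' θ' → σ = σ'

theorem Coincide.apply {A A' : (Pn h aX a b).obj} {θ : Vert c c' A} {θ' : Vert c c' A'} (hc : Coincide θ θ')
    {B : (Pn h aX a b).obj} {n : B ⟶ A} {n' : B ⟶ A'} {σ σ' : Vert c c' B} (h₁ : Cmp n σ θ) (h₂ : Cmp n' σ' θ') :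
    σ = σ' := by
  haveI := isFibGrpd_Pn (h := h) (aX := aX) (a := a) (b := b)
  refine eq_of_jepi (jepi_taut B) fun _ τ τ' hτ hτ' => ?_
  exact hc _ _ _ _ _ τ τ' (hτ.comp h₁) (hτ'.comp h₂)

theorem Coincide.pull {A A' A₁ A₁' : (Pn h aX a b).obj} {θ : Vert c c' A} {θ' : Vert c c' A'} (hc : Coincide θ θ')
    {e : A₁ ⟶ A} {e' : A₁' ⟶ A'} {θ₁ : Vert c c' A₁} {θ₁' : Vert c c' A₁'} (he : Cmp e θ₁ θ) (he' : Cmp e' θ₁' θ')
    {B : (Pn h aX a b).obj} {n : B ⟶ A₁} {n' : B ⟶ A₁'} {σ σ' : Vert c c' B} (h₁ : Cmp n σ θ₁) (h₂ : Cmp n' σ' θ₁') :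
    σ = σ' :=
  hc.apply (h₁.comp he) (h₂.comp he')

theorem coincide_of_unique {T₁ : Over S'} {x₁ : T₁ ⟶ X} {h₁ : Punct a b (tr aX x₁)}
    (hu : ∀ (T : Over S') (x : T ⟶ X) (hx : Punct a b (tr aX x)) (n n' : ptr (h := h) x hx ⟶ ptr x₁ h₁), n = n')
    (θ : Vert c c' (ptr (h := h) x₁ h₁)) : Coincide θ θ := fun T x hx n n' σ σ' k k' => by
  haveI := isFibGrpd_Pn (h := h) (aX := aX) (a := a) (b := b)
  rw [hu T x hx n n'] at k
  exact k.unique k'

theorem coincide_of_overlap {Ta Tb : Over S'} {xa : Ta ⟶ X} {ha : Punct a b (tr aX xa)} {xb : Tb ⟶ X}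
    {hb : Punct a b (tr aX xb)} {Aab : (Pn h aX a b).obj} (na : Aab ⟶ ptr (h := h) xa ha) (nb : Aab ⟶ ptr xb hb)
    {θA : Vert c c' (ptr (h := h) xa ha)} {θB : Vert c c' (ptr (h := h) xb hb)}
    (hf : ∀ (T : Over S') (x : T ⟶ X) (hx : Punct a b (tr aX x)),
      (ptr (h := h) x hx ⟶ ptr xa ha) → (ptr (h := h) x hx ⟶ ptr xb hb) → Nonempty (ptr (h := h) x hx ⟶ Aab))
    (hA : Coincide θA θA) (hB : Coincide θB θB)
    (hK : ∀ σ σ', Cmp na σ θA → Cmp nb σ' θB → σ = σ') : Coincide θA θB := fun T x hx n n' σ σ' k k' => by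
  haveI := isFibGrpd_Pn (h := h) (aX := aX) (a := a) (b := b)
  obtain ⟨m⟩ := hf T x hx n n'
  obtain ⟨ρ, hρ⟩ := exists_res na θA
  obtain ⟨ρ', hρ'⟩ := exists_res nb θB
  have e := hK ρ ρ' hρ hρ'
  subst e
  obtain ⟨τ, hτ⟩ := exists_res m ρ
  rw [hA T x hx n (m ≫ na) σ τ k (hτ.comp hρ), hB T x hx n' (m ≫ nb) σ' τ k' (hτ.comp hρ')]

theorem nonempty_iso_of_points (hsr : SemiReg aX a b) {Aa Ab : (Pn h aX a b).obj}
    (ea : ua (h := h) hsr ⟶ Aa) (eb : ub (h := h) hsr ⟶ Ab) {θA : Vert c c' Aa} {θB : Vert c c' Ab}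
    (hA : Coincide θA θA) (hB : Coincide θB θB) (hAB : Coincide θA θB) : Nonempty (c ≅ c') := by
  obtain ⟨θa, ha⟩ := exists_res ea θA
  obtain ⟨θb, hb⟩ := exists_res eb θB
  exact nonempty_iso_of_agree (hsr := hsr) (θa := θa) (θb := θb)
    { aa := fun k k' => hA.pull ha ha k k'
      bb := fun k k' => hB.pull hb hb k k'
      ab := fun k k' => hAB.pull ha hb k k' }

end ThetaBG

namespace ThetaBG

variable {S' S : Scheme.{u}} {h : S' ⟶ S} {H X : Over S'} [GrpObj H] [IsAffineHom H.hom] [Flat H.hom]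
  [LocallyOfFinitePresentation H.hom] [IsAffine X.left] {aX : AlgGrp.Action H X}
  {a b : Γ(X.left, ⊤)} {G : Over S} [GrpObj G] [IsAffineHom G.hom] [Flat G.hom] [LocallyOfFinitePresentation G.hom]
  {c c' : Pn h aX a b ⥤ᵇ W G}

theorem coincide_of_pair {A V : (Pn h aX a b).obj} {θ : Vert c c' A} (m₀ m₁ : V ⟶ A)
    (hf : ∀ (T : Over S') (x : T ⟶ X) (hx : Punct a b (tr aX x)) (k k' : ptr (h := h) x hx ⟶ A),
      ∃ m : ptr (h := h) x hx ⟶ V, m ≫ m₀ = k ∧ m ≫ m₁ = k')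
    (hV : ∀ σ σ', Cmp m₀ σ θ → Cmp m₁ σ' θ → σ = σ') : Coincide θ θ := fun T x hx n n' σ σ' k k' => by
  haveI := isFibGrpd_Pn (h := h) (aX := aX) (a := a) (b := b)
  obtain ⟨m, rfl, rfl⟩ := hf T x hx n n'
  obtain ⟨ρ, hρ⟩ := exists_res m₀ θ
  obtain ⟨ρ', hρ'⟩ := exists_res m₁ θ
  have e := hV ρ ρ' hρ hρ'
  subst e
  obtain ⟨τ, hτ⟩ := exists_res m ρ
  rw [k.unique (hτ.comp hρ), k'.unique (hτ.comp hρ')]

end ThetaBG
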