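import Groth.Agent.ThetaBGLib.Glue

/-!
# Unique lifting into a classifying stack reduces to the existence of an extension
-/

set_option autoImplicit false
set_option linter.all false
set_option backward.isDefEq.respectTransparency false
set_option backward.isDefEq.respectTransparency.types false
set_option maxHeartbeats 800000

universe v w u

open CategoryTheory CategoryTheory.Limits MonoidalCategory CartesianMonoidalCategory MonObj AlgebraicGeometry
open Opposite FibCat LiftAffLib AlgSp AlgSpLib AlgStLib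

noncomputable section

namespace ThetaBG

local notation "𝕜" => Scheme.fppfPrecoverage

section Based

variable {C : Type*} [Category C] {𝒜 : BasedCategory.{v, w} C}

theorem selfOver_app_eq {F F' : 𝒜 ⥤ᵇ selfOver C} (α : F ⟶ F') (a : 𝒜.obj) :
    α.toNatTrans.app a = eqToHom ((F.w_obj a).trans (F'.w_obj a).symm) := by
  haveI := α.isHomLift' a
  have := IsHomLift.fac' (selfOver C).p (𝟙 (𝒜.p.obj a)) (α.toNatTrans.app a)
  change α.toNatTrans.app a = _ at this
  rw [this]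
  simp

theorem selfOver_hom_ext {F F' : 𝒜 ⥤ᵇ selfOver C} (α β : F ⟶ F') : α = β := by
  apply BasedNatTrans.homCategory.ext
  ext a
  rw [selfOver_app_eq α, selfOver_app_eq β]

theorem nonempty_selfOver_iso (F F' : 𝒜 ⥤ᵇ selfOver C) : Nonempty (F ≅ F') := by
  refine ⟨BasedNatIso.mkNatIso (NatIso.ofComponents (fun a => eqToIso ((F.w_obj a).trans (F'.w_obj a).symm))
    fun {a a'} k => ?_) fun a => IsHomLift.of_fac' _ _ _ (F.w_obj a) (F'.w_obj a) (by
      show eqToHom ((F.w_obj a).trans (F'.w_obj a).symm) = _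
      rw [Category.id_comp, eqToHom_trans])⟩
  have h1 := map_base F k
  have h2 := map_base F' k
  change F.map k = _ at h1
  change F'.map k = _ at h2
  simp only [eqToIso.hom]
  erw [h1, h2]
  simp

end Based

variable {S' S : Scheme.{u}} {h : S' ⟶ S} {H X : Over S'} [GrpObj H] {aX : AlgGrp.Action H X}
  [IsAffineHom H.hom] [Flat H.hom] [LocallyOfFinitePresentation H.hom] [IsAffine X.left]
  {a b : Γ(X.left, ⊤)} {G : Over S} [GrpObj G] [IsAffineHom G.hom] [Flat G.hom]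
  [LocallyOfFinitePresentation G.hom]

theorem existsUnique_extend_vert (hsr : SemiReg aX a b) (c c' : ThetaS.overS h (AlgSt.QuotSt 𝕜 H aX) ⥤ᵇ W G)
    (θ₀ : ∀ (A : AlgSt.QuotObj 𝕜 H aX), Punct a b A → Vert c c' A)
    (h₀ : ∀ {A A' : AlgSt.QuotObj 𝕜 H aX} (k : A ⟶ A') (hA : Punct a b A) (hA' : Punct a b A'),
      Cmp k (θ₀ A hA) (θ₀ A' hA')) :
    ∃! θ : ∀ A, Vert c c' A,
      (∀ (A A' : AlgSt.QuotObj 𝕜 H aX) (k : A ⟶ A'), Cmp k (θ A) (θ A')) ∧ ∀ A hA, θ A = θ₀ A hA := by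
  haveI : IsFibGrpd (AlgSt.QuotObj.forget 𝕜 H aX) := QuotTransLib.isFibGrpd
  haveI := isFibGrpd_map h
  haveI : IsFibGrpd (ThetaS.overS h (AlgSt.QuotSt 𝕜 H aX)).p :=
    FibLib.isFibGrpd_comp (AlgSt.QuotObj.forget 𝕜 H aX) (Over.map h)
  choose res hres using fun {A A' : AlgSt.QuotObj 𝕜 H aX} (k : A ⟶ A') (θ : Vert c c' A') => exists_res k θ
  let P : (AlgSt.QuotObj 𝕜 H aX)ᵒᵖ ⥤ Type _ :=
    { obj := fun A => Vert c c' A.unop
      map := fun k => ↾(fun θ => res k.unop θ)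
      map_id := fun A => by
        refine ConcreteCategory.hom_ext _ _ fun θ => ?_
        exact (hres (𝟙 A.unop) θ).unique (Cmp.id θ)
      map_comp := fun {A B C} k k' => by
        refine ConcreteCategory.hom_ext _ _ fun θ => ?_
        exact (hres (k'.unop ≫ k.unop) θ).unique ((hres k'.unop _).comp (hres k.unop θ)) }
  have hpres : ∀ {A A' : AlgSt.QuotObj 𝕜 H aX} (k : A ⟶ A') (θ : Vert c c' A) (θ' : Vert c c' A'),
      pres P k θ' = θ ↔ Cmp k θ θ' := fun k θ θ' =>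
    ⟨fun e => by subst e; exact hres k θ', fun e => (hres k θ').unique e⟩
  have hP : AffRep P := fun A => by
    obtain ⟨AZ, φZ, θZ, haff, hu⟩ := exists_univ c c' A
    refine ⟨AZ, φZ, θZ, haff, fun A' φ t => ?_⟩
    obtain ⟨χ, ⟨h1, h2⟩, h3⟩ := hu A' φ t
    exact ⟨χ, ⟨h1, (hpres χ _ _).2 h2⟩, fun χ' h' => h3 χ' ⟨h'.1, (hpres χ' _ _).1 h'.2⟩⟩
  obtain ⟨θ, ⟨hθ, hθ₀⟩, hu⟩ := existsUnique_extend hsr hP θ₀
    (fun k hA hB => (hpres k _ _).2 (h₀ k hA hB))
  exact ⟨θ, ⟨fun A A' k => (hpres k _ _).1 (hθ A A' k), hθ₀⟩,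
    fun θ' h' => hu θ' ⟨fun A A' k => (hpres k _ _).2 (h'.1 A A' k), h'.2⟩⟩

variable (hsr : SemiReg aX a b)

/-- The inclusion of the punctured stack. -/
abbrev incl : Pn h aX a b ⥤ᵇ ThetaS.overS h (AlgSt.QuotSt 𝕜 H aX) :=
  AlgSt.subIncl (ThetaS.overS h (AlgSt.QuotSt 𝕜 H aX)) (Punct a b)

include hsr in
theorem existsUnique_hom_extend (c c' : ThetaS.overS h (AlgSt.QuotSt 𝕜 H aX) ⥤ᵇ W G)
    (β : BasedFunctor.comp (incl (a := a) (b := b)) c ⟶ BasedFunctor.comp incl c') :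
    ∃! α : c ⟶ c', BasedCategory.whiskerLeft incl α = β := by
  have hb : ∀ (A : (Pn h aX a b).obj), (W G).p.map (β.toNatTrans.app A) =
      eqToHom ((c.w_obj A.obj).trans (c'.w_obj A.obj).symm) := fun A => by
    haveI := β.isHomLift' A
    rw [IsHomLift.fac' (W G).p (𝟙 ((Pn h aX a b).p.obj A)) (β.toNatTrans.app A)]
    simp
  obtain ⟨θ, ⟨hθ, hθ₀⟩, hu⟩ := existsUnique_extend_vert hsr c c'
    (fun A hA => ⟨β.toNatTrans.app ⟨A, hA⟩, hb ⟨A, hA⟩⟩)
    (fun {A A'} k hA hA' => β.toNatTrans.naturality (ObjectProperty.homMk k : (⟨A, hA⟩ : (Pn h aX a b).obj) ⟶ ⟨A', hA'⟩))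
  let α : c ⟶ c' :=
    { toNatTrans := { app := fun A => (θ A).hom, naturality := fun A A' k => hθ A A' k }
      isHomLift' := fun A => isHomLift_of_base _ (c.w_obj A) _ (θ A).base }
  refine ⟨α, ?_, fun α' hα' => ?_⟩
  · apply BasedNatTrans.homCategory.ext
    refine NatTrans.ext (funext fun A => ?_)
    exact congrArg (fun v => v.hom) (hθ₀ A.obj A.property)
  · have hb' : ∀ A, (W G).p.map (α'.toNatTrans.app A) = eqToHom ((c.w_obj A).trans (c'.w_obj A).symm) := fun A => by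
      haveI := α'.isHomLift' A
      rw [IsHomLift.fac' (W G).p (𝟙 ((ThetaS.overS h (AlgSt.QuotSt 𝕜 H aX)).p.obj A)) (α'.toNatTrans.app A)]
      simp
    have e := hu (fun A => ⟨α'.toNatTrans.app A, hb' A⟩) ⟨fun A A' k => α'.toNatTrans.naturality k, fun A hA => by
      ext1
      exact congrArg (fun ζ => BasedNatTrans.toNatTrans ζ |>.app (⟨A, hA⟩ : (Pn h aX a b).obj)) hα'⟩
    apply BasedNatTrans.homCategory.ext
    refine NatTrans.ext (funext fun A => ?_)
    exact congrArg (fun v => v.hom) (congrFun e A)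

include hsr in
/-- Unique lifting follows from the existence of extensions. -/
theorem liftsUniquely_of_exists
    (hex : ∀ c₀ : Pn h aX a b ⥤ᵇ W G, ∃ τ : ThetaS.overS h (AlgSt.QuotSt 𝕜 H aX) ⥤ᵇ W G,
      Nonempty (BasedFunctor.comp incl τ ≅ c₀)) :
    LiftSq.LiftsUniquely (incl (h := h) (aX := aX) (a := a) (b := b)) (toSelf (W G)) := by
  intro sq
  refine ⟨?_, fun d d' => ?_⟩
  · obtain ⟨τ, ⟨i⟩⟩ := hex sq.top
    obtain ⟨e⟩ := nonempty_selfOver_iso sq.bot (BasedFunctor.comp τ (toSelf (W G)))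
    exact ⟨⟨τ, i, e, selfOver_hom_ext _ _⟩⟩
  · obtain ⟨α, hα, hu⟩ := existsUnique_hom_extend hsr d.fn d'.fn (d.isoTop.hom ≫ d'.isoTop.inv)
    exact ⟨{ default := ⟨α, by rw [hα, Category.assoc, Iso.inv_hom_id, Category.comp_id], selfOver_hom_ext _ _⟩
             uniq := fun θ => LiftSq.Sq.Lift.hom_ext (hu θ.hom (by
               show BasedCategory.whiskerLeft incl θ.hom = _
               rw [← Category.comp_id (BasedCategory.whiskerLeft _ θ.hom), ← d'.isoTop.hom_inv_id, ← Category.assoc,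
                 θ.w_top])) }⟩

end ThetaBG
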