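import Groth.Agent.ThetaBGaLib.Section
import Groth.Agent.ThetaBGLib.GLPts
import Groth.Agent.ThetaBGLib.MatDesc

/-!
# Torsors of the general linear group over principal ideal domains are trivial
-/

set_option autoImplicit false
set_option linter.all false
set_option backward.isDefEq.respectTransparency false
set_option backward.isDefEq.respectTransparency.types false

universe u

open CategoryTheory CategoryTheory.Limits MonoidalCategory CartesianMonoidalCategory MonObj AlgebraicGeometry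
open scoped TensorProduct
open Groth.Agent

noncomputable section

attribute [-instance] CategoryTheory.Hom.commGroup

namespace ThetaBG

variable {S : Scheme.{u}} {n : ℕ}

theorem matA_testMap {A : Type u} [CommRing A] (j : Spec (CommRingCat.of A) ⟶ S) {C D : Type u} [CommRing C]
    [Algebra A C] [CommRing D] [Algebra A D] (φ : C →ₐ[A] D) (g : TorsVec.testObj j C ⟶ FrB.GLn n S) :
    matA (T := TorsVec.testObj j D) rfl (TorsVec.testMap j φ ≫ g) = (matA (T := TorsVec.testObj j C) rfl g).map φ :=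
  matA_comp (T := TorsVec.testObj j C) (T' := TorsVec.testObj j D) rfl rfl (TorsVec.testMap j φ) φ.toRingHom
    (by simp [TorsVec.testMap]) g

/-- A torsor of the general linear group over an affine scheme with principal ideal functions has a section. -/
theorem exists_section {X : Over S} {aX : AlgGrp.Action (FrB.GLn n S) X}
    (A : AlgSt.QuotObj Scheme.fppfPrecoverage (FrB.GLn n S) aX) [IsAffine A.base.left]
    [IsDomain Γ(A.base.left, ⊤)] [IsPrincipalIdealRing Γ(A.base.left, ⊤)] :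
    ∃ σ : A.base ⟶ A.P, σ ≫ A.π = 𝟙 _ := by
  let X' : Over A.base.left := Over.mk A.π.left
  have hloc : NonAbH1.IsLocallyTrivialFor Scheme.fpqcPrecoverage X' := by
    obtain ⟨R', hR, hs⟩ := A.loc
    exact ⟨R', Scheme.fppfPrecoverage_le_fpqcPrecoverage _ hR, hs⟩
  have hU : IsAffineOpen (⊤ : A.base.left.Opens) := isAffineOpen_top _
  obtain ⟨B, _, _, hB, ⟨p₀⟩⟩ := TorsVec.exists_algebra_point hloc hU
  haveI := hB
  let jT := hU.fromSpec
  let j := jT ≫ A.base.hom
  let c : ∀ (C : Type u) [CommRing C] [Algebra Γ(A.base.left, ⊤) C], TorsVec.testObj j C ⟶ A.base :=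
    fun C _ _ => Over.homMk (Spec.map (CommRingCat.ofHom (algebraMap Γ(A.base.left, ⊤) C)) ≫ jT) (Category.assoc _ _ _)
  have hc : ∀ {C D : Type u} [CommRing C] [Algebra Γ(A.base.left, ⊤) C] [CommRing D] [Algebra Γ(A.base.left, ⊤) D]
      (φ : C →ₐ[Γ(A.base.left, ⊤)] D), TorsVec.testMap j φ ≫ c C = c D := fun φ => by
    ext1
    exact Over.w (TorsVec.testMap jT φ)
  have hp₀ : p₀.left ≫ A.π.left = Spec.map (CommRingCat.ofHom (algebraMap Γ(A.base.left, ⊤) B)) ≫ jT := Over.w p₀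
  let p : TorsVec.testObj j B ⟶ A.P := Over.homMk p₀.left (by
    show p₀.left ≫ A.P.hom = Spec.map _ ≫ jT ≫ A.base.hom
    rw [← Over.w A.π, ← Category.assoc, hp₀, Category.assoc])
  have hp : p ≫ A.π = c B := Over.OverMorphism.ext hp₀
  obtain ⟨g, hg⟩ := ThetaBGa.exists_smul A (TorsVec.testMap j TorsVec.insL ≫ p) (TorsVec.testMap j TorsVec.insR ≫ p)
    (by rw [Category.assoc, Category.assoc, hp, hc, hc])
  have hcoc : (TorsVec.testMap j TorsVec.ins23 ≫ g) * (TorsVec.testMap j TorsVec.ins12 ≫ g) =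
      TorsVec.testMap j TorsVec.ins13 ≫ g := by
    refine ThetaBGa.smul_injective A (TorsVec.testMap j (TorsVec.ins13.comp TorsVec.insL) ≫ p) ?_
    have h12 := congrArg (fun z => TorsVec.testMap j (TorsVec.ins12 (A := Γ(A.base.left, ⊤)) (B := B)) ≫ z) hg
    have h23 := congrArg (fun z => TorsVec.testMap j (TorsVec.ins23 (A := Γ(A.base.left, ⊤)) (B := B)) ≫ z) hg
    have h13 := congrArg (fun z => TorsVec.testMap j (TorsVec.ins13 (A := Γ(A.base.left, ⊤)) (B := B)) ≫ z) hg
    simp only [TorsVec.comp_smulPt, TorsVec.testMap_comp_assoc] at h12 h23 h13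
    have e1 : (TorsVec.ins12 (A := Γ(A.base.left, ⊤)) (B := B)).comp TorsVec.insL =
        (TorsVec.ins13 (A := Γ(A.base.left, ⊤)) (B := B)).comp TorsVec.insL := by ext b; rfl
    have e2 : (TorsVec.ins12 (A := Γ(A.base.left, ⊤)) (B := B)).comp TorsVec.insR =
        (TorsVec.ins23 (A := Γ(A.base.left, ⊤)) (B := B)).comp TorsVec.insL := by ext b; rfl
    have e3 : (TorsVec.ins13 (A := Γ(A.base.left, ⊤)) (B := B)).comp TorsVec.insR =
        (TorsVec.ins23 (A := Γ(A.base.left, ⊤)) (B := B)).comp TorsVec.insR := by ext b; rfl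
    change TorsVec.smulPt A.act ((TorsVec.testMap j TorsVec.ins23 ≫ g) * (TorsVec.testMap j TorsVec.ins12 ≫ g)) _ =
      TorsVec.smulPt A.act _ _
    rw [TorsVec.mul_smulPt, ← e1, h12, e2, h23, e1, h13, e3]
  let G₀ := matA (T := TorsVec.testObj j (B ⊗[Γ(A.base.left, ⊤)] B)) rfl g
  have hc' := congrArg (matA (T := TorsVec.testObj j
    (B ⊗[Γ(A.base.left, ⊤)] (B ⊗[Γ(A.base.left, ⊤)] B))) rfl) hcoc
  rw [matA_mul, matA_testMap, matA_testMap, matA_testMap] at hc'
  obtain ⟨P, hP, hPc⟩ := exists_coboundary G₀ (isUnit_matA _ g) hc'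
  obtain ⟨q, hq⟩ := exists_matA_eq (S := S) (T := TorsVec.testObj j B) rfl P⁻¹ (Matrix.isUnit_nonsing_inv_det P hP)
  have heq : TorsVec.testMap j (TorsVec.insL (A := Γ(A.base.left, ⊤)) (B := B)) ≫ TorsVec.smulPt A.act q p =
      TorsVec.testMap j TorsVec.insR ≫ TorsVec.smulPt A.act q p := by
    rw [TorsVec.comp_smulPt, TorsVec.comp_smulPt, ← hg, ← TorsVec.mul_smulPt]
    congr 1
    refine matA_injective (T := TorsVec.testObj j (B ⊗[Γ(A.base.left, ⊤)] B)) rfl ?_
    rw [matA_mul, matA_testMap, matA_testMap, hq]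
    have h1 : ∀ f : B →ₐ[Γ(A.base.left, ⊤)] B ⊗[Γ(A.base.left, ⊤)] B, (P⁻¹).map f * P.map f = 1 := fun f => by
      rw [← Matrix.map_mul, Matrix.nonsing_inv_mul _ hP, Matrix.map_one _ (map_zero f) (map_one f)]
    have h2 : P.map (TorsVec.insL (A := Γ(A.base.left, ⊤)) (B := B)) *
        (P⁻¹).map (TorsVec.insL (A := Γ(A.base.left, ⊤)) (B := B)) = 1 := by
      rw [← Matrix.map_mul, Matrix.mul_nonsing_inv _ hP,
        Matrix.map_one _ (map_zero (TorsVec.insL (A := Γ(A.base.left, ⊤)) (B := B)))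
          (map_one (TorsVec.insL (A := Γ(A.base.left, ⊤)) (B := B)))]
    calc (P⁻¹).map (TorsVec.insL (A := Γ(A.base.left, ⊤)) (B := B))
        = ((P⁻¹).map (TorsVec.insR (A := Γ(A.base.left, ⊤)) (B := B)) *
            P.map (TorsVec.insR (A := Γ(A.base.left, ⊤)) (B := B))) *
            (P⁻¹).map (TorsVec.insL (A := Γ(A.base.left, ⊤)) (B := B)) := by rw [h1, _root_.one_mul]
      _ = _ := by
          rw [← hPc, _root_.mul_assoc, _root_.mul_assoc, h2, _root_.mul_one]
  let p' : TorsVec.testObj jT B ⟶ X' := Over.homMk (TorsVec.smulPt A.act q p).left (by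
    show (TorsVec.smulPt A.act q p).left ≫ A.π.left = _
    rw [← Over.comp_left, ThetaBGa.smul_π, hp]
    rfl)
  obtain ⟨s, hs⟩ := TorsVec.exists_descend jT p' (Over.OverMorphism.ext
    (congrArg (fun m : TorsVec.testObj j (B ⊗[Γ(A.base.left, ⊤)] B) ⟶ A.P => m.left) heq))
  let σ₀ : A.base.left ⟶ A.P.left := (Scheme.topIso A.base.left).inv ≫ hU.isoSpec.hom ≫ s
  have hσ₀ : σ₀ ≫ A.π.left = 𝟙 _ := by
    change ((Scheme.topIso A.base.left).inv ≫ hU.isoSpec.hom ≫ s) ≫ X'.hom = _
    simp only [Category.assoc, hs, jT, IsAffineOpen.isoSpec_hom, IsAffineOpen.toSpecΓ_fromSpec]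
    simp
  refine ⟨Over.homMk σ₀ ?_, Over.OverMorphism.ext hσ₀⟩
  rw [← Over.w A.π, reassoc_of% hσ₀]

end ThetaBG
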