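import Groth.Agent.ThetaBGLib.Frame
import Groth.Agent.ThetaBGLib.Diag
import Groth.Agent.ThetaBGLib.Section
import Groth.Agent.ThetaBGLib.Reduction
import Groth.Agent.ThetaBGLib.Pieces
import Groth.Agent.ThetaBGLib.GLProps
import Groth.Agent.ThetaBGLib.Lattice
import Groth.Agent.ThetaBGLib.Graded

/-!
# Affine test objects
-/

set_option autoImplicit false
set_option linter.all false
set_option backward.isDefEq.respectTransparency false
set_option backward.isDefEq.respectTransparency.types false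
set_option maxHeartbeats 800000

universe v w u

open CategoryTheory CategoryTheory.Limits MonoidalCategory CartesianMonoidalCategory MonObj AlgebraicGeometry
open Opposite FibCat LiftAffLib
open Groth.Agent
open TorsVec (smulPt)

noncomputable section

attribute [-instance] CategoryTheory.Hom.commGroup

namespace ThetaBG

variable {S : Scheme.{u}} {n : ℕ}

theorem exists_fr [IsAffineHom (FrB.GLn n S).hom] {ℬ : BasedCategory.{v, w} (Over S)}
    (c : ℬ ⥤ᵇ W (FrB.GLn n S)) (A : ℬ.obj) (C : Type u) [CommRing C] [IsDomain C] [IsPrincipalIdealRing C]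
    (e : (ℬ.p.obj A).left = Spec (CommRingCat.of C)) : Nonempty (Fr c A) := by
  have e' : (c.obj A).base.left = Spec (CommRingCat.of C) :=
    (congrArg (fun T : Over S => T.left) (c.w_obj A)).trans e
  haveI : IsAffine (c.obj A).base.left := by rw [e']; infer_instance
  let ε : Γ((c.obj A).base.left, ⊤) ≃+* C :=
    RingEquiv.ofBijective ((eqToHom e'.symm).appTop ≫ (Scheme.ΓSpecIso (CommRingCat.of C)).hom).hom
      (ConcreteCategory.bijective_of_isIso _)
  haveI : IsDomain Γ((c.obj A).base.left, ⊤) := ε.toMulEquiv.isDomain C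
  haveI : IsPrincipalIdealRing Γ((c.obj A).base.left, ⊤) :=
    IsPrincipalIdealRing.of_surjective ε.symm.toRingHom ε.symm.surjective
  obtain ⟨σ, hσ⟩ := exists_section (c.obj A)
  exact ⟨⟨eqToHom (c.w_obj A).symm ≫ σ, by rw [Category.assoc, hσ]; exact Category.comp_id _⟩⟩

variable {R : Type u} [CommRing R] (h : Spec (CommRingCat.of R) ⟶ S)

/-- The matrix of a point on an affine test object. -/
def mS (C : Type u) [CommRing C] [Algebra R C] (g : (Over.map h).obj (CoactBr.sp R C) ⟶ FrB.GLn n S) :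
    Matrix (Fin n) (Fin n) C :=
  matA (T := (Over.map h).obj (CoactBr.sp R C)) rfl g

variable {h} {C D : Type u} [CommRing C] [Algebra R C] [CommRing D] [Algebra R D]

theorem mS_mul (g g' : (Over.map h).obj (CoactBr.sp R C) ⟶ FrB.GLn n S) :
    mS h C (g * g') = mS h C g * mS h C g' := matA_mul (T := (Over.map h).obj (CoactBr.sp R C)) rfl g g'

theorem mS_one : mS h C (1 : (Over.map h).obj (CoactBr.sp R C) ⟶ FrB.GLn n S) = 1 := matA_one (T := (Over.map h).obj (CoactBr.sp R C)) rfl

theorem mS_injective : Function.Injective (mS h C : ((Over.map h).obj (CoactBr.sp R C) ⟶ FrB.GLn n S) → _) :=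
  matA_injective (T := (Over.map h).obj (CoactBr.sp R C)) rfl

theorem exists_mS_eq (M : Matrix (Fin n) (Fin n) C) (hM : IsUnit M.det) :
    ∃ g : (Over.map h).obj (CoactBr.sp R C) ⟶ FrB.GLn n S, mS h C g = M :=
  exists_matA_eq (T := (Over.map h).obj (CoactBr.sp R C)) rfl M hM

theorem isUnit_mS (g : (Over.map h).obj (CoactBr.sp R C) ⟶ FrB.GLn n S) : IsUnit (mS h C g).det := isUnit_matA (T := (Over.map h).obj (CoactBr.sp R C)) rfl g

theorem mS_comp (ψ : C →ₐ[R] D) (g : (Over.map h).obj (CoactBr.sp R C) ⟶ FrB.GLn n S) :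
    mS h D ((Over.map h).map (CoactBr.pt ψ) ≫ g) = (mS h C g).map ψ :=
  matA_comp (T := (Over.map h).obj (CoactBr.sp R C)) (T' := (Over.map h).obj (CoactBr.sp R D)) rfl rfl
    ((Over.map h).map (CoactBr.pt ψ)) ψ.toRingHom (by
      show (CoactBr.pt ψ).left = _
      simp) g

theorem mS_inv (g : (Over.map h).obj (CoactBr.sp R C) ⟶ FrB.GLn n S) : mS h C g⁻¹ = (mS h C g)⁻¹ := by
  refine (Matrix.inv_eq_left_inv ?_).symm
  rw [← mS_mul, inv_mul_cancel, mS_one]

variable (h) in
/-- The value of a function on an affine test object. -/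
abbrev valC (C : Type u) [CommRing C] [Algebra R C] : Γ((CoactBr.sp R C).left, ⊤) →+* C :=
  (Scheme.ΓSpecIso (CommRingCat.of C)).hom.hom

theorem mS_diagCoch (d : Fin n → ℤ) (g : CoactBr.sp R C ⟶ ThetaS.Gm R) :
    mS h C ((diagCoch h d).app g) =
      Matrix.diagonal fun i => (Scheme.ΓSpecIso (CommRingCat.of C)).hom (zu g (d i)) := by
  show (mat ((diagCoch h d).app g)).map _ = _
  rw [mat_diagCoch, Matrix.diagonal_map (map_zero _)]
  congr 1

theorem exists_gm_of_unit (v : Cˣ) :
    ∃ g : CoactBr.sp R C ⟶ ThetaS.Gm R,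
      ∀ m : ℤ, (Scheme.ΓSpecIso (CommRingCat.of C)).hom (zu g m) = ((v ^ m : Cˣ) : C) := by
  let e : Γ((CoactBr.sp R C).left, ⊤) ≃+* C := (Scheme.ΓSpecIso (CommRingCat.of C)).commRingCatIsoToRingEquiv
  obtain ⟨g, hg⟩ := exists_gm (T := CoactBr.sp R C) (Units.mapEquiv e.symm.toMulEquiv v)
  refine ⟨g, fun m => ?_⟩
  rw [zu_eq_zpow]
  show ((Units.mapEquiv e.toMulEquiv ((isUnit_zu g 1).unit ^ m) : Cˣ) : C) = _
  rw [map_zpow]
  congr 2
  ext1
  show e (zu g 1) = (v : C)
  rw [hg]
  exact e.apply_symm_apply _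

end ThetaBG
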