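import Groth.Agent.ThetaBGLib.Iso
import Groth.Agent.ThetaBGaLib.Section
import Groth.Agent.LiftAffLib.Quot
import Groth.Agent.LiftAffLib.Theta

/-!
# The functor on a quotient stack induced by a homomorphism of groups
-/

set_option autoImplicit false
set_option linter.all false
set_option backward.isDefEq.respectTransparency false
set_option backward.isDefEq.respectTransparency.types false
set_option maxHeartbeats 800000

universe u

open CategoryTheory CategoryTheory.Limits MonoidalCategory CartesianMonoidalCategory MonObj AlgebraicGeometry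
open Opposite FibCat LiftAffLib AlgSp AlgSpLib
open AlgStLib
open Groth.Agent
open TorsVec (smulPt comp_smulPt mul_smulPt)

noncomputable section

namespace ThetaBG

local notation "𝕜" => Scheme.fppfPrecoverage

variable {S' S : Scheme.{u}} (h : S' ⟶ S) (H : Over S') [GrpObj H] (G : Over S) [GrpObj G]

/-- A homomorphism from a group over `S'` to a group over `S`. -/
structure Coch where
  m : (Over.map h).obj H ⟶ G
  mul : ∀ (Z : Over S') (g g' : Z ⟶ H),
    (Over.map h).map (g * g') ≫ m = ((Over.map h).map g ≫ m) * ((Over.map h).map g' ≫ m)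

variable {h H G}

/-- The value on a point. -/
def Coch.app (Λ : Coch h H G) {Z : Over S'} (g : Z ⟶ H) : (Over.map h).obj Z ⟶ G := (Over.map h).map g ≫ Λ.m

theorem Coch.app_mul (Λ : Coch h H G) {Z : Over S'} (g g' : Z ⟶ H) : Λ.app (g * g') = Λ.app g * Λ.app g' :=
  Λ.mul Z g g'

theorem Coch.app_comp (Λ : Coch h H G) {Z' Z : Over S'} (t : Z' ⟶ Z) (g : Z ⟶ H) :
    Λ.app (t ≫ g) = (Over.map h).map t ≫ Λ.app g := by
  simp [Coch.app]

theorem Coch.app_one (Λ : Coch h H G) (Z : Over S') : Λ.app (1 : Z ⟶ H) = 1 := by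
  have e := Λ.app_mul (1 : Z ⟶ H) 1
  rw [_root_.one_mul] at e
  exact mul_eq_left.1 e.symm

/-- Moving a test scheme to `S'` along a morphism to a scheme over `S'`. -/
abbrev up {V : Over S} {Y : Over S'} (s : V ⟶ (Over.map h).obj Y) : Over S' := Over.mk (s.left ≫ Y.hom)

theorem exists_up {V : Over S} {Y : Over S'} (s : V ⟶ (Over.map h).obj Y) :
    ∃ (e : (Over.map h).obj (up s) ⟶ V) (s' : up s ⟶ Y), IsIso e ∧ e.left = 𝟙 V.left ∧
      e ≫ s = (Over.map h).map s' := by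
  let e : (Over.map h).obj (up s) ⟶ V := Over.homMk (𝟙 V.left) (by
    show 𝟙 V.left ≫ V.hom = (s.left ≫ Y.hom) ≫ h
    rw [Category.id_comp, Category.assoc]
    exact (Over.w s).symm)
  haveI : IsIso ((Over.forget S).map e) := inferInstanceAs (IsIso (𝟙 V.left))
  exact ⟨e, Over.homMk s.left rfl, isIso_of_reflects_iso e (Over.forget S), rfl,
    Over.OverMorphism.ext (by show 𝟙 _ ≫ s.left = s.left; rw [Category.id_comp])⟩

theorem map_cart {Y : Over S'} {P Q R : Over S'} {a : Y ⟶ P} {b : Y ⟶ Q} {c : P ⟶ R} {d : Q ⟶ R}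
    (sq : IsPullback a b c d) :
    IsPullback ((Over.map h).map a) ((Over.map h).map b) ((Over.map h).map c) ((Over.map h).map d) :=
  isPullback_over (sq.map (Over.forget S'))

variable {X : Over S'} {aX : AlgGrp.Action H X} (Λ : Coch h H G) (A : AlgSt.QuotObj 𝕜 H aX)

/-- The total space over `S`. -/
abbrev PS : Over S := (Over.map h).obj A.P

/-- The projection over `S`. -/
abbrev πS : PS (h := h) A ⟶ (Over.map h).obj A.base := (Over.map h).map A.π

/-- The element of the group moving one point to another. -/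
def dlt {V : Over S} (s s' : V ⟶ PS (h := h) A) (e : s ≫ πS A = s' ≫ πS A) : V ⟶ G :=
  ((map_cart A.cart).lift s s' e ≫ (Over.map h).map (fst H A.P)) ≫ Λ.m

theorem comp_dlt {V' V : Over S} (t : V' ⟶ V) (s s' : V ⟶ PS (h := h) A) (e : s ≫ πS A = s' ≫ πS A) :
    t ≫ dlt Λ A s s' e = dlt Λ A (t ≫ s) (t ≫ s') (by rw [Category.assoc, e, Category.assoc]) := by
  unfold dlt
  rw [← Category.assoc, ← Category.assoc]
  congr 2
  refine (map_cart A.cart).hom_ext ?_ ?_ <;> simp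

theorem dlt_congr {V : Over S} {s₁ s₁' s₂ s₂' : V ⟶ PS (h := h) A} (h₁ : s₁ = s₂) (h₂ : s₁' = s₂')
    (e : s₁ ≫ πS A = s₁' ≫ πS A) :
    dlt Λ A s₁ s₁' e = dlt Λ A s₂ s₂' (by rw [← h₁, ← h₂, e]) := by
  subst h₁ h₂; rfl

theorem dlt_map {Z : Over S'} (g : Z ⟶ H) (p q : Z ⟶ A.P) (hg : smulPt A.act g p = q)
    (e : (Over.map h).map q ≫ πS A = (Over.map h).map p ≫ πS A) :
    dlt Λ A ((Over.map h).map q) ((Over.map h).map p) e = Λ.app g := by
  unfold dlt Coch.app
  have hl : (map_cart A.cart).lift ((Over.map h).map q) ((Over.map h).map p) e = (Over.map h).map (lift g p) := by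
    refine (map_cart A.cart).hom_ext ?_ ?_
    · rw [IsPullback.lift_fst, ← Functor.map_comp, ← hg]; rfl
    · rw [IsPullback.lift_snd, ← Functor.map_comp, lift_snd]
  rw [hl, ← Functor.map_comp, lift_fst]

theorem dlt_mul {V : Over S} (s s' s'' : V ⟶ PS (h := h) A) (e : s ≫ πS A = s' ≫ πS A)
    (e' : s' ≫ πS A = s'' ≫ πS A) :
    dlt Λ A s s' e * dlt Λ A s' s'' e' = dlt Λ A s s'' (e.trans e') := by
  obtain ⟨ii, s₀, hii, hl, hs⟩ := exists_up s
  have key : ∀ r : V ⟶ PS (h := h) A, r ≫ πS A = s ≫ πS A →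
      ∃ r₀ : up s ⟶ A.P, r₀ ≫ A.π = s₀ ≫ A.π ∧ (Over.map h).map r₀ = ii ≫ r := fun r hr => by
    have hrl : r.left ≫ A.π.left = s.left ≫ A.π.left := congrArg (fun k => k.left) hr
    have hsl : s₀.left = s.left := by
      have := congrArg (fun k => k.left) hs
      simp only [Over.comp_left, hl] at this
      erw [Category.id_comp] at this
      exact this.symm
    refine ⟨Over.homMk r.left (by
      show r.left ≫ A.P.hom = s.left ≫ A.P.hom
      rw [← Over.w A.π, ← Category.assoc, hrl, Category.assoc]), Over.OverMorphism.ext ?_,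
      Over.OverMorphism.ext ?_⟩
    · show r.left ≫ A.π.left = s₀.left ≫ A.π.left
      rw [hrl, hsl]
    · show r.left = ii.left ≫ r.left
      rw [hl]
      exact (Category.id_comp _).symm
  obtain ⟨a₁, ha₁, ha₁'⟩ := key s' e.symm
  obtain ⟨a₂, ha₂, ha₂'⟩ := key s'' (e.trans e').symm
  obtain ⟨g₁, hg₁⟩ := ThetaBGa.exists_smul A a₁ s₀ ha₁
  obtain ⟨g₂, hg₂⟩ := ThetaBGa.exists_smul A a₂ a₁ (ha₂.trans ha₁.symm)
  have hg : smulPt A.act (g₁ * g₂) a₂ = s₀ := by rw [mul_smulPt, hg₂, hg₁]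
  rw [← cancel_epi ii, MonObj.comp_mul, comp_dlt, comp_dlt, comp_dlt, dlt_congr Λ A hs ha₁'.symm,
    dlt_congr Λ A ha₁'.symm ha₂'.symm, dlt_congr Λ A hs ha₂'.symm, dlt_map Λ A g₁ _ _ hg₁,
    dlt_map Λ A g₂ _ _ hg₂, dlt_map Λ A (g₁ * g₂) _ _ hg, Λ.app_mul]

theorem dlt_self {V : Over S} (s : V ⟶ PS (h := h) A) (e : s ≫ πS A = s ≫ πS A) : dlt Λ A s s e = 1 :=
  mul_eq_left.1 (dlt_mul Λ A s s s e e)

/-- An associated torsor. -/
structure Assoc where
  Q : AlgSt.QuotObj 𝕜 G (AlgSt.trivAction G)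
  hQ : Q.base = (Over.map h).obj A.base
  σ : PS (h := h) A ⟶ Q.P
  σ_π : σ ≫ Q.π = πS A ≫ eqToHom hQ.symm
  eqv : ∀ {V : Over S} (s s' : V ⟶ PS (h := h) A) (e : s ≫ πS A = s' ≫ πS A),
    smulPt Q.act (dlt Λ A s s' e) (s' ≫ σ) = s ≫ σ

/-- The covering sieve of the total space. -/
abbrev sv : Sieve ((Over.map h).obj A.base) := Sieve.generate (Presieve.singleton (πS A))

theorem exists_fac_sv {V : Over S} {f : V ⟶ (Over.map h).obj A.base} (hf : sv (h := h) A f) :
    ∃ s : V ⟶ PS (h := h) A, s ≫ πS A = f := by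
  obtain ⟨Y, p, q, ⟨⟩, e⟩ := hf
  exact ⟨p, e⟩

/-- A chosen lift. -/
def chs (a : (Stk.sieveCat (sv (h := h) A)).obj) : a.obj.left ⟶ PS (h := h) A := (exists_fac_sv A a.property).choose

theorem chs_π (a : (Stk.sieveCat (sv (h := h) A)).obj) : chs A a ≫ πS A = a.obj.hom :=
  (exists_fac_sv A a.property).choose_spec

theorem chs_comp {a b : (Stk.sieveCat (sv (h := h) A)).obj} (m : a ⟶ b) :
    chs A a ≫ πS A = (m.hom.left ≫ chs A b) ≫ πS A := by
  rw [Category.assoc, chs_π, chs_π]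
  exact (Over.w m.hom).symm

/-- The trivial torsor on a test scheme. -/
abbrev trG (V : Over S) : AlgSt.QuotObj 𝕜 G (AlgSt.trivAction G) := tr (AlgSt.trivAction G) (toUnit V)

/-- A map of trivial torsors. -/
abbrev trGMap {V' V : Over S} (g : V' ⟶ G) (t : V' ⟶ V) : trG (G := G) V' ⟶ trG V :=
  LiftAffLib.hom (trG V) (lift g t) (toUnit V') (toUnit_unique _ _)

theorem base_trGMap {V' V : Over S} (g : V' ⟶ G) (t : V' ⟶ V) : (trGMap g t).base = t :=
  lift_snd g t

theorem pt_trGMap {V' V : Over S} (g : V' ⟶ G) (t : V' ⟶ V) : pt (trGMap g t) = lift g t := pt_hom _ _ _ _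

theorem trGMap_hom {V' V : Over S} (g : V' ⟶ G) (t : V' ⟶ V) {Q : AlgSt.QuotObj 𝕜 G (AlgSt.trivAction G)}
    (r : V ⟶ Q.P) (x : V ⟶ 𝟙_ (Over S)) (hr : r ≫ Q.φ = toUnit V) :
    pt (trGMap g t ≫ LiftAffLib.hom Q r (toUnit V) hr) = smulPt Q.act g (t ≫ r) :=
  pt_comp_hom g t _ (pt_trGMap g t) r hr

theorem pt_comp_trG {V' V : Over S} (g : V' ⟶ G) (t : V' ⟶ V) {Q : AlgSt.QuotObj 𝕜 G (AlgSt.trivAction G)}
    (n : trG V ⟶ Q) : pt (trGMap g t ≫ n) = smulPt Q.act g (t ≫ pt n) := by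
  have e : n = LiftAffLib.hom Q (pt n) (toUnit V) (toUnit_unique _ _) := pt_inj (pt_hom _ _ _ _).symm
  conv_lhs => rw [e]
  exact trGMap_hom g t (pt n) (toUnit V) (toUnit_unique _ _)

theorem trGMap_comp {V'' V' V : Over S} (g' : V'' ⟶ G) (t' : V'' ⟶ V') (g : V' ⟶ G) (t : V' ⟶ V) :
    trGMap g' t' ≫ trGMap g t = trGMap (g' * (t' ≫ g)) (t' ≫ t) := pt_inj (by
  rw [pt_comp_trG, pt_trGMap, pt_trGMap, comp_lift]
  show lift g' (lift (t' ≫ g) (t' ≫ t)) ≫ (AlgSt.leftMul G V).act = _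
  simp [AlgSt.leftMul, comp_lift, comp_mul])

theorem trGMap_id (V : Over S) : trGMap (G := G) (1 : V ⟶ G) (𝟙 V) = 𝟙 _ := pt_inj (by
  rw [pt_trGMap]
  exact (Category.comp_id _).symm)

variable [IsAffineHom G.hom]

/-- The descent datum. -/
def datum : Stk.sieveCat (sv (h := h) A) ⥤ᵇ W G where
  toFunctor :=
    { obj := fun a => trG a.obj.left
      map := fun {a b} m => trGMap (dlt Λ A (chs A a) (m.hom.left ≫ chs A b) (chs_comp A m)) m.hom.left
      map_id := fun a => by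
        show trGMap (dlt Λ A (chs A a) (𝟙 a.obj.left ≫ chs A a) _) (𝟙 a.obj.left) = _
        rw [dlt_congr Λ A rfl (Category.id_comp _), dlt_self, trGMap_id]
      map_comp := fun {a b c} m m' => by
        rw [trGMap_comp, comp_dlt, dlt_mul]
        show trGMap (dlt Λ A (chs A a) ((m.hom.left ≫ m'.hom.left) ≫ chs A c) _) (m.hom.left ≫ m'.hom.left) = _
        rw [dlt_congr Λ A rfl (Category.assoc _ _ _)] }
  w := by
    refine CategoryTheory.Functor.ext (fun a => rfl) fun a b m => ?_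
    show (trGMap _ m.hom.left).base = eqToHom _ ≫ _ ≫ eqToHom _
    rw [base_trGMap, eqToHom_refl, eqToHom_refl, Category.id_comp, Category.comp_id]
    rfl

/-- The base point of the sieve. -/
abbrev a₀ : (Stk.sieveCat (sv (h := h) A)).obj :=
  ⟨Over.mk (πS A), Sieve.le_generate _ _ _ (Presieve.singleton_self _)⟩

variable [Flat H.hom] [LocallyOfFinitePresentation H.hom]

theorem sv_mem : sv (h := h) A ∈ AlgSp.J S ((Over.map h).obj A.base) := by
  haveI : Flat A.π.left :=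
    (locP_yon_map_iff _).1 (QuotStLib.locP_torsor @Flat isLocalOnBase_fppf_flat inferInstance A)
  haveI : LocallyOfFinitePresentation A.π.left :=
    (locP_yon_map_iff _).1 (QuotStLib.locP_torsor @LocallyOfFinitePresentation isLocalOnBase_fppf_lfp inferInstance A)
  haveI : Surjective A.π.left := surjective_left_of_isSurjectiveMor (QuotStLib.isSurjectiveMor_torsor A)
  haveI : Flat (πS (h := h) A).left := inferInstanceAs (Flat A.π.left)
  haveI : LocallyOfFinitePresentation (πS (h := h) A).left := inferInstanceAs (LocallyOfFinitePresentation A.π.left)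
  haveI : Surjective (πS (h := h) A).left := inferInstanceAs (Surjective A.π.left)
  exact generate_singleton_mem_J (πS A)

theorem base_of_lift {Q Q' : AlgSt.QuotObj 𝕜 G (AlgSt.trivAction G)} {U U' : Over S} (f : U ⟶ U') (k : Q ⟶ Q')
    (hk : (W G).p.IsHomLift f k) (hU : Q.base = U) (hU' : Q'.base = U') :
    k.base = eqToHom hU ≫ f ≫ eqToHom hU'.symm :=
  IsHomLift.fac' (W G).p f k

theorem leg_eq {Q : AlgSt.QuotObj 𝕜 G (AlgSt.trivAction G)}
    (L : ∀ a : (Stk.sieveCat (sv (h := h) A)).obj, a.obj.left ⟶ Q.P)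
    (hnat : ∀ (a b : (Stk.sieveCat (sv (h := h) A)).obj) (m : a ⟶ b),
      smulPt Q.act (dlt Λ A (chs A a) (m.hom.left ≫ chs A b) (chs_comp A m)) (m.hom.left ≫ L b) = L a)
    {V : Over S} (s : V ⟶ PS (h := h) A) (a : (Stk.sieveCat (sv (h := h) A)).obj) (t : V ⟶ a.obj.left)
    (ht : t ≫ a.obj.hom = s ≫ πS A) (b : (Stk.sieveCat (sv (h := h) A)).obj) (s₁ : V ⟶ b.obj.left)
    (hs₁ : s₁ ≫ b.obj.hom = s ≫ πS A) :
    smulPt Q.act (dlt Λ A s (s₁ ≫ chs A b) (by rw [Category.assoc, chs_π, hs₁])) (s₁ ≫ L b) =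
      smulPt Q.act (dlt Λ A s (t ≫ chs A a) (by rw [Category.assoc, chs_π, ht])) (t ≫ L a) := by
  let c : (Stk.sieveCat (sv (h := h) A)).obj := ⟨Over.mk (s ≫ πS A), Sieve.downward_closed _ (a₀ A).property s⟩
  let m₀ : c ⟶ b := ObjectProperty.homMk (Over.homMk s₁ hs₁)
  let m₁ : c ⟶ a := ObjectProperty.homMk (Over.homMk t ht)
  have k₀ : smulPt Q.act (dlt Λ A (chs A c) (s₁ ≫ chs A b) (chs_comp A m₀)) (s₁ ≫ L b) = L c := hnat c b m₀
  have k₁ : smulPt Q.act (dlt Λ A (chs A c) (t ≫ chs A a) (chs_comp A m₁)) (t ≫ L a) = L c := hnat c a m₁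
  have hc : s ≫ πS A = chs A c ≫ πS A := (chs_π A c).symm
  rw [← dlt_mul Λ A s (chs A c) (s₁ ≫ chs A b) hc (chs_comp A m₀), mul_smulPt, k₀, ← k₁, ← mul_smulPt, dlt_mul]

/-- The associated torsor exists. -/
theorem nonempty_assoc : Nonempty (Assoc Λ A) := by
  obtain ⟨c⟩ := QuotTransLib.nonempty_cocone (sv_mem (h := h) A) (datum Λ A)
  have hleg : ∀ a, (c.leg a).base = a.obj.hom ≫ eqToHom c.pt_base.symm := fun a => by
    rw [base_of_lift _ _ (c.leg_lift a) rfl c.pt_base]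
    exact Category.id_comp _
  have hπ : ∀ a, pt (c.leg a) ≫ c.pt.π = a.obj.hom ≫ eqToHom c.pt_base.symm := fun a => by
    have w : (c.leg a).top ≫ c.pt.π = snd G a.obj.left ≫ (c.leg a).base := (c.leg a).cart.w
    rw [← hleg]
    show (lift (1 : a.obj.left ⟶ G) (𝟙 _) ≫ (c.leg a).top) ≫ c.pt.π = _
    rw [Category.assoc, w, lift_snd_assoc, Category.id_comp]
  have hnat : ∀ (a b : (Stk.sieveCat (sv (h := h) A)).obj) (m : a ⟶ b),
      smulPt c.pt.act (dlt Λ A (chs A a) (m.hom.left ≫ chs A b) (chs_comp A m))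
      (m.hom.left ≫ pt (c.leg b)) = pt (c.leg a) := fun a b m =>
    (pt_comp_trG _ _ _).symm.trans (congrArg (fun k => pt k) (c.leg_nat a b m))
  have e0 : 𝟙 (PS (h := h) A) ≫ πS A = (𝟙 (PS (h := h) A) ≫ chs A (a₀ A)) ≫ πS A := by
    rw [Category.assoc, chs_π]; rfl
  let σ : PS (h := h) A ⟶ c.pt.P :=
    smulPt c.pt.act (dlt Λ A (𝟙 _) (𝟙 _ ≫ chs A (a₀ A)) e0) (𝟙 _ ≫ pt (c.leg (a₀ A)))
  have hσ : ∀ {V : Over S} (s : V ⟶ PS (h := h) A),
      s ≫ σ = smulPt c.pt.act (dlt Λ A s (s ≫ chs A (a₀ A)) (by rw [Category.assoc, chs_π]; rfl))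
        (s ≫ pt (c.leg (a₀ A))) := fun {V} s => by
    show s ≫ smulPt _ _ _ = _
    rw [comp_smulPt, comp_dlt, dlt_congr Λ A (Category.comp_id s) (congrArg (s ≫ ·) (Category.id_comp _))]
    simp only [Category.id_comp]
  refine ⟨{ Q := c.pt, hQ := c.pt_base, σ := σ, σ_π := ?_, eqv := fun {V} s s' e => ?_ }⟩
  · rw [ThetaBGa.smul_π, Category.id_comp, hπ]
    rfl
  · rw [hσ, hσ, ← mul_smulPt, dlt_mul]
    exact (leg_eq Λ A (fun a => pt (c.leg a)) hnat s (a₀ A) s rfl (a₀ A) s' e.symm)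

variable {A Λ}

theorem Assoc.σ_eq (α : Assoc Λ A) {V : Over S} (s : V ⟶ PS (h := h) A) (s₀ : V ⟶ PS (h := h) A)
    (e : s ≫ πS A = s₀ ≫ πS A) : s ≫ α.σ = smulPt α.Q.act (dlt Λ A s s₀ e) (s₀ ≫ α.σ) :=
  (α.eqv s s₀ e).symm

theorem existsUnique_vert (α β : Assoc Λ A) :
    ∃! n : α.Q ⟶ β.Q, n.base = eqToHom (α.hQ.trans β.hQ.symm) ∧ α.σ ≫ n.top = β.σ := by
  let mk : Assoc Λ A → SpTorsLib.Cocone (datum Λ A) := fun cc =>
    { pt := cc.Q, pt_base := cc.hQ
      leg := fun a => LiftAffLib.hom cc.Q (chs A a ≫ cc.σ) (toUnit _) (toUnit_unique _ _)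
      leg_lift := fun a => by
        refine IsHomLift.of_fac' _ _ _ rfl cc.hQ ?_
        show (chs A a ≫ cc.σ) ≫ cc.Q.π = _
        rw [Category.assoc, cc.σ_π, reassoc_of% (chs_π A a), eqToHom_refl, Category.id_comp]
      leg_nat := fun a b m => pt_inj (by
        show pt (trGMap _ _ ≫ LiftAffLib.hom cc.Q _ _ _) = _
        rw [trGMap_hom _ _ _ (toUnit _), pt_hom, ← Category.assoc, cc.eqv]) }
  obtain ⟨n, ⟨hn, hl⟩, hu⟩ := QuotTransLib.existsUnique_of_cocones (sv_mem (h := h) A) _ (mk α) (mk β)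
  have hbase : ∀ k : α.Q ⟶ β.Q, (W G).p.IsHomLift (𝟙 _) k ↔ k.base = eqToHom (α.hQ.trans β.hQ.symm) := fun k =>
    ⟨fun hk => by rw [base_of_lift _ k hk α.hQ β.hQ, Category.id_comp, eqToHom_trans],
      fun hk => IsHomLift.of_fac' _ _ _ α.hQ β.hQ (by rw [Category.id_comp, eqToHom_trans]; exact hk)⟩
  have hleg : ∀ k : α.Q ⟶ β.Q, (∀ a, (mk α).leg a ≫ k = (mk β).leg a) ↔ α.σ ≫ k.top = β.σ := fun k => by
    constructor
    · intro hk
      have e0 : 𝟙 (PS (h := h) A) ≫ πS A = chs A (a₀ A) ≫ πS A := by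
        rw [Category.id_comp, chs_π]; rfl
      have := congrArg (fun j => pt j) (hk (a₀ A))
      simp only [pt_comp, mk, pt_hom] at this
      rw [← Category.id_comp (α.σ ≫ k.top), ← Category.assoc, α.σ_eq _ _ e0,
        ← Category.id_comp β.σ, β.σ_eq _ _ e0, ← this]
      simp only [TorsVec.smulPt, Category.assoc, k.eqv]
      rw [← Category.assoc, QuotStLib.lift_whisker, Category.assoc]
    · intro hk a
      refine pt_inj ?_
      simp only [pt_comp, mk, pt_hom, Category.assoc, hk]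
  exact ⟨n, ⟨(hbase n).1 hn, (hleg n).1 hl⟩, fun k hk => hu k ⟨(hbase k).2 hk.1, (hleg k).2 hk.2⟩⟩

variable (Λ A) in
/-- The chosen associated torsor. -/
def assoc : Assoc Λ A := (nonempty_assoc Λ A).some

theorem map_top_π {A' : AlgSt.QuotObj 𝕜 H aX} (k : A' ⟶ A) :
    (Over.map h).map k.top ≫ πS A = πS A' ≫ (Over.map h).map k.base := by
  rw [← Functor.map_comp, ← Functor.map_comp, k.cart.w]

theorem dlt_push {A' : AlgSt.QuotObj 𝕜 H aX} (k : A' ⟶ A) {V : Over S} (s s' : V ⟶ PS (h := h) A')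
    (e : s ≫ πS A' = s' ≫ πS A') :
    dlt Λ A (s ≫ (Over.map h).map k.top) (s' ≫ (Over.map h).map k.top)
        (by rw [Category.assoc, map_top_π, reassoc_of% e, Category.assoc, map_top_π]) = dlt Λ A' s s' e := by
  unfold dlt
  have hl : (map_cart A.cart).lift (s ≫ (Over.map h).map k.top) (s' ≫ (Over.map h).map k.top)
      (by rw [Category.assoc, map_top_π, reassoc_of% e, Category.assoc, map_top_π]) =
      (map_cart A'.cart).lift s s' e ≫ (Over.map h).map (H ◁ k.top) := by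
    refine (map_cart A.cart).hom_ext ?_ ?_
    · rw [IsPullback.lift_fst, Category.assoc, ← Functor.map_comp, ← k.eqv, Functor.map_comp,
        IsPullback.lift_fst_assoc]
    · rw [IsPullback.lift_snd, Category.assoc, ← Functor.map_comp, whiskerLeft_snd, Functor.map_comp,
        IsPullback.lift_snd_assoc]
  rw [hl]
  simp only [Category.assoc, ← Functor.map_comp_assoc, whiskerLeft_fst]

instance : IsFibGrpd (AlgSt.QuotObj.forget 𝕜 G (AlgSt.trivAction G)) := QuotTransLib.isFibGrpd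

theorem existsUnique_over {A' : AlgSt.QuotObj 𝕜 H aX} (k : A' ⟶ A) :
    ∃! n : (assoc Λ A').Q ⟶ (assoc Λ A).Q,
      n.base = eqToHom (assoc Λ A').hQ ≫ (Over.map h).map k.base ≫ eqToHom (assoc Λ A).hQ.symm ∧
        (assoc Λ A').σ ≫ n.top = (Over.map h).map k.top ≫ (assoc Λ A).σ := by
  let α := assoc Λ A
  obtain ⟨B, φ, hB, hφ⟩ := exists_map (AlgSt.QuotObj.forget 𝕜 G (AlgSt.trivAction G))
    ((Over.map h).map k.base ≫ eqToHom α.hQ.symm)
  change φ.base = eqToHom hB ≫ (Over.map h).map k.base ≫ eqToHom α.hQ.symm at hφ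
  have hw : ((Over.map h).map k.top ≫ α.σ) ≫ α.Q.π = (πS A' ≫ eqToHom hB.symm) ≫ φ.base := by
    rw [hφ, Category.assoc, α.σ_π, reassoc_of% (map_top_π k)]
    simp
  let σB := φ.cart.lift ((Over.map h).map k.top ≫ α.σ) (πS A' ≫ eqToHom hB.symm) hw
  let β : Assoc Λ A' :=
    { Q := B, hQ := hB, σ := σB, σ_π := IsPullback.lift_snd _ _ _ _
      eqv := fun {V} s s' e => φ.cart.hom_ext (by
          simp only [TorsVec.smulPt, Category.assoc, φ.eqv]
          rw [← Category.assoc, QuotStLib.lift_whisker, Category.assoc]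
          simp only [σB, IsPullback.lift_fst, ← Category.assoc]
          have := α.eqv (s ≫ (Over.map h).map k.top) (s' ≫ (Over.map h).map k.top)
            (by rw [Category.assoc, map_top_π, reassoc_of% e, Category.assoc, map_top_π])
          rw [dlt_push k s s' e] at this
          simpa only [TorsVec.smulPt] using this)
        (by
          rw [ThetaBGa.smul_π]
          simp only [σB, Category.assoc, IsPullback.lift_snd]
          rw [reassoc_of% e]) }
  obtain ⟨n, ⟨hn, hnσ⟩, hu⟩ := existsUnique_vert (assoc Λ A') β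
  refine ⟨n ≫ φ, ⟨?_, ?_⟩, fun m hm => ?_⟩
  · show n.base ≫ φ.base = _
    rw [hn, hφ, eqToHom_trans_assoc]
  · show (assoc Λ A').σ ≫ n.top ≫ φ.top = _
    rw [reassoc_of% hnσ]
    exact IsPullback.lift_fst _ _ _ _
  · obtain ⟨χ, hχ, hχ'⟩ := exists_fac (AlgSt.QuotObj.forget 𝕜 G (AlgSt.trivAction G)) m φ
      (eqToHom ((assoc Λ A').hQ.trans hB.symm)) (by
        show _ ≫ φ.base = m.base
        rw [hm.1, hφ, eqToHom_trans_assoc])
    have hσ : (assoc Λ A').σ ≫ χ.top = σB := by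
      refine φ.cart.hom_ext ?_ ?_
      · have hm2 := hm.2
        rw [← hχ'] at hm2
        show ((assoc Λ A').σ ≫ χ.top) ≫ φ.top = σB ≫ φ.top
        rw [Category.assoc]
        exact hm2.trans (IsPullback.lift_fst _ _ _ hw).symm
      · show ((assoc Λ A').σ ≫ χ.top) ≫ B.π = σB ≫ B.π
        rw [Category.assoc, χ.cart.w, ← Category.assoc, (assoc Λ A').σ_π,
          show χ.base = eqToHom ((assoc Λ A').hQ.trans hB.symm) from hχ, Category.assoc, eqToHom_trans]
        exact (IsPullback.lift_snd _ _ _ hw).symm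
    rw [← hχ', hu χ ⟨hχ, hσ⟩]

variable (Λ) (aX) in
/-- The functor induced by the homomorphism. -/
def tw : ThetaS.overS h (AlgSt.QuotSt 𝕜 H aX) ⥤ᵇ W G where
  toFunctor :=
    { obj := fun A => (assoc Λ A).Q
      map := fun {A' A} k => (existsUnique_over (Λ := Λ) k).choose
      map_id := fun A => ((existsUnique_over (Λ := Λ) (𝟙 A)).choose_spec.2 _ ⟨by simp, by simp⟩).symm
      map_comp := fun {A B C} k k' => ((existsUnique_over (Λ := Λ) (k ≫ k')).choose_spec.2 _ ⟨by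
          have h₁ := (existsUnique_over (Λ := Λ) k).choose_spec.1.1
          have h₂ := (existsUnique_over (Λ := Λ) k').choose_spec.1.1
          show (existsUnique_over (Λ := Λ) k).choose.base ≫ (existsUnique_over (Λ := Λ) k').choose.base = _
          erw [h₁, h₂]
          simp, by
          have h₁ := (existsUnique_over (Λ := Λ) k).choose_spec.1.2
          have h₂ := (existsUnique_over (Λ := Λ) k').choose_spec.1.2
          simp only [AlgSt.QuotObj.comp_top, reassoc_of% h₁, h₂, Functor.map_comp, Category.assoc]⟩).symm }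
  w := CategoryTheory.Functor.ext (fun A => (assoc Λ A).hQ) fun A' A k =>
    (existsUnique_over (Λ := Λ) k).choose_spec.1.1

variable (Λ) in
/-- The section over the total space. -/
def sigma (A : AlgSt.QuotObj 𝕜 H aX) : PS (h := h) A ⟶ ((tw aX Λ).obj A).P := (assoc Λ A).σ

theorem sigma_π (A : AlgSt.QuotObj 𝕜 H aX) :
    sigma Λ A ≫ ((tw aX Λ).obj A).π = πS A ≫ eqToHom ((tw aX Λ).w_obj A).symm :=
  (assoc Λ A).σ_π

theorem sigma_map {A' A : AlgSt.QuotObj 𝕜 H aX} (k : A' ⟶ A) :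
    sigma Λ A' ≫ ((tw aX Λ).map k).top = (Over.map h).map k.top ≫ sigma Λ A :=
  (existsUnique_over (Λ := Λ) k).choose_spec.1.2

theorem smul_sigma (A : AlgSt.QuotObj 𝕜 H aX) {Z : Over S'} (g : Z ⟶ H) (p : Z ⟶ A.P) :
    (Over.map h).map (smulPt A.act g p) ≫ sigma Λ A =
      smulPt ((tw aX Λ).obj A).act (Λ.app g) ((Over.map h).map p ≫ sigma Λ A) := by
  have e : (Over.map h).map (smulPt A.act g p) ≫ πS A = (Over.map h).map p ≫ πS A := by
    rw [← Functor.map_comp, ← Functor.map_comp, ThetaBGa.smul_π]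
  rw [← dlt_map Λ A g p _ rfl e]
  exact ((assoc Λ A).eqv _ _ e).symm

end ThetaBG
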